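import Groth.Prelude.Def_EtAcyc
import Groth.Agent.Lib.FieldH25.Transfer
import Groth.Agent.Lib.AssPts11.Basic
import Groth.Agent.Lib.EtStalk.Agree
import Mathlib.AlgebraicGeometry.AlgClosed.Basic

/-!
# Finite étale covers of degree prime to the torsion
-/

universe u

open CategoryTheory CategoryTheory.Limits AlgebraicGeometry Opposite CategoryTheory.Abelian
open Groth.Agent Groth.Agent.EtStalk

namespace Groth.Agent.EtAcyc24

/-- The rank is the number of points of a geometric fibre. -/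
theorem finrank_eq {X X' : Scheme.{u}} (f : X' ⟶ X) [IsFinite f] [AlgebraicGeometry.Etale f] (d : ℕ)
    (hd : ∀ (Ω : Type u) [Field Ω] [IsSepClosed Ω] (ξ : Spec (CommRingCat.of Ω) ⟶ X),
      Nat.card ↥(pullback f ξ) = d) (x : X) : f.finrank x = d := by
  let Ω := AlgebraicClosure (X.residueField x)
  let ξ : Spec (CommRingCat.of Ω) ⟶ X :=
    Spec.map (CommRingCat.ofHom (algebraMap (X.residueField x) Ω)) ≫ X.fromSpecResidueField x
  have hξ : Weight.pt ξ = x := by
    show ξ (IsLocalRing.closedPoint Ω) = x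
    rw [Scheme.Hom.comp_apply]
    exact Scheme.fromSpecResidueField_apply _ _
  rw [← hξ, ← ExtShriek24.card_lifts_eq_finrank, ← hd Ω ξ]
  let h := pullback.snd f ξ
  have hall : ∀ z : ↥(pullback f ξ), IsClosed ({z} : Set ↥(pullback f ξ)) := by
    intro z
    rw [← closure_eq_iff_isClosed]
    refine le_antisymm (fun w hw => ?_) subset_closure
    exact AssPts11.eq_of_specializes_of_isIntegralHom h (specializes_iff_mem_closure.2 hw) (Subsingleton.elim _ _)
  refine Nat.card_congr ((Equiv.trans ?_ (pointEquivClosedPoint h)).trans (Equiv.subtypeUnivEquiv fun z => hall z))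
  exact
    { toFun := fun a => ⟨pullback.lift a.1 (𝟙 _) (by rw [a.2, Category.id_comp]), pullback.lift_snd _ _ _⟩
      invFun := fun p => ⟨p.1 ≫ pullback.fst f ξ, by
        rw [Category.assoc, pullback.condition, ← Category.assoc, p.2, Category.id_comp]⟩
      left_inv := fun a => Subtype.ext (pullback.lift_fst _ _ _)
      right_inv := fun p => Subtype.ext (pullback.hom_ext (pullback.lift_fst _ _ _)
        ((pullback.lift_snd _ _ _).trans p.2.symm)) }

variable {X : Scheme.{u}}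

lemma nsmul_id_app (F : EtCoh.Ab X) (d : ℕ) (U : X.Etaleᵒᵖ) (s : F.obj.obj U) :
    (d • 𝟙 F : F ⟶ F).hom.app U s = d • s := by
  induction d with
  | zero => rw [zero_nsmul, zero_nsmul]; rfl
  | succ k ih => rw [succ_nsmul, succ_nsmul, ← ih]; rfl

/-- Multiplication by a number prime to the torsion is an automorphism. -/
theorem isIso_nsmul_id (L : Set ℕ) (F : EtCoh.Ab X) (hF : EtAcyc.IsLTorsion L F) (d : ℕ)
    (hL : ∀ p : ℕ, p.Prime → p ∈ L → ¬ p ∣ d) : IsIso (d • 𝟙 F) := by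
  have hco : ∀ m, EtAcyc.PrimesIn L m → Nat.Coprime m d := fun m hm =>
    Nat.coprime_of_dvd fun p hp hpm hpd => hL p hp (hm.2 p hp hpm) hpd
  have : Mono (d • 𝟙 F) := by
    rw [Sheaf.Hom.mono_iff_presheaf_mono, NatTrans.mono_iff_mono_app]
    intro U
    rw [AddCommGrpCat.mono_iff_injective, injective_iff_map_eq_zero]
    intro s hs
    rw [nsmul_id_app] at hs
    refine eq_of_agree F fun x => ?_
    obtain ⟨V, g, m, ⟨v, hv⟩, hm, he⟩ := hF U.unop s x
    refine ⟨V, g, ⟨v, hv⟩, ?_⟩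
    have h1 : d • F.obj.map g.op s = 0 := by rw [← map_nsmul, hs, map_zero]
    rw [map_zero]
    exact AddMonoid.addOrderOf_eq_one_iff.1 (Nat.eq_one_of_dvd_coprimes (hco m hm)
      (addOrderOf_dvd_of_nsmul_eq_zero he) (addOrderOf_dvd_of_nsmul_eq_zero h1))
  have : Epi (d • 𝟙 F) := by
    rw [← Sheaf.isLocallySurjective_iff_epi' _ (d • 𝟙 F)]
    refine ⟨fun {U} s => ?_⟩
    rw [EtSite.mem_et_iff]
    intro x
    obtain ⟨V, g, m, ⟨v, hv⟩, hm, he⟩ := hF U s x
    refine ⟨V, g, v, ⟨Nat.gcdB m d • F.obj.map g.op s, ?_⟩, hv⟩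
    rw [nsmul_id_app]
    have h := Nat.gcd_eq_gcd_ab m d
    rw [hco m hm] at h
    have h2 : (F.obj.map g.op s) = ((m : ℤ) * Nat.gcdA m d + (d : ℤ) * Nat.gcdB m d) • F.obj.map g.op s := by
      rw [← h, Nat.cast_one, one_zsmul]
    rw [add_zsmul, mul_comm (m : ℤ), mul_zsmul, natCast_zsmul, he, zsmul_zero, zero_add, mul_zsmul,
      natCast_zsmul] at h2
    exact h2.symm
  exact isIso_of_mono_of_epi _

theorem H_subsingleton {X' : Scheme.{u}} (f : X' ⟶ X) [IsFinite f] [AlgebraicGeometry.Etale f]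
    (d : ℕ) (hd : ∀ (Ω : Type u) [Field Ω] [IsSepClosed Ω] (ξ : Spec (CommRingCat.of Ω) ⟶ X),
      Nat.card ↥(pullback f ξ) = d)
    (L : Set ℕ) (hL : ∀ p : ℕ, p.Prime → p ∈ L → ¬ p ∣ d) (F : EtCoh.Ab X) (hF : EtAcyc.IsLTorsion L F)
    [PreservesFiniteLimits (EtCoh.pull f)] (q : ℕ)
    (h : Subsingleton (EtCoh.H X' ((EtCoh.pull f).obj F) q)) :
    Subsingleton (EtCoh.H X F q) := by
  refine subsingleton_of_forall_eq 0 fun x => ?_
  have h1 := FieldH25.nsmul_eq_zero_of_Hpull_eq_zero f d (finrank_eq f d hd) F q x (Subsingleton.elim _ _)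
  have := isIso_nsmul_id L F hF d hL
  refine FieldH25.eq_zero_of_comp_iso x (asIso (d • 𝟙 F)) ?_
  exact (FieldH25.H_map_nsmul_id F d q x).trans h1

end Groth.Agent.EtAcyc24
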