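import Groth.Agent.Lib.EtLim24.Base
import Groth.Agent.Lib.EtStalk.IntegralBC
import Groth.Agent.Lib.FieldH25.Transfer
import Groth.Agent.Lib.EtAcyc24.Coprime

/-!
# Acyclicity and base change along integral morphisms
-/

set_option autoImplicit false
set_option linter.style.haveILetI false
set_option linter.unusedSectionVars false
set_option backward.isDefEq.respectTransparency.types false

universe u

open CategoryTheory CategoryTheory.Limits AlgebraicGeometry Opposite CategoryTheory.Abelian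

namespace Groth.Agent.EtAcyc24

open Groth.Agent.EtStalk Groth.Agent.EtLim24

variable {A B W Z : Scheme.{u}} {h : A ⟶ W} {h' : B ⟶ Z} {π : Z ⟶ W} {π' : B ⟶ A}

/-- Maps to cohomology of direct images and base change. -/
theorem HofPush_baseChange0 (w : h' ≫ π = π' ≫ h) [PreservesFiniteLimits (EtCoh.pull h)]
    [PreservesFiniteLimits (EtCoh.pull h')] [PreservesFiniteLimits (EtCoh.pull π)]
    [PreservesFiniteLimits (EtCoh.pull π')] [PreservesFiniteLimits (EtCoh.pull (π' ≫ h))]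
    (G : EtCoh.Ab Z) (n : ℕ) (x : EtCoh.H W ((EtCoh.push π).obj G) n) :
    EtLim.HofPush π' ((EtCoh.pull h').obj G) n
        (EtLim.HpullThen h ((EtCoh.push π).obj G) (EtCoh.baseChange0 π h π' h' w G) n x) =
      EtCore.Hpull h' G n (EtLim.HofPush π G n x) := by
  let M := (EtCoh.pull h').obj G
  have hr : EtCore.Hpull h' G n (EtLim.HofPush π G n x) =
      EtLim.HofPush h' M n ((EtLim.HofPush π G n x).comp
        (Ext.mk₀ ((EtCoh.pullPushAdj h').homEquiv G M (𝟙 _))) (add_zero n)) := by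
    rw [HofPush_transpose h' (𝟙 _) n]
    exact (Ext.comp_mk₀_id _).symm
  rw [hr, ← HofPush_comp π, ← HofPush_pc π h' (π' ≫ h) w M n,
    ← HofPush_transpose h (EtCoh.baseChange0 π h π' h' w G) n x, ← HofPush_pc h π' (π' ≫ h) rfl M n,
    Ext.comp_assoc_of_third_deg_zero, Ext.comp_assoc_of_third_deg_zero, Ext.mk₀_comp_mk₀, Ext.mk₀_comp_mk₀]
  refine congrArg (fun t => EtLim.HofPush (π' ≫ h) M n (x.comp (Ext.mk₀ t) (add_zero n))) ?_
  rw [EtCoh.baseChange0, Equiv.apply_symm_apply, Adjunction.homEquiv_unit]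
  simp [pc, pushCongr_refl_hom, Category.assoc]
  erw [Iso.inv_hom_id_app, Category.comp_id]

/-- A constant sheaf with coefficients modulo `ℓ` is killed by `ℓ`. -/
theorem nsmul_id_const (X : Scheme.{u}) (ℓ : ℕ) : (ℓ • 𝟙 (EtCoh.const X (ZMod ℓ))) = 0 := by
  show (ℓ • 𝟙 ((LocAcyc24.cs X).obj (AddCommGrpCat.of (ULift.{u + 1} (ZMod ℓ))))) = 0
  rw [← CategoryTheory.Functor.map_id, ← Functor.map_nsmul]
  have e : (ℓ • 𝟙 (AddCommGrpCat.of (ULift.{u + 1} (ZMod ℓ)))) = 0 := by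
    ext a
    show (ℓ • a : ULift.{u + 1} (ZMod ℓ)).down = 0
    simp
  rw [e, Functor.map_zero]

/-- The inverse image of a sheaf killed by `ℓ` is killed by `ℓ`. -/
theorem nsmul_id_pull {X Y : Scheme.{u}} (f : X ⟶ Y) {F : EtCoh.Ab Y} {ℓ : ℕ} (h0 : (ℓ • 𝟙 F) = 0) :
    (ℓ • 𝟙 ((EtCoh.pull f).obj F)) = 0 := by
  haveI : (EtCoh.pull f).Additive := (EtCoh.pullPushAdj f).left_adjoint_additive
  rw [← CategoryTheory.Functor.map_id, ← Functor.map_nsmul, h0, Functor.map_zero]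

/-- The direct image of a sheaf killed by a prime in `L` is `L`-torsion. -/
theorem isLTorsion_push_of_smul (π : Z ⟶ W) (L : Set ℕ) {ℓ : ℕ} (hℓ : ℓ.Prime) (hL : ℓ ∈ L) (G : EtCoh.Ab Z)
    (h0 : (ℓ • 𝟙 G) = 0) : EtAcyc.IsLTorsion L ((EtCoh.push π).obj G) := by
  intro U s x
  refine ⟨U, 𝟙 U, ℓ, ⟨x, rfl⟩, ⟨hℓ.pos, fun p hp hpd => ((Nat.prime_dvd_prime_iff_eq hp hℓ).1 hpd).symm ▸ hL⟩, ?_⟩
  rw [op_id, CategoryTheory.Functor.map_id]
  show ℓ • s = 0
  let s' : G.obj.obj (op ((EtCoh.bc π).obj U)) := s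
  have h1 := nsmul_id_app G ℓ _ s'
  rw [h0] at h1
  exact h1.symm

/-- The transpose of the composition isomorphism. -/
noncomputable abbrev viaT {A B C : Scheme.{u}} (f : A ⟶ B) (t : B ⟶ C) (f₀ : A ⟶ C) (w : f ≫ t = f₀)
    (F : EtCoh.Ab C) : (EtCoh.pull t).obj F ⟶ (EtCoh.push f).obj ((EtCoh.pull f₀).obj F) :=
  (EtCoh.pullPushAdj f).homEquiv _ _ ((pullT f t f₀ w).inv.app F)

lemma rho_viaT {A B C : Scheme.{u}} (f : A ⟶ B) (t : B ⟶ C) (f₀ : A ⟶ C) (w : f ≫ t = f₀) (F : EtCoh.Ab C) :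
    (EtCoh.pullPushAdj t).homEquiv F _ (𝟙 _) ≫ (EtCoh.push t).map (viaT f t f₀ w F) ≫
      (pc f t f₀ w).hom.app _ = (EtCoh.pullPushAdj f₀).homEquiv F _ (𝟙 _) := by
  rw [transpose_comp]
  refine congrArg ((EtCoh.pullPushAdj f₀).homEquiv F _) ?_
  rw [CategoryTheory.Functor.map_id]
  erw [Category.id_comp]
  exact Iso.hom_inv_id_app _ _

/-- Pullbacks on cohomology along composites. -/
theorem HpullVia_comp {A B C D : Scheme.{u}} (f : A ⟶ B) (g : B ⟶ C) (k : A ⟶ C) (hk : f ≫ g = k) (t : C ⟶ D)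
    (tB : B ⟶ D) (ht : g ≫ t = tB) (f₀ : A ⟶ D) (hf : f ≫ tB = f₀) (hk' : k ≫ t = f₀)
    [PreservesFiniteLimits (EtCoh.pull f)] [PreservesFiniteLimits (EtCoh.pull g)]
    [PreservesFiniteLimits (EtCoh.pull k)] (F : EtCoh.Ab D) (n : ℕ)
    (x : EtCoh.H C ((EtCoh.pull t).obj F) n) :
    EtCore.HpullVia f tB f₀ hf F n (EtCore.HpullVia g t tB ht F n x) = EtCore.HpullVia k t f₀ hk' F n x := by
  have key : ∀ {P Q : Scheme.{u}} (r : P ⟶ Q) (t' : Q ⟶ D) (r₀ : P ⟶ D) (w : r ≫ t' = r₀)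
      [PreservesFiniteLimits (EtCoh.pull r)] (z : EtCoh.H Q ((EtCoh.pull t').obj F) n),
      EtCore.HpullVia r t' r₀ w F n z =
        EtLim.HofPush r _ n (z.comp (Ext.mk₀ (viaT r t' r₀ w F)) (add_zero n)) := by
    intro P Q r t' r₀ w _ z
    exact (HofPush_transpose r _ n z).symm
  rw [key f, key g, key k, ← HofPush_comp g, ← HofPush_pc g f k hk, Ext.comp_assoc_of_third_deg_zero,
    Ext.comp_assoc_of_third_deg_zero, Ext.mk₀_comp_mk₀, Ext.mk₀_comp_mk₀]
  refine congrArg (fun q => EtLim.HofPush k _ n (x.comp (Ext.mk₀ q) (add_zero n))) ?_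
  refine eq_of_transpose t ?_
  rw [← cancel_mono ((pc k t f₀ hk').hom.app ((EtCoh.pull f₀).obj F)), Category.assoc]
  conv_rhs => rw [Category.assoc, rho_viaT]
  have hA := pc_assoc f g t k tB f₀ hk ht hk' hf ((EtCoh.pull f₀).obj F)
  simp only [Functor.map_comp, Category.assoc]
  erw [hA]
  have hn := (pc g t tB ht).hom.naturality (viaT f tB f₀ hf F)
  erw [← Category.assoc ((EtCoh.push t).map ((EtCoh.push g).map _)), hn]
  exact (assoc₄ _ _ _ _ _ _ (rho_viaT g t tB ht F)).trans (rho_viaT f tB f₀ hf F)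

/-- Pullback on cohomology is bijective after a base change along an integral morphism. -/
theorem bijective_Hpull_of_integral [IsIntegralHom π] (sq : IsPullback h' π' π h) (L : Set ℕ) (n : ℕ)
    (hc : EtAcyc.CompN h L n) [PreservesFiniteLimits (EtCoh.pull h)] [PreservesFiniteLimits (EtCoh.pull h')]
    (G : EtCoh.Ab Z) (hG : EtAcyc.IsLTorsion L ((EtCoh.push π).obj G)) (q : ℕ) (hq : q ≤ n) :
    Function.Bijective (EtCore.Hpull h' G q) := by
  haveI : IsIntegralHom π' := MorphismProperty.of_isPullback sq ‹IsIntegralHom π›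
  have h1 := FieldH25.bijective_HofPush_integral π G q
  have h2 := FieldH25.bijective_HofPush_integral π' ((EtCoh.pull h').obj G) q
  have h3 : Function.Bijective
      (EtLim.HpullThen h ((EtCoh.push π).obj G) (EtCoh.baseChange0 π h π' h' sq.w G) q) := by
    haveI := isIso_baseChange0_integral π h π' h' sq G
    exact (ConcreteCategory.bijective_of_isIso
      ((EtCoh.HF A q).map (EtCoh.baseChange0 π h π' h' sq.w G))).comp ((hc _ hG).1 q hq)
  refine (Function.Bijective.of_comp_iff _ h1).1 ?_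
  have e : EtCore.Hpull h' G q ∘ EtLim.HofPush π G q = EtLim.HofPush π' ((EtCoh.pull h').obj G) q ∘
      EtLim.HpullThen h ((EtCoh.push π).obj G) (EtCoh.baseChange0 π h π' h' sq.w G) q :=
    funext fun x => (HofPush_baseChange0 sq.w G q x).symm
  rw [e]
  exact h2.comp h3

end Groth.Agent.EtAcyc24
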