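import Groth.Prelude.Def_EtAcyc
import Groth.Agent.Lib.EtSite.Sheaf
import Mathlib.Algebra.Homology.DerivedCategory.Ext.ExactSequences
import Mathlib.CategoryTheory.Sites.EpiMono

/-!
# Classes coming from a subsheaf under the comparison condition
-/

universe u

open CategoryTheory CategoryTheory.Limits AlgebraicGeometry Opposite CategoryTheory.Abelian
open Groth.Agent

namespace Groth.Agent.EtAcyc24

variable {X Y : Scheme.{u}}

lemma isLTorsion_of_epi (L : Set ℕ) {G Q : EtCoh.Ab X} (π : G ⟶ Q) [Epi π] (hG : EtAcyc.IsLTorsion L G) :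
    EtAcyc.IsLTorsion L Q := by
  intro U s x
  have : Sheaf.IsLocallySurjective π := (Sheaf.isLocallySurjective_iff_epi' _ π).2 inferInstance
  have h := Presheaf.imageSieve_mem X.smallEtaleTopology π.hom (U := op U) s
  rw [EtSite.mem_et_iff] at h
  obtain ⟨V, g, v, ⟨t, ht⟩, hv⟩ := h x
  obtain ⟨W, k, m, ⟨w, hw⟩, hm, hk⟩ := hG V t v
  refine ⟨W, k ≫ g, m, ⟨w, (congrArg g.left hw).trans hv⟩, hm, ?_⟩
  rw [op_comp, Functor.map_comp_apply]
  show m • Q.obj.map k.op (Q.obj.map g.op s) = 0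
  rw [← ht, ← NatTrans.naturality_apply, ← map_nsmul, hk, map_zero]

variable (h : Y ⟶ X) [PreservesFiniteLimits (EtCoh.pull h)]

lemma Hpull_comp {F G : EtCoh.Ab X} {a b n : ℕ} (x : EtCoh.H X F a) (y : Ext F G b) (hab : a + b = n) :
    EtCore.Hpull h G n (x.comp y hab) = (EtCore.Hpull h F a x).comp (y.mapExactFunctor (EtCoh.pull h)) hab := by
  show (Ext.mk₀ _).comp ((x.comp y hab).mapExactFunctor (EtCoh.pull h)) (zero_add n) =
    ((Ext.mk₀ _).comp (x.mapExactFunctor (EtCoh.pull h)) (zero_add a)).comp _ hab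
  rw [Ext.mapExactFunctor_comp]
  exact (Ext.comp_assoc _ _ _ (zero_add a) hab (by lia)).symm

lemma HF_map_eq {F G : EtCoh.Ab X} (u : F ⟶ G) (n : ℕ) (x : EtCoh.H X F n) :
    (EtCoh.HF X n).map u x = x.comp (Ext.mk₀ u) (add_zero n) := rfl

theorem mem_range_Hpull_succ (L : Set ℕ) (n : ℕ) (hc : EtAcyc.CompN h L n)
    {F G : EtCoh.Ab X} (u : F ⟶ G) [Mono u]
    (hF : EtAcyc.IsLTorsion L F) (hG : EtAcyc.IsLTorsion L G)
    (ξ : EtCoh.H Y ((EtCoh.pull h).obj F) (n + 1))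
    (hξ : (EtCoh.HF Y (n + 1)).map ((EtCoh.pull h).map u) ξ ∈ Set.range (EtCore.Hpull h G (n + 1))) :
    ξ ∈ Set.range (EtCore.Hpull h F (n + 1)) := by
  let S := ShortComplex.mk u (cokernel.π u) (cokernel.condition u)
  have hS : S.ShortExact := { exact := ShortComplex.exact_cokernel u }
  have hQ : EtAcyc.IsLTorsion L S.X₃ := isLTorsion_of_epi L (cokernel.π u) hG
  obtain ⟨hcb, hci⟩ := hc S.X₃ hQ
  obtain ⟨s, hs⟩ := hξ
  rw [HF_map_eq] at hs
  have hs₀ : s.comp (Ext.mk₀ S.g) (add_zero _) = 0 := by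
    refine hci ?_
    rw [Hpull_comp, Ext.mapExactFunctor_mk₀, map_zero]
    erw [hs]
    rw [Ext.comp_assoc_of_third_deg_zero, Ext.mk₀_comp_mk₀, ← Functor.map_comp, cokernel.condition,
      Functor.map_zero, Ext.mk₀_zero, Ext.comp_zero]
  obtain ⟨t, ht⟩ := Ext.covariant_sequence_exact₂ _ hS s hs₀
  have h0 : (ξ - EtCore.Hpull h F (n + 1) t).comp (Ext.mk₀ (S.map (EtCoh.pull h)).f) (add_zero _) = 0 := by
    refine (map_sub ((Ext.mk₀ (S.map (EtCoh.pull h)).f).postcomp _ (add_zero _)) ξ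
      (EtCore.Hpull h F (n + 1) t)).trans (sub_eq_zero.2 ?_)
    have := congrArg (EtCore.Hpull h G (n + 1)) ht
    rw [Hpull_comp, Ext.mapExactFunctor_mk₀] at this
    exact hs.symm.trans this.symm
  obtain ⟨η, hη⟩ := Ext.covariant_sequence_exact₁ _ (hS.map_of_exact (EtCoh.pull h)) _ h0 (n₀ := n) rfl
  obtain ⟨η', rfl⟩ := (hcb n le_rfl).2 η
  refine ⟨t + η'.comp hS.extClass rfl, ?_⟩
  rw [map_add, Hpull_comp, Ext.mapExactFunctor_extClass]
  exact (congrArg (EtCore.Hpull h F (n + 1) t + ·) hη).trans (add_sub_cancel _ _)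

end Groth.Agent.EtAcyc24
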