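import Groth.Agent.Lib.EtAcyc24.QuasiFiniteBase
import Groth.Agent.Lib.EtAcyc24.CompN
import Groth.Agent.Lib.Embed24.Efface
import Groth.Agent.Lib.LocAcyc24.TorsionConst
import Mathlib.GroupTheory.FiniteAbelian.Basic

/-!
# A criterion for acyclicity in terms of constant sheaves on quasi-finite schemes over the target
-/

set_option autoImplicit false
set_option linter.style.haveILetI false
set_option linter.unusedSectionVars false
set_option backward.isDefEq.respectTransparency.types false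

universe u

open CategoryTheory CategoryTheory.Limits AlgebraicGeometry Opposite CategoryTheory.Abelian

namespace Groth.Agent.EtAcyc24

open Groth.Agent.EtStalk Groth.Agent.EtLim24

variable {X Y : Scheme.{u}}

/-- A sheaf killed by a number with prime factors in `L` is `L`-torsion. -/
theorem isLTorsion_of_nsmul (L : Set ℕ) {m : ℕ} (hm : EtAcyc.PrimesIn L m) {F : EtCoh.Ab X}
    (h0 : m • 𝟙 F = 0) : EtAcyc.IsLTorsion L F := by
  intro U s x
  refine ⟨U, 𝟙 U, m, ⟨x, rfl⟩, hm, ?_⟩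
  rw [op_id, CategoryTheory.Functor.map_id]
  show m • s = 0
  have h1 := nsmul_id_app F m _ s
  rw [h0] at h1
  exact h1.symm

/-- Splitting off the part with prime factors in `L`. -/
theorem exists_primesIn_mul (L : Set ℕ) : ∀ m : ℕ, 0 < m →
    ∃ a b, m = a * b ∧ EtAcyc.PrimesIn L a ∧ ∀ p : ℕ, p.Prime → p ∈ L → ¬ p ∣ b := by
  intro m
  induction m using Nat.strong_induction_on with
  | _ m ih =>
    intro hm
    by_cases h : ∃ p : ℕ, p.Prime ∧ p ∈ L ∧ p ∣ m
    · obtain ⟨p, hp, hpL, k, rfl⟩ := h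
      have hk : 0 < k := Nat.pos_of_mul_pos_left hm
      obtain ⟨a, b, rfl, ha, hb⟩ := ih k (lt_mul_of_one_lt_left hk hp.one_lt) hk
      refine ⟨p * a, b, (mul_assoc _ _ _).symm, ⟨mul_pos hp.pos ha.1, fun r hr hd => ?_⟩, hb⟩
      rcases hr.dvd_mul.1 hd with hd | hd
      · exact ((Nat.prime_dvd_prime_iff_eq hr hp).1 hd).symm ▸ hpL
      · exact ha.2 r hr hd
    · exact ⟨1, m, (one_mul m).symm, ⟨one_pos, fun p hp hd => absurd hd hp.not_dvd_one⟩,
        fun p hp hpL hd => h ⟨p, hp, hpL, hd⟩⟩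

/-- Maps from torsion sheaves kill the part prime to `L`. -/
theorem eq_zero_of_nsmul (L : Set ℕ) {F G : EtCoh.Ab X} (hF : EtAcyc.IsLTorsion L F) (φ : F ⟶ G) (d : ℕ)
    (hd : ∀ p : ℕ, p.Prime → p ∈ L → ¬ p ∣ d) (h : d • φ = 0) : φ = 0 := by
  haveI := isIso_nsmul_id L F hF d hd
  rw [← cancel_epi (d • 𝟙 F), Preadditive.nsmul_comp, Category.id_comp, h, comp_zero]

/-- Sums of direct images of finite constant `L`-primary sheaves receive constructible sheaves
injectively on `L`-torsion subsheaves. -/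
theorem exists_L_embedding [CompactSpace Y] [QuasiSeparatedSpace Y] (L : Set ℕ) {F G : EtCoh.Ab Y}
    (hF : EtAcyc.IsLTorsion L F) (hG : EtPBC.IsConstructible G) (u : F ⟶ G) [Mono u] :
    ∃ (κ : Type) (_ : Fintype κ) (Z : κ → Scheme.{u}) (f : ∀ k, Z k ⟶ Y) (_ : ∀ k, IsFinite (f k))
      (_ : ∀ k, LocallyOfFinitePresentation (f k)) (ℓ ν : κ → ℕ) (_ : ∀ k, (ℓ k).Prime ∧ ℓ k ∈ L ∧ 1 ≤ ν k)
      (w : G ⟶ ⨁ fun k => (EtCoh.push (f k)).obj (EtCoh.const (Z k) (ZMod (ℓ k ^ ν k)))), Mono (u ≫ w) := by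
  classical
  obtain ⟨n, Z, f, hf, hfp, M, hMg, hM, ι, hι⟩ := Embed24.exists_embedding hG
  choose J hJ p hp e hdec using fun i => AddCommGroup.equiv_directSum_zmod_of_finite (M i)
  let d := fun i => (hdec i).some
  let K := {x : Σ i, J i // p x.1 x.2 ∈ L ∧ 1 ≤ e x.1 x.2}
  let π₀ : ∀ i j, M i →+ ZMod (p i j ^ e i j) := fun i j =>
    (DFinsupp.evalAddMonoidHom j).comp (d i).toAddMonoidHom
  let ι₀ : ∀ i j, ZMod (p i j ^ e i j) →+ M i := fun i j =>
    (d i).symm.toAddMonoidHom.comp (DirectSum.of (fun j => ZMod (p i j ^ e i j)) j)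
  let A : ∀ i, AddCommGrpCat.{u + 1} := fun i => AddCommGrpCat.of (ULift.{u + 1} (M i))
  let B : ∀ i, J i → AddCommGrpCat.{u + 1} := fun i j => AddCommGrpCat.of (ULift.{u + 1} (ZMod (p i j ^ e i j)))
  let πA : ∀ i j, A i ⟶ B i j := fun i j => AddCommGrpCat.ofHom
    (AddEquiv.ulift.symm.toAddMonoidHom.comp ((π₀ i j).comp AddEquiv.ulift.toAddMonoidHom))
  let ιA : ∀ i j, B i j ⟶ A i := fun i j => AddCommGrpCat.ofHom
    (AddEquiv.ulift.symm.toAddMonoidHom.comp ((ι₀ i j).comp AddEquiv.ulift.toAddMonoidHom))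
  have htot : ∀ i, ∑ j, πA i j ≫ ιA i j = 𝟙 (A i) := fun i => by
    ext a
    rw [AddCommGrpCat.hom_id]
    show (AddEquiv.ulift.toAddMonoidHom ((∑ j, πA i j ≫ ιA i j).hom a)) = a.down
    rw [show (∑ j, πA i j ≫ ιA i j).hom = ∑ j, (πA i j ≫ ιA i j).hom from map_sum AddCommGrpCat.homAddEquiv _ _,
      AddMonoidHom.finsetSum_apply, map_sum]
    show ∑ j, (d i).symm (DirectSum.of (fun j => ZMod (p i j ^ e i j)) j (d i a.down j)) = a.down
    rw [← map_sum, DirectSum.sum_univ_of, AddEquiv.symm_apply_apply]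
  let T : ∀ i, AddCommGrpCat.{u + 1} ⥤ EtCoh.Ab Y := fun i => LocAcyc24.cs (Z i) ⋙ EtCoh.push (f i)
  haveI hT : ∀ i, (T i).Additive := fun i => by
    haveI : (EtCoh.push (f i)).Additive := (EtCoh.pullPushAdj (f i)).right_adjoint_additive
    infer_instance
  let c : ∀ x : Σ i, J i, G ⟶ (T x.1).obj (B x.1 x.2) := fun x =>
    (ι ≫ biproduct.π (fun i => (EtCoh.push (f i)).obj (EtCoh.const (Z i) (M i))) x.1) ≫ (T x.1).map (πA x.1 x.2)
  have hjoint : ∀ {P : EtCoh.Ab Y} (a : P ⟶ G), (∀ x, a ≫ c x = 0) → a = 0 := fun a ha => by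
    rw [← cancel_mono ι, zero_comp]
    refine biproduct.hom_ext _ _ fun i => ?_
    rw [zero_comp, Category.assoc]
    let b := a ≫ ι ≫ biproduct.π (fun i => (EtCoh.push (f i)).obj (EtCoh.const (Z i) (M i))) i
    show b = 0
    have hb : b ≫ (T i).map (𝟙 (A i)) = 0 := by
      rw [← htot i, Functor.map_sum, Preadditive.comp_sum]
      refine Finset.sum_eq_zero fun j _ => ?_
      rw [Functor.map_comp]
      have h := ha ⟨i, j⟩
      simp only [c, Category.assoc] at h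
      simp only [b, Category.assoc]
      erw [reassoc_of% h]
      exact zero_comp
    rw [CategoryTheory.Functor.map_id] at hb
    exact (Category.comp_id b).symm.trans hb
  have hdrop : ∀ x : Σ i, J i, ¬ (p x.1 x.2 ∈ L ∧ 1 ≤ e x.1 x.2) → u ≫ c x = 0 := fun x hx => by
    refine eq_zero_of_nsmul L hF (u ≫ c x) (p x.1 x.2 ^ e x.1 x.2) (fun r hr hrL hd => hx ⟨?_, ?_⟩) ?_
    · exact ((Nat.prime_dvd_prime_iff_eq hr (hp x.1 x.2)).1 (hr.dvd_of_dvd_pow hd)) ▸ hrL
    · rcases Nat.eq_zero_or_pos (e x.1 x.2) with h0 | h0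
      · rw [h0, pow_zero] at hd
        exact absurd hd hr.not_dvd_one
      · exact h0
    · have h0 : (p x.1 x.2 ^ e x.1 x.2) • 𝟙 (B x.1 x.2) = 0 := by
        ext a
        show ((p x.1 x.2 ^ e x.1 x.2) • a : ULift.{u + 1} (ZMod (p x.1 x.2 ^ e x.1 x.2))).down = 0
        simp
      calc (p x.1 x.2 ^ e x.1 x.2) • (u ≫ c x) = (u ≫ c x) ≫ (T x.1).map ((p x.1 x.2 ^ e x.1 x.2) • 𝟙 (B x.1 x.2)) := by
            rw [Functor.map_nsmul, CategoryTheory.Functor.map_id, Preadditive.comp_nsmul, Category.comp_id]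
        _ = 0 := by rw [h0, Functor.map_zero, comp_zero]
  refine ⟨K, inferInstance, fun k => Z k.1.1, fun k => f k.1.1, fun k => hf _, fun k => hfp _,
    fun k => p k.1.1 k.1.2, fun k => e k.1.1 k.1.2, fun k => ⟨hp _ _, k.2⟩, biproduct.lift fun k : K => c k.1, ?_⟩
  refine Preadditive.mono_of_cancel_zero _ fun {P} a ha => (cancel_mono u).1 ?_
  rw [zero_comp]
  refine hjoint _ fun x => ?_
  by_cases hx : p x.1 x.2 ∈ L ∧ 1 ≤ e x.1 x.2
  · have h := congrArg (fun q => q ≫ biproduct.π _ (⟨x, hx⟩ : K)) ha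
    simp only [Category.assoc, biproduct.lift_π, zero_comp] at h
    rw [Category.assoc]
    exact h
  · rw [Category.assoc, hdrop x hx, comp_zero]

/-- The unit is a monomorphism for a surjective morphism. -/
theorem mono_unit_of_surjective [CompactSpace Y] [QuasiSeparatedSpace Y] (g : X ⟶ Y) (hg : Function.Surjective g.base) (F : EtCoh.Ab Y) :
    Mono ((EtCoh.pullPushAdj g).unit.app F) := by
  let v : F ⟶ (EtCoh.push g).obj ((EtCoh.pull g).obj F) := (EtCoh.pullPushAdj g).unit.app F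
  show Mono v
  refine Preadditive.mono_of_isZero_kernel v ?_
  rw [isZero_iff_stalk]
  intro Θ _ _ ξ
  obtain ⟨x, hx⟩ := hg (ξ default)
  let Ω := SeparableClosure (X.residueField x)
  haveI : IsSepClosed (IsLocalRing.ResidueField Ω) := EtDesc24.isSepClosed_residueField _
  haveI : (EtCoh.pull g).Additive := (EtCoh.pullPushAdj g).left_adjoint_additive
  haveI : IsSplitMono ((EtCoh.pull g).map v) :=
    ⟨⟨⟨(EtCoh.pullPushAdj g).counit.app _, (EtCoh.pullPushAdj g).left_triangle_components F⟩⟩⟩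
  have hk : IsZero ((EtCoh.pull g).obj (kernel v)) :=
    IsZero.of_iso (isZero_kernel_of_mono _) (PreservesKernel.iso (EtCoh.pull g) v)
  let η := closedPt Ω ≫ Embed24.pt X x Ω
  have h0 : Subsingleton ((EtCoh.stalk (η ≫ g)).obj (kernel v)) := by
    haveI := AddCommGrpCat.subsingleton_of_isZero ((isZero_iff_stalk _).1 hk _ η)
    exact (Equiv.ofBijective _
      (ConcreteCategory.bijective_of_isIso (stalkPull g η (kernel v)))).subsingleton
  refine Constr24.isZero_stalk_congr ξ (η ≫ g) ?_ h0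
  rw [Scheme.Hom.comp_apply, Scheme.Hom.comp_apply, Embed24.pt_apply]
  exact hx.symm

lemma eq_zero_of_comp_mono {A F G : EtCoh.Ab X} (u : F ⟶ G) [Mono u] (x : Ext A F 0)
    (h : x.comp (Ext.mk₀ u) (add_zero 0) = 0) : x = 0 := by
  obtain ⟨φ, rfl⟩ := (Ext.mk₀_bijective _ _).2 x
  rw [Ext.mk₀_comp_mk₀, ← Ext.mk₀_zero] at h
  rw [(cancel_mono u).1 (((Ext.mk₀_bijective _ _).1 h).trans zero_comp.symm), Ext.mk₀_zero]

/-- Inverse images are injective on global sections for surjective morphisms. -/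
theorem injective_Hpull_zero [CompactSpace Y] [QuasiSeparatedSpace Y] (g : X ⟶ Y) [PreservesFiniteLimits (EtCoh.pull g)] (hg : Function.Surjective g.base)
    (F : EtCoh.Ab Y) : Function.Injective (EtCore.Hpull g F 0) := by
  rw [injective_iff_map_eq_zero]
  intro x hx
  obtain ⟨φ, rfl⟩ := (Ext.mk₀_bijective _ _).2 x
  have h : (Ext.mk₀ (EtCore.pullConst g ℤ).inv).comp ((Ext.mk₀ φ).mapExactFunctor (EtCoh.pull g)) (zero_add 0) = 0 := hx
  rw [Ext.mapExactFunctor_mk₀, Ext.mk₀_comp_mk₀, ← Ext.mk₀_zero] at h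
  haveI : (EtCoh.pull g).Additive := (EtCoh.pullPushAdj g).left_adjoint_additive
  haveI : (EtCoh.push g).Additive := (EtCoh.pullPushAdj g).right_adjoint_additive
  have h1 : (EtCoh.pull g).map φ = 0 :=
    (cancel_epi (EtCore.pullConst g ℤ).inv).1 (((Ext.mk₀_bijective _ _).1 h).trans comp_zero.symm)
  haveI := mono_unit_of_surjective g hg F
  refine (Ext.mk₀_eq_zero_iff _).2 ?_
  rw [← cancel_mono ((EtCoh.pullPushAdj g).unit.app F), zero_comp]
  refine ((EtCoh.pullPushAdj g).unit.naturality φ).trans ?_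
  show _ ≫ (EtCoh.push g).map ((EtCoh.pull g).map φ) = 0
  rw [h1, Functor.map_zero, comp_zero]

/-- Surjectivity passes to direct images along integral morphisms. -/
theorem surjective_Hpull_push {Z : Scheme.{u}} (g : X ⟶ Y) (f : Z ⟶ Y) [IsIntegralHom f] (G : EtCoh.Ab Z) (q : ℕ)
    (h : Function.Surjective (EtCore.Hpull (pullback.snd g f) G q)) :
    Function.Surjective (EtCore.Hpull g ((EtCoh.push f).obj G) q) := by
  intro a
  have sq : IsPullback (pullback.snd g f) (pullback.fst g f) f g := (IsPullback.of_hasPullback g f).flip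
  haveI : IsIntegralHom (pullback.fst g f) := MorphismProperty.of_isPullback sq ‹IsIntegralHom f›
  haveI := isIso_baseChange0_integral f g (pullback.fst g f) (pullback.snd g f) sq G
  let bc := EtCoh.baseChange0 f g (pullback.fst g f) (pullback.snd g f) sq.w G
  obtain ⟨c, hc⟩ := h (EtLim.HofPush (pullback.fst g f) ((EtCoh.pull (pullback.snd g f)).obj G) q ((EtCoh.HF X q).map bc a))
  obtain ⟨e, rfl⟩ := (FieldH25.bijective_HofPush_integral f G q).2 c
  refine ⟨e, (ConcreteCategory.bijective_of_isIso ((EtCoh.HF X q).map bc)).1 ?_⟩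
  refine (FieldH25.bijective_HofPush_integral (pullback.fst g f) _ q).1 ?_
  exact (HofPush_baseChange0 sq.w G q e).trans hc

/-- Surjectivity for the test sheaves. -/
def TestSurj (g : X ⟶ Y) (L : Set ℕ) (n : ℕ) : Prop :=
  ∀ (Z : Scheme.{u}) (f : Z ⟶ Y) [IsFinite f] [LocallyOfFinitePresentation f] (ℓ : ℕ), ℓ.Prime → ℓ ∈ L →
    ∀ ν : ℕ, 1 ≤ ν → ∀ q : ℕ, q ≤ n →
      Function.Surjective (EtCore.Hpull (pullback.snd g f) (EtCoh.const Z (ZMod (ℓ ^ ν))) q)

section Steps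

variable (g : X ⟶ Y) [PreservesFiniteLimits (EtCoh.pull g)]

lemma Hpull_delta {S : ShortComplex (EtCoh.Ab Y)} (hS : S.ShortExact) {m : ℕ} (c : EtCoh.H Y S.X₃ m) :
    EtCore.Hpull g S.X₁ (m + 1) (c.comp hS.extClass rfl) =
      (EtCore.Hpull g S.X₃ m c).comp (hS.map_of_exact (EtCoh.pull g)).extClass rfl := by
  rw [Hpull_comp, Ext.mapExactFunctor_extClass]
  rfl

/-- A class that dies in a larger sheaf and downstairs vanishes. -/
theorem eq_zero_of_embed {F E : EtCoh.Ab Y} (u : F ⟶ E) [Mono u] (m : ℕ)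
    (hE : Function.Surjective (EtCore.Hpull g E m)) (hQ : Function.Injective (EtCore.Hpull g (cokernel u) m))
    (x : EtCoh.H Y F (m + 1)) (hxu : x.comp (Ext.mk₀ u) (add_zero (m + 1)) = 0)
    (hx : EtCore.Hpull g F (m + 1) x = 0) : x = 0 := by
  haveI : (EtCoh.pull g).Additive := (EtCoh.pullPushAdj g).left_adjoint_additive
  let S := ShortComplex.mk u (cokernel.π u) (cokernel.condition _)
  have hS : S.ShortExact := { exact := ShortComplex.exact_cokernel u }
  obtain ⟨y, rfl⟩ := Ext.covariant_sequence_exact₁ _ hS x hxu (n₀ := m) rfl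
  rw [Hpull_delta g hS] at hx
  obtain ⟨b, hb⟩ := Ext.covariant_sequence_exact₃ _ (hS.map_of_exact (EtCoh.pull g)) _ rfl hx
  obtain ⟨e, he⟩ := hE b
  have hy : y = e.comp (Ext.mk₀ S.g) (add_zero m) := by
    refine hQ ?_
    rw [← LocAcyc24.Hpull_nat, he]
    exact hb.symm
  rw [hy, Ext.comp_assoc_of_second_deg_zero, hS.comp_extClass, Ext.comp_zero]

/-- Surjectivity is inherited by subsheaves. -/
theorem surjective_of_embed {F E : EtCoh.Ab Y} (u : F ⟶ E) [Mono u] (q : ℕ)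
    (hE : Function.Surjective (EtCore.Hpull g E q)) (hQ : Function.Injective (EtCore.Hpull g (cokernel u) q))
    (hQ' : ∀ m, q = m + 1 → Function.Surjective (EtCore.Hpull g (cokernel u) m)) :
    Function.Surjective (EtCore.Hpull g F q) := by
  intro a
  haveI : (EtCoh.pull g).Additive := (EtCoh.pullPushAdj g).left_adjoint_additive
  let S := ShortComplex.mk u (cokernel.π u) (cokernel.condition _)
  have hS : S.ShortExact := { exact := ShortComplex.exact_cokernel u }
  have hT := hS.map_of_exact (EtCoh.pull g)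
  obtain ⟨e, he⟩ := hE (a.comp (Ext.mk₀ ((EtCoh.pull g).map S.f)) (add_zero q))
  have he0 : e.comp (Ext.mk₀ S.g) (add_zero q) = 0 := by
    refine hQ ?_
    rw [map_zero, ← LocAcyc24.Hpull_nat, he, Ext.comp_assoc_of_second_deg_zero, Ext.mk₀_comp_mk₀, ← Functor.map_comp,
      S.zero, Functor.map_zero, Ext.mk₀_zero, Ext.comp_zero]
  obtain ⟨f₀, hf₀⟩ := Ext.covariant_sequence_exact₂ _ hS e he0
  have hd : (a - EtCore.Hpull g F q f₀).comp (Ext.mk₀ ((EtCoh.pull g).map S.f)) (add_zero q) = 0 := by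
    refine (((Ext.mk₀ ((EtCoh.pull g).map S.f)).postcomp _ (add_zero q)).map_sub a (EtCore.Hpull g F q f₀)).trans ?_
    show a.comp (Ext.mk₀ ((EtCoh.pull g).map S.f)) (add_zero q) -
      (EtCore.Hpull g F q f₀).comp (Ext.mk₀ ((EtCoh.pull g).map S.f)) (add_zero q) = 0
    rw [LocAcyc24.Hpull_nat]
    erw [hf₀, he]
    exact sub_self _
  rcases q with _ | m
  · haveI : Mono ((EtCoh.pull g).map S.f) := hT.mono_f
    exact ⟨f₀, (sub_eq_zero.1 (eq_zero_of_comp_mono _ _ hd)).symm⟩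
  · obtain ⟨b, hb⟩ := Ext.covariant_sequence_exact₁ _ hT (a - EtCore.Hpull g F (m + 1) f₀) hd (n₀ := m) rfl
    obtain ⟨c, rfl⟩ := hQ' m rfl b
    refine ⟨f₀ + c.comp hS.extClass rfl, ?_⟩
    rw [map_add, Hpull_delta g hS]
    erw [hb]
    exact add_sub_cancel _ _

/-- Injectivity in degree zero is inherited by subsheaves. -/
theorem injective_zero_of_embed {F E : EtCoh.Ab Y} (u : F ⟶ E) [Mono u]
    (hE : Function.Injective (EtCore.Hpull g E 0)) : Function.Injective (EtCore.Hpull g F 0) := by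
  rw [injective_iff_map_eq_zero]
  intro x hx
  refine eq_zero_of_comp_mono u x (hE ?_)
  rw [map_zero, ← LocAcyc24.Hpull_nat, hx, Ext.zero_comp]

end Steps

section Qcqs

variable [CompactSpace Y] [QuasiSeparatedSpace Y] (g : X ⟶ Y) [QuasiCompact g] [QuasiSeparated g]
  (L : Set ℕ) (n : ℕ) (ht : TestSurj g L n)

omit [CompactSpace Y] [QuasiSeparatedSpace Y] in
include ht in
lemma surjective_sum {κ : Type} [Fintype κ] (Z : κ → Scheme.{u}) (f : ∀ k, Z k ⟶ Y) (hf : ∀ k, IsFinite (f k))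
    (hfp : ∀ k, LocallyOfFinitePresentation (f k)) (ℓ ν : κ → ℕ) (hℓ : ∀ k, (ℓ k).Prime ∧ ℓ k ∈ L ∧ 1 ≤ ν k)
    (q : ℕ) (hq : q ≤ n) :
    Function.Surjective (EtCore.Hpull g (⨁ fun k => (EtCoh.push (f k)).obj (EtCoh.const (Z k) (ZMod (ℓ k ^ ν k)))) q) := by
  classical
  let P := fun k => (EtCoh.push (f k)).obj (EtCoh.const (Z k) (ZMod (ℓ k ^ ν k)))
  intro a
  have hs : ∀ k, ∃ e, EtCore.Hpull g (P k) q e = a.comp (Ext.mk₀ ((EtCoh.pull g).map (biproduct.π P k))) (add_zero q) :=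
    fun k => by
      haveI := hf k
      haveI := hfp k
      exact surjective_Hpull_push g (f k) _ q (ht _ (f k) (ℓ k) (hℓ k).1 (hℓ k).2.1 (ν k) (hℓ k).2.2 q hq) _
  choose e he using hs
  refine ⟨∑ k, (e k).comp (Ext.mk₀ (biproduct.ι P k)) (add_zero q), ?_⟩
  haveI : (EtCoh.pull g).Additive := (EtCoh.pullPushAdj g).left_adjoint_additive
  rw [map_sum]
  have hk : ∀ k, EtCore.Hpull g _ q ((e k).comp (Ext.mk₀ (biproduct.ι P k)) (add_zero q)) =
      a.comp (Ext.mk₀ ((EtCoh.pull g).map (biproduct.π P k ≫ biproduct.ι P k))) (add_zero q) := fun k => by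
    rw [← LocAcyc24.Hpull_nat, he k, Functor.map_comp, ← Ext.mk₀_comp_mk₀, Ext.comp_assoc_of_second_deg_zero]
  rw [Finset.sum_congr rfl fun k _ => hk k, ← Ext.comp_sum, ← Ext.mk₀_sum, ← Functor.map_sum, biproduct.total,
    CategoryTheory.Functor.map_id, Ext.comp_mk₀_id]

omit [CompactSpace Y] [QuasiSeparatedSpace Y] in
lemma isLTorsion_sum {κ : Type} [Fintype κ] (Z : κ → Scheme.{u}) (f : ∀ k, Z k ⟶ Y)
    (ℓ ν : κ → ℕ) (hℓ : ∀ k, (ℓ k).Prime ∧ ℓ k ∈ L ∧ 1 ≤ ν k) :
    EtAcyc.IsLTorsion L (⨁ fun k => (EtCoh.push (f k)).obj (EtCoh.const (Z k) (ZMod (ℓ k ^ ν k)))) := by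
  classical
  refine isLTorsion_of_nsmul L (m := ∏ k, ℓ k ^ ν k) ⟨Finset.prod_pos fun k _ => pow_pos (hℓ k).1.pos _, ?_⟩ ?_
  · intro p hp hd
    obtain ⟨k, -, hk⟩ := (hp.prime.dvd_finset_prod_iff _).1 hd
    exact ((Nat.prime_dvd_prime_iff_eq hp (hℓ k).1).1 (hp.dvd_of_dvd_pow hk)).symm ▸ (hℓ k).2.1
  refine biproduct.hom_ext _ _ fun k => ?_
  obtain ⟨c, hc⟩ := Finset.dvd_prod_of_mem (fun k => ℓ k ^ ν k) (Finset.mem_univ k)
  haveI : (EtCoh.push (f k)).Additive := (EtCoh.pullPushAdj (f k)).right_adjoint_additive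
  have h0 : (∏ k, ℓ k ^ ν k) • 𝟙 ((EtCoh.push (f k)).obj (EtCoh.const (Z k) (ZMod (ℓ k ^ ν k)))) = 0 := by
    rw [hc, mul_comm, mul_nsmul', ← CategoryTheory.Functor.map_id, ← Functor.map_nsmul, nsmul_id_const,
      Functor.map_zero, nsmul_zero]
  rw [Preadditive.nsmul_comp, Category.id_comp, zero_comp]
  calc (∏ k, ℓ k ^ ν k) • biproduct.π _ k = biproduct.π _ k ≫ ((∏ k, ℓ k ^ ν k) • 𝟙 _) := by
        rw [Preadditive.comp_nsmul, Category.comp_id]
    _ = 0 := by rw [h0, comp_zero]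

/-- A map from a constructible sheaf to an `L`-torsion sheaf factors through a constructible `L`-torsion one. -/
lemma exists_factor {P F : EtCoh.Ab Y} (hP : EtPBC.IsConstructible P) (hF : EtAcyc.IsLTorsion L F) (p : P ⟶ F) :
    ∃ (P' : EtCoh.Ab Y) (π : P ⟶ P') (p' : P' ⟶ F), EtPBC.IsConstructible P' ∧ EtAcyc.IsLTorsion L P' ∧
      π ≫ p' = p := by
  obtain ⟨m, hm, hm0⟩ := Embed24.exists_nsmul_id_eq_zero hP
  obtain ⟨a, b, rfl, ha, hb⟩ := exists_primesIn_mul L m hm
  have hap : a • p = 0 := by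
    haveI := isIso_nsmul_id L F hF b hb
    rw [← cancel_mono (b • 𝟙 F), zero_comp, Preadditive.comp_nsmul, Category.comp_id, ← mul_nsmul]
    calc (a * b) • p = ((a * b) • 𝟙 P) ≫ p := by rw [Preadditive.nsmul_comp, Category.id_comp]
      _ = 0 := by rw [hm0, zero_comp]
  refine ⟨cokernel (a • 𝟙 P), cokernel.π _, cokernel.desc _ p (by
      rw [Preadditive.nsmul_comp, Category.id_comp, hap]), Constr24.constructible_cokernel _ hP hP,
    isLTorsion_of_nsmul L ha ?_, cokernel.π_desc _ _ _⟩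
  rw [← cancel_epi (cokernel.π (a • 𝟙 P)), comp_zero, Preadditive.comp_nsmul, Category.comp_id]
  calc a • cokernel.π (a • 𝟙 P) = (a • 𝟙 P) ≫ cokernel.π (a • 𝟙 P) := by
        rw [Preadditive.nsmul_comp, Category.id_comp]
    _ = 0 := cokernel.condition _

/-- Injectivity extends from constructible sheaves. -/
lemma injective_of_constructible (q : ℕ)
    (h : ∀ F : EtCoh.Ab Y, EtPBC.IsConstructible F → EtAcyc.IsLTorsion L F → Function.Injective (EtCore.Hpull g F q))
    (F : EtCoh.Ab Y) (hF : EtAcyc.IsLTorsion L F) : Function.Injective (EtCore.Hpull g F q) := by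
  rw [injective_iff_map_eq_zero]
  intro x hx
  haveI : CompactSpace X := QuasiCompact.compactSpace_of_compactSpace g
  haveI : QuasiSeparatedSpace X := quasiSeparatedSpace_of_quasiSeparated g
  haveI := Constr24.isFiltered_indCat (F := F)
  obtain ⟨hcc⟩ := Constr24.nonempty_isColimit_indCocone (fun U s z => let ⟨V, r, m, hv, hm, h0⟩ := hF U s z; ⟨V, r, hv, isOfFinAddOrder_iff_nsmul_eq_zero.2 ⟨m, hm.1, h0⟩⟩)
  haveI := EtColim.preservesColimitsOfShape_HF Y q (Constr24.IndCat F)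
  haveI := EtColim.preservesColimitsOfShape_HF X q (Constr24.IndCat F)
  haveI : PreservesColimitsOfSize.{u + 1, u + 1} (EtCoh.pull g) :=
    (EtCoh.pullPushAdj g).leftAdjoint_preservesColimits
  obtain ⟨k, (xk : EtCoh.H Y ((Constr24.indDiag F).obj k) q), hxk⟩ := Concrete.isColimit_exists_rep
    (Constr24.indDiag F ⋙ EtCoh.HF Y q) (isColimitOfPreserves (EtCoh.HF Y q) hcc) x
  have hxk' : xk.comp (Ext.mk₀ (Constr24.indι k)) (add_zero q) = x := hxk
  have hz : (EtCoh.HF X q).map ((EtCoh.pull g).map (Constr24.indι k))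
      (EtCore.Hpull g _ q xk) = (EtCoh.HF X q).map ((EtCoh.pull g).map (Constr24.indι k)) 0 := by
    rw [map_zero]
    exact (LocAcyc24.Hpull_nat g (Constr24.indι k) q xk).trans ((congrArg _ hxk').trans hx)
  obtain ⟨k', a, b, hab⟩ := Concrete.isColimit_exists_of_rep_eq
    ((Constr24.indDiag F ⋙ EtCoh.pull g) ⋙ EtCoh.HF X q)
    (isColimitOfPreserves (EtCoh.HF X q) (isColimitOfPreserves (EtCoh.pull g) hcc)) _ _ hz
  rw [map_zero] at hab
  obtain ⟨P', π, p', hP', hL', hfac⟩ := exists_factor L (Constr24.isConstructible_indDiag k') hF (Constr24.indι k')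
  let t := (Constr24.indDiag F).map a ≫ π
  have h1 : xk.comp (Ext.mk₀ t) (add_zero q) = 0 := by
    refine h P' hP' hL' ?_
    rw [map_zero, ← LocAcyc24.Hpull_nat, Functor.map_comp, ← Ext.mk₀_comp_mk₀, ← Ext.comp_assoc_of_second_deg_zero]
    exact (congrArg (fun z => Ext.comp z (Ext.mk₀ ((EtCoh.pull g).map π)) (add_zero q)) hab).trans (Ext.zero_comp _ _ _ _ _)
  rw [← hxk', ← Constr24.indι_w a, ← hfac, ← Category.assoc, ← Ext.mk₀_comp_mk₀, ← Ext.comp_assoc_of_second_deg_zero,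
    h1, Ext.zero_comp]

/-- Surjectivity extends from constructible sheaves. -/
lemma surjective_of_constructible (q : ℕ)
    (h : ∀ F : EtCoh.Ab Y, EtPBC.IsConstructible F → EtAcyc.IsLTorsion L F → Function.Surjective (EtCore.Hpull g F q))
    (F : EtCoh.Ab Y) (hF : EtAcyc.IsLTorsion L F) : Function.Surjective (EtCore.Hpull g F q) := by
  intro a
  haveI : CompactSpace X := QuasiCompact.compactSpace_of_compactSpace g
  haveI : QuasiSeparatedSpace X := quasiSeparatedSpace_of_quasiSeparated g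
  haveI := Constr24.isFiltered_indCat (F := F)
  obtain ⟨hcc⟩ := Constr24.nonempty_isColimit_indCocone (fun U s z => let ⟨V, r, m, hv, hm, h0⟩ := hF U s z; ⟨V, r, hv, isOfFinAddOrder_iff_nsmul_eq_zero.2 ⟨m, hm.1, h0⟩⟩)
  haveI := EtColim.preservesColimitsOfShape_HF X q (Constr24.IndCat F)
  haveI : PreservesColimitsOfSize.{u + 1, u + 1} (EtCoh.pull g) :=
    (EtCoh.pullPushAdj g).leftAdjoint_preservesColimits
  obtain ⟨k, (ak : EtCoh.H X ((EtCoh.pull g).obj ((Constr24.indDiag F).obj k)) q), hak⟩ := Concrete.isColimit_exists_rep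
    ((Constr24.indDiag F ⋙ EtCoh.pull g) ⋙ EtCoh.HF X q)
    (isColimitOfPreserves (EtCoh.HF X q) (isColimitOfPreserves (EtCoh.pull g) hcc)) a
  have hak' : ak.comp (Ext.mk₀ ((EtCoh.pull g).map (Constr24.indι k))) (add_zero q) = a := hak
  obtain ⟨P', π, p', hP', hL', hfac⟩ := exists_factor L (Constr24.isConstructible_indDiag k) hF (Constr24.indι k)
  obtain ⟨e, he⟩ := h P' hP' hL' (ak.comp (Ext.mk₀ ((EtCoh.pull g).map π)) (add_zero q))
  refine ⟨e.comp (Ext.mk₀ p') (add_zero q), ?_⟩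
  rw [← LocAcyc24.Hpull_nat, he, Ext.comp_assoc_of_second_deg_zero, Ext.mk₀_comp_mk₀, ← Functor.map_comp, hfac, hak']

include ht in
theorem injective_Hpull_of_test (h0 : ∀ F : EtCoh.Ab Y, EtAcyc.IsLTorsion L F → Function.Injective (EtCore.Hpull g F 0)) :
    ∀ q : ℕ, q ≤ n + 1 → ∀ F : EtCoh.Ab Y, EtAcyc.IsLTorsion L F → Function.Injective (EtCore.Hpull g F q) := by
  intro q
  induction q with
  | zero => exact fun _ F hF => h0 F hF
  | succ m ih =>
    intro hm
    refine injective_of_constructible g L (m + 1) fun F hc hL => ?_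
    rw [injective_iff_map_eq_zero]
    intro x hx
    obtain ⟨G, u, hG, hu, hux⟩ := Embed24.exists_efface hc (m + 1) m.succ_pos x
    haveI := hu
    obtain ⟨κ, _, Z, f, hf, hfp, ℓ, ν, hℓ, w, hw⟩ := exists_L_embedding L hL hG u
    haveI := hw
    refine eq_zero_of_embed g (u ≫ w) m (surjective_sum g L n ht Z f hf hfp ℓ ν hℓ m (by lia))
      (ih (by lia) _ (isLTorsion_of_epi L (cokernel.π (u ≫ w)) (isLTorsion_sum L Z f ℓ ν hℓ))) x ?_ hx
    rw [← Ext.mk₀_comp_mk₀, ← Ext.comp_assoc_of_second_deg_zero]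
    exact (congrArg (fun z => Ext.comp z (Ext.mk₀ w) (add_zero _)) hux).trans (Ext.zero_comp _ _ _ _ _)

include ht in
theorem surjective_Hpull_of_test (h0 : ∀ F : EtCoh.Ab Y, EtAcyc.IsLTorsion L F → Function.Injective (EtCore.Hpull g F 0)) :
    ∀ q : ℕ, q ≤ n → ∀ F : EtCoh.Ab Y, EtAcyc.IsLTorsion L F → Function.Surjective (EtCore.Hpull g F q) := by
  intro q
  induction q using Nat.strong_induction_on with
  | _ q ih =>
    intro hq
    refine surjective_of_constructible g L q fun F hc hL => ?_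
    obtain ⟨κ, _, Z, f, hf, hfp, ℓ, ν, hℓ, w, hw⟩ := exists_L_embedding L hL hc (𝟙 F)
    haveI := hw
    have hQ : EtAcyc.IsLTorsion L (cokernel (𝟙 F ≫ w)) :=
      isLTorsion_of_epi L (cokernel.π _) (isLTorsion_sum L Z f ℓ ν hℓ)
    exact surjective_of_embed g (𝟙 F ≫ w) q (surjective_sum g L n ht Z f hf hfp ℓ ν hℓ q hq)
      (injective_Hpull_of_test g L n ht h0 q (by lia) _ hQ) fun m e => ih m (by lia) (by lia) _ hQ

include ht in
theorem compN_of_test_zero (h0 : ∀ F : EtCoh.Ab Y, EtAcyc.IsLTorsion L F → Function.Injective (EtCore.Hpull g F 0)) :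
    EtAcyc.CompN g L n := fun F hF _ =>
  ⟨fun q hq => ⟨injective_Hpull_of_test g L n ht h0 q (by lia) F hF, surjective_Hpull_of_test g L n ht h0 q hq F hF⟩,
    injective_Hpull_of_test g L n ht h0 (n + 1) le_rfl F hF⟩

include ht in
theorem compN_of_test (hg : Function.Surjective g.base) : EtAcyc.CompN g L n :=
  compN_of_test_zero g L n ht fun F _ => injective_Hpull_zero g hg F

omit [QuasiCompact g] [QuasiSeparated g] in
lemma injective_Hpull_zero_push {Z : Scheme.{u}} (f : Z ⟶ Y) [IsIntegralHom f] (G : EtCoh.Ab Z)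
    (h : Function.Injective (EtCore.Hpull (pullback.snd g f) G 0)) :
    Function.Injective (EtCore.Hpull g ((EtCoh.push f).obj G) 0) := by
  have sq : IsPullback (pullback.snd g f) (pullback.fst g f) f g := (IsPullback.of_hasPullback g f).flip
  rw [injective_iff_map_eq_zero]
  intro x hx
  refine (FieldH25.bijective_HofPush_integral f G 0).1 (h ?_)
  rw [map_zero, map_zero, ← HofPush_baseChange0 sq.w G 0 x]
  show EtLim.HofPush _ _ 0 ((EtCoh.HF X 0).map _ (EtCore.Hpull g _ 0 x)) = 0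
  rw [hx]
  exact (congrArg _ (map_zero _)).trans (map_zero _)

/-- Injectivity on global sections tested on finite schemes over the target. -/
theorem injective_Hpull_zero_of_test
    (hi : ∀ (Z : Scheme.{u}) (f : Z ⟶ Y) [IsFinite f] [LocallyOfFinitePresentation f] (ℓ : ℕ), ℓ.Prime → ℓ ∈ L →
      ∀ ν : ℕ, 1 ≤ ν → Function.Injective (EtCore.Hpull (pullback.snd g f) (EtCoh.const Z (ZMod (ℓ ^ ν))) 0))
    (F : EtCoh.Ab Y) (hF : EtAcyc.IsLTorsion L F) : Function.Injective (EtCore.Hpull g F 0) := by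
  refine injective_of_constructible g L 0 (fun F hc hL => ?_) F hF
  obtain ⟨κ, _, Z, f, hf, hfp, ℓ, ν, hℓ, w, hw⟩ := exists_L_embedding L hL hc (𝟙 F)
  haveI := hw
  refine injective_zero_of_embed g (𝟙 F ≫ w) ?_
  let P := fun k => (EtCoh.push (f k)).obj (EtCoh.const (Z k) (ZMod (ℓ k ^ ν k)))
  rw [injective_iff_map_eq_zero]
  intro x hx
  have hk : ∀ k, x.comp (Ext.mk₀ (biproduct.π P k)) (add_zero 0) = 0 := fun k => by
    haveI := hf k
    haveI := hfp k
    refine injective_Hpull_zero_push g (f k) _ (hi _ (f k) (ℓ k) (hℓ k).1 (hℓ k).2.1 (ν k) (hℓ k).2.2) ?_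
    rw [map_zero, ← LocAcyc24.Hpull_nat, hx, Ext.zero_comp]
  obtain ⟨φ, rfl⟩ := (Ext.mk₀_bijective _ _).2 x
  refine (Ext.mk₀_eq_zero_iff φ).2 (biproduct.hom_ext _ _ fun k => ?_)
  have h := hk k
  rw [Ext.mk₀_comp_mk₀, Ext.mk₀_eq_zero_iff] at h
  rw [h, zero_comp]

end Qcqs

end Groth.Agent.EtAcyc24
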