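import Groth.Agent.Lib.EtAcyc24.LqfCriterion
import Groth.Prelude.Def_EtBC2

/-!
# The comparison is transferred along base change isomorphisms
-/

set_option autoImplicit false
set_option linter.style.haveILetI false
set_option linter.unusedSectionVars false
set_option backward.isDefEq.respectTransparency.types false

universe u

open CategoryTheory CategoryTheory.Limits AlgebraicGeometry Opposite CategoryTheory.Abelian

namespace Groth.Agent.EtAcyc24

open Groth.Agent.EtStalk Groth.Agent.EtLim24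

variable {X Y Xb Yb : Scheme.{u}}

/-- Flasque sheaves have no higher direct images. -/
theorem isZero_Rpush_of_acyc (p : Xb ⟶ X) {J : EtCoh.Ab Xb} (hJ : EtFlasque24.Acyc J) (q : ℕ) (hq : 0 < q) :
    IsZero ((EtCoh.Rpush p q).obj J) := by
  obtain ⟨m, rfl⟩ := Nat.exists_eq_add_one.2 hq
  refine isZero_Rpush_of_surjective p m J fun W _ => ?_
  let b : pullback W.hom p ⟶ Xb := pullback.snd W.hom p
  haveI : Subsingleton (EtCoh.H (pullback W.hom p) ((EtCoh.pull b).obj J) (m + 1)) :=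
    hJ (Scheme.Etale.mk b) (m + 1) m.succ_pos
  haveI : Subsingleton (EtCoh.H (pullback W.hom p) ((EtShriek.restrAlong b).obj J) (m + 1)) :=
    (bijective_comp_iso ((restrPullIso b).app J) (m + 1)).1.subsingleton
  exact fun y => ⟨0, Subsingleton.elim _ _⟩

/-- A subsheaf of an `L`-torsion sheaf is `L`-torsion. -/
theorem isLTorsion_of_mono (L : Set ℕ) {F G : EtCoh.Ab X} (i : F ⟶ G) [Mono i] (hG : EtAcyc.IsLTorsion L G) :
    EtAcyc.IsLTorsion L F := by
  intro U s x
  obtain ⟨V, g, m, hv, hm, h⟩ := hG U (i.hom.app (op U) s) x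
  refine ⟨V, g, m, hv, hm, ?_⟩
  have hinj : Function.Injective (i.hom.app (op V)) := by
    haveI : Mono i.hom := (Sheaf.Hom.mono_iff_presheaf_mono X.smallEtaleTopology _ i).1 inferInstance
    exact (AddCommGrpCat.mono_iff_injective _).1 inferInstance
  refine hinj ?_
  refine (map_nsmul _ _ _).trans (Eq.trans ?_ (map_zero _).symm)
  refine Eq.trans ?_ h
  exact congrArg (m • ·) (NatTrans.naturality_apply i.hom g.op s)

/-- The direct image of an `L`-torsion sheaf along a quasi-compact morphism is `L`-torsion. -/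
theorem isLTorsion_push {Z W : Scheme.{u}} (π : Z ⟶ W) [QuasiCompact π] (L : Set ℕ) {G : EtCoh.Ab Z}
    (hG : EtAcyc.IsLTorsion L G) : EtAcyc.IsLTorsion L ((EtCoh.push π).obj G) := by
  intro U s x
  obtain ⟨O, hO, hx, -⟩ := exists_isAffineOpen_mem_and_subset (X := U.left) (x := x) (U := ⊤) trivial
  let V := EtSite.sub U O
  let g := EtSite.subHom U O
  haveI : IsAffine V.left := hO
  haveI hc : CompactSpace ↥((EtCoh.bc π).obj V).left := by
    haveI hq : QuasiCompact (pullback.fst V.hom π) := MorphismProperty.pullback_fst _ _ inferInstance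
    exact @QuasiCompact.compactSpace_of_compactSpace _ _ (pullback.fst V.hom π) hq
      (inferInstanceAs (CompactSpace ↥V.left))
  obtain ⟨m, hm, h0⟩ := Groth.Agent.S8524.result L G hG ((EtCoh.bc π).obj V)
    (((EtCoh.push π).obj G).obj.map g.op s)
  exact ⟨V, g, m, ⟨⟨x, hx⟩, rfl⟩, hm, h0⟩

/-- A sheaf killed by `a` embeds into a flasque one killed by `a`. -/
theorem exists_acyc_embed [CompactSpace X] [QuasiSeparatedSpace X] (F : EtCoh.Ab X) {a : ℕ} (h0 : a • 𝟙 F = 0) :
    ∃ (J : EtCoh.Ab X) (u : F ⟶ J), Mono u ∧ EtFlasque24.Acyc J ∧ a • 𝟙 J = 0 := by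
  let Ω : X → Type u := fun x => SeparableClosure (X.residueField x)
  let π : (∐ fun x => Spec (CommRingCat.of (Ω x))) ⟶ X := Sigma.desc fun x => Embed24.pt X x (Ω x)
  refine ⟨(EtCoh.push π).obj ((EtCoh.pull π).obj F), (EtCoh.pullPushAdj π).unit.app F,
    mono_unit_of_surjective π (fun x => ?_) F, EtFlasque24.acyc_push π (Embed24.acyc_pts Ω _), ?_⟩
  · haveI : IsSepClosed (IsLocalRing.ResidueField (Ω x)) := EtDesc24.isSepClosed_residueField _
    refine ⟨(closedPt (Ω x) ≫ Embed24.ptsι Ω x) default, ?_⟩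
    rw [← Scheme.Hom.comp_apply, Category.assoc, Scheme.Hom.comp_apply]
    exact (congrArg (fun r : Spec (CommRingCat.of (Ω x)) ⟶ X => r (closedPt (Ω x) default))
      (Sigma.ι_desc _ x)).trans (Embed24.pt_apply X x (Ω x) _)
  · haveI : (EtCoh.push π).Additive := (EtCoh.pullPushAdj π).right_adjoint_additive
    rw [← CategoryTheory.Functor.map_id, ← Functor.map_nsmul, nsmul_id_pull π h0, Functor.map_zero]

/-- The pieces of the torsion filtration of an `L`-torsion sheaf are killed by numbers with prime factors in `L`. -/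
theorem exists_killed (L : Set ℕ) {F : EtCoh.Ab X} (hF : EtAcyc.IsLTorsion L F) (k : ULift.{u + 1} ℕ) :
    ∃ a, EtAcyc.PrimesIn L a ∧ a • 𝟙 ((EtColim.torDiag F).obj k) = 0 := by
  obtain ⟨a, b, hab, ha, hb'⟩ := exists_primesIn_mul L k.down.factorial k.down.factorial_pos
  refine ⟨a, ha, eq_zero_of_nsmul L (isLTorsion_of_mono L (kernel.ι (EtColim.mulFact F k.down)) hF) _ b hb' ?_⟩
  refine (?_ : b • a • 𝟙 ((EtColim.torDiag F).obj k) = k.down.factorial • 𝟙 _).trans ?_
  · rw [hab]; exact (mul_nsmul _ a b).symm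
  refine (cancel_mono (kernel.ι (EtColim.mulFact F k.down))).1 ?_
  refine Eq.trans ?_ zero_comp.symm
  refine ((Preadditive.nsmul_comp _ _ _).trans (congrArg _ (Category.id_comp _))).trans ?_
  show k.down.factorial • kernel.ι (EtColim.mulFact F k.down) = 0
  calc k.down.factorial • kernel.ι (EtColim.mulFact F k.down)
      = kernel.ι (EtColim.mulFact F k.down) ≫ EtColim.mulFact F k.down :=
        by
        simp only [EtColim.mulFact, Preadditive.comp_zsmul, Category.comp_id]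
        exact (natCast_zsmul _ _).symm
    _ = 0 := kernel.condition _

section Transfer

variable (h : Y ⟶ X) (p : Xb ⟶ X) (hb : Yb ⟶ Xb) (pY : Yb ⟶ Y) (w : hb ≫ p = pY ≫ h)

lemma isIso_baseChange0_of_bcQ [PreservesFiniteLimits (EtCoh.pull hb)] (F : EtCoh.Ab Xb)
    [IsIso (EtBC.bcQ p h pY hb w 0 F)] : IsIso (EtCoh.baseChange0 p h pY hb w F) := by
  have e := EtBC.bcQ_zero_compat p h pY hb w F
  haveI : IsIso (EtCoh.baseChange0 p h pY hb w F ≫ (EtCoh.push pY).toRightDerivedZero.app ((EtCoh.pull hb).obj F)) := by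
    rw [← e]
    infer_instance
  exact IsIso.of_isIso_comp_right _ ((EtCoh.push pY).toRightDerivedZero.app ((EtCoh.pull hb).obj F))

lemma Hpull_comm (F : EtCoh.Ab Xb) (q : ℕ) :
    ⇑(EtCore.Hpull hb F q) ∘ ⇑(EtLim.HofPush p F q) =
      ⇑(EtLim.HofPush pY ((EtCoh.pull hb).obj F) q) ∘ ⇑((EtCoh.HF Y q).map (EtCoh.baseChange0 p h pY hb w F)) ∘
        ⇑(EtCore.Hpull h ((EtCoh.push p).obj F) q) :=
  funext fun x => (HofPush_baseChange0 w F q x).symm

/-- The comparison for a sheaf without higher direct images. -/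
theorem bijective_Hpull_of_bcQ (F : EtCoh.Ab Xb) (q : ℕ)
    (h1 : ∀ i, 1 ≤ i → i ≤ q → IsZero ((EtCoh.Rpush p i).obj F))
    (hiso : ∀ i, i ≤ q → IsIso (EtBC.bcQ p h pY hb w i F))
    (hc : Function.Bijective (EtCore.Hpull h ((EtCoh.push p).obj F) q)) :
    Function.Bijective (EtCore.Hpull hb F q) := by
  haveI := hiso 0 (Nat.zero_le q)
  haveI := isIso_baseChange0_of_bcQ h p hb pY w F
  refine (Function.Bijective.of_comp_iff _ (HofPush_bounded p q F h1).1).1 ?_
  rw [Hpull_comm h p hb pY w F q]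
  refine (HofPush_bounded pY q _ fun i hi hiq => ?_).1.comp ((ConcreteCategory.bijective_of_isIso _).comp hc)
  haveI := hiso i hiq
  haveI : (EtCoh.pull h).Additive := (EtCoh.pullPushAdj h).left_adjoint_additive
  exact IsZero.of_iso (Functor.map_isZero _ (h1 i hi hiq)) (asIso (EtBC.bcQ p h pY hb w i F)).symm

variable [CompactSpace Xb] [QuasiSeparatedSpace Xb] [CompactSpace Yb] [QuasiSeparatedSpace Yb]
  [QuasiCompact p] [QuasiSeparated p]
  (L : Set ℕ) (n : ℕ) (hh : EtAcyc.CompN h L n)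
  (hbc : ∀ Fb : EtCoh.Ab Xb, EtAcyc.IsLTorsion L Fb → ∀ i : ℕ, i ≤ n → IsIso (EtBC.bcQ p h pY hb w i Fb))
  (hpush : ∀ Fb : EtCoh.Ab Xb, EtAcyc.IsLTorsion L Fb → EtAcyc.IsLTorsion L ((EtCoh.push p).obj Fb))
include hh hbc hpush

theorem bijective_zero_of_bcQ (F : EtCoh.Ab Xb) (hF : EtAcyc.IsLTorsion L F) :
    Function.Bijective (EtCore.Hpull hb F 0) :=
  bijective_Hpull_of_bcQ h p hb pY w F 0 (fun i h1 h2 => absurd (h1.trans h2) (by lia))
    (fun i hi => hbc F hF i (hi.trans (Nat.zero_le n))) ((hh _ (hpush F hF)).1 0 (Nat.zero_le n))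

theorem bijective_acyc_of_bcQ (J : EtCoh.Ab Xb) (hJ : EtAcyc.IsLTorsion L J) (ha : EtFlasque24.Acyc J)
    (q : ℕ) (hq : q ≤ n) : Function.Bijective (EtCore.Hpull hb J q) :=
  bijective_Hpull_of_bcQ h p hb pY w J q (fun i h1 _ => isZero_Rpush_of_acyc p ha i h1)
    (fun i hi => hbc J hJ i (hi.trans hq)) ((hh _ (hpush J hJ)).1 q hq)

theorem injective_killed {a : ℕ} (ha : EtAcyc.PrimesIn L a) : ∀ q : ℕ, q ≤ n + 1 → ∀ F : EtCoh.Ab Xb, a • 𝟙 F = 0 →
    Function.Injective (EtCore.Hpull hb F q) := by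
  intro q
  induction q with
  | zero => exact fun _ F h0 => (bijective_zero_of_bcQ h p hb pY w L n hh hbc hpush F (isLTorsion_of_nsmul L ha h0)).1
  | succ m ih =>
    intro hm F h0
    rw [injective_iff_map_eq_zero]
    intro x hx
    obtain ⟨J, u, hu, hJ, hJ0⟩ := exists_acyc_embed F h0
    have hQ0 : a • 𝟙 (cokernel u) = 0 := by
      rw [← cancel_epi (cokernel.π u), comp_zero, Preadditive.comp_nsmul, Category.comp_id]
      calc a • cokernel.π u = (a • 𝟙 J) ≫ cokernel.π u := by rw [Preadditive.nsmul_comp, Category.id_comp]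
        _ = 0 := by rw [hJ0, zero_comp]
    haveI : IsIso (EtCoh.top Xb).hom := inferInstanceAs (IsIso (𝟙 Xb))
    haveI : Subsingleton (EtCoh.H Xb J (m + 1)) :=
      @Function.Injective.subsingleton _ _ _ (LocAcyc24.bijective_Hpull_of_isIso (EtCoh.top Xb).hom J (m + 1)).1
        (hJ (EtCoh.top Xb) (m + 1) m.succ_pos)
    exact eq_zero_of_embed hb u m
      (bijective_acyc_of_bcQ h p hb pY w L n hh hbc hpush J (isLTorsion_of_nsmul L ha hJ0) hJ m (by lia)).2
      (ih (by lia) _ hQ0) x (Subsingleton.elim _ _) hx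

theorem surjective_killed {a : ℕ} (ha : EtAcyc.PrimesIn L a) : ∀ q : ℕ, q ≤ n → ∀ F : EtCoh.Ab Xb, a • 𝟙 F = 0 →
    Function.Surjective (EtCore.Hpull hb F q) := by
  intro q
  induction q using Nat.strong_induction_on with
  | _ q ih =>
    intro hq F h0
    obtain ⟨J, u, hu, hJ, hJ0⟩ := exists_acyc_embed F h0
    have hQ0 : a • 𝟙 (cokernel u) = 0 := by
      rw [← cancel_epi (cokernel.π u), comp_zero, Preadditive.comp_nsmul, Category.comp_id]
      calc a • cokernel.π u = (a • 𝟙 J) ≫ cokernel.π u := by rw [Preadditive.nsmul_comp, Category.id_comp]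
        _ = 0 := by rw [hJ0, zero_comp]
    exact surjective_of_embed hb u q
      (bijective_acyc_of_bcQ h p hb pY w L n hh hbc hpush J (isLTorsion_of_nsmul L ha hJ0) hJ q hq).2
      (injective_killed h p hb pY w L n hh hbc hpush ha q (by lia) _ hQ0) fun m e => ih m (by lia) (by lia) _ hQ0

/-- The comparison is transferred. -/
theorem compN_of_bcQ : EtAcyc.CompN hb L n := by
  intro F hF _
  have hT : EtCoh.IsTorsion F := fun U s z =>
    let ⟨V, r, m, hv, hm, h0⟩ := hF U s z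
    ⟨V, r, hv, isOfFinAddOrder_iff_nsmul_eq_zero.2 ⟨m, hm.1, h0⟩⟩
  haveI : IsFiltered (ULift.{u + 1} ℕ) := isFiltered_of_directed_le_nonempty _
  haveI := EtColim.isIso_desc F hT
  let hcc : IsColimit (EtColim.torCocone F) :=
    @IsColimit.ofPointIso _ _ _ _ _ _ _ (colimit.isColimit (EtColim.torDiag F)) (EtColim.isIso_desc F hT)

  haveI : PreservesColimitsOfSize.{u + 1, u + 1} (EtCoh.pull hb) :=
    (EtCoh.pullPushAdj hb).leftAdjoint_preservesColimits
  have hkill : ∀ k, ∃ a, EtAcyc.PrimesIn L a ∧ a • 𝟙 ((EtColim.torDiag F).obj k) = 0 := exists_killed L hF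
  have hinj : ∀ q, q ≤ n + 1 → Function.Injective (EtCore.Hpull hb F q) := fun q hq => by
    rw [injective_iff_map_eq_zero]
    intro x hx
    haveI := EtColim.preservesColimitsOfShape_HF Xb q (ULift.{u + 1} ℕ)
    haveI := EtColim.preservesColimitsOfShape_HF Yb q (ULift.{u + 1} ℕ)
    obtain ⟨k, (xk : EtCoh.H Xb ((EtColim.torDiag F).obj k) q), hxk⟩ := Concrete.isColimit_exists_rep
      (EtColim.torDiag F ⋙ EtCoh.HF Xb q) (isColimitOfPreserves (EtCoh.HF Xb q) hcc) x
    have hxk' : xk.comp (Ext.mk₀ ((EtColim.torCocone F).ι.app k)) (add_zero q) = x := hxk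
    have hz : (EtCoh.HF Yb q).map ((EtCoh.pull hb).map ((EtColim.torCocone F).ι.app k)) (EtCore.Hpull hb _ q xk) =
        (EtCoh.HF Yb q).map ((EtCoh.pull hb).map ((EtColim.torCocone F).ι.app k)) 0 := by
      rw [map_zero]
      exact (LocAcyc24.Hpull_nat hb _ q xk).trans ((congrArg _ hxk').trans hx)
    obtain ⟨k', c, d, hcd⟩ := Concrete.isColimit_exists_of_rep_eq
      ((EtColim.torDiag F ⋙ EtCoh.pull hb) ⋙ EtCoh.HF Yb q)
      (isColimitOfPreserves (EtCoh.HF Yb q) (isColimitOfPreserves (EtCoh.pull hb) hcc)) _ _ hz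
    rw [map_zero] at hcd
    obtain ⟨a, ha, ha0⟩ := hkill k'
    have h1 : xk.comp (Ext.mk₀ ((EtColim.torDiag F).map c)) (add_zero q) = 0 := by
      refine injective_killed h p hb pY w L n hh hbc hpush ha q hq _ ha0 ?_
      rw [map_zero, ← LocAcyc24.Hpull_nat]
      exact hcd
    rw [← hxk', ← (EtColim.torCocone F).w c, ← Ext.mk₀_comp_mk₀, ← Ext.comp_assoc_of_second_deg_zero, h1, Ext.zero_comp]
    rfl
  refine ⟨fun q hq => ⟨hinj q (by lia), fun y => ?_⟩, hinj (n + 1) le_rfl⟩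
  haveI := EtColim.preservesColimitsOfShape_HF Yb q (ULift.{u + 1} ℕ)
  obtain ⟨k, (yk : EtCoh.H Yb ((EtCoh.pull hb).obj ((EtColim.torDiag F).obj k)) q), hyk⟩ := Concrete.isColimit_exists_rep
    ((EtColim.torDiag F ⋙ EtCoh.pull hb) ⋙ EtCoh.HF Yb q)
    (isColimitOfPreserves (EtCoh.HF Yb q) (isColimitOfPreserves (EtCoh.pull hb) hcc)) y
  obtain ⟨a, ha, ha0⟩ := hkill k
  obtain ⟨e, he⟩ := surjective_killed h p hb pY w L n hh hbc hpush ha q hq _ ha0 yk
  refine ⟨e.comp (Ext.mk₀ ((EtColim.torCocone F).ι.app k)) (add_zero q), ?_⟩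
  exact (LocAcyc24.Hpull_nat hb ((EtColim.torCocone F).ι.app k) q e).symm.trans ((congrArg (fun z : EtCoh.H Yb _ q =>
    z.comp (Ext.mk₀ ((EtCoh.pull hb).map ((EtColim.torCocone F).ι.app k))) (add_zero q)) he).trans hyk)

end Transfer

end Groth.Agent.EtAcyc24
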