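import Groth.Agent.Lib.EtAcyc24.Criterion

/-!
# Acyclicity checked on a basis of etale neighbourhoods
-/

set_option autoImplicit false
set_option linter.style.haveILetI false
set_option linter.unusedSectionVars false
set_option backward.isDefEq.respectTransparency.types false

universe u

open CategoryTheory CategoryTheory.Limits AlgebraicGeometry Opposite CategoryTheory.Abelian

namespace Groth.Agent.EtAcyc24

open Groth.Agent.EtStalk

/-- A class of etale schemes forms a basis. -/
def IsEtBasis {Y : Scheme.{u}} (B : Y.Etale → Prop) : Prop :=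
  ∀ (W : Y.Etale) (w : W.left), ∃ (W' : Y.Etale) (g : W' ⟶ W) (w' : W'.left), B W' ∧ g.left w' = w

variable {X Y : Scheme.{u}} (f : X ⟶ Y) {B : Y.Etale → Prop} (hB : IsEtBasis B)
include hB

/-- Degree `m + 1` classes that come from below on a basis kill the higher direct image. -/
theorem isZero_Rpush_of_surjective_basis : ∀ (m : ℕ) (G : EtCoh.Ab X),
    (∀ (W : Y.Etale) (_ : B W) [Etale W.hom], Function.Surjective (EtLim.HofPush (pullback.fst W.hom f)
      ((EtShriek.restrAlong (pullback.snd W.hom f)).obj G) (m + 1))) →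
    IsZero ((EtCoh.Rpush f (m + 1)).obj G) := by
  intro m
  induction m with
  | zero =>
    intro G hG
    let S := ShortComplex.mk (Injective.ι G) (cokernel.π (Injective.ι G)) (cokernel.condition _)
    have hS : S.ShortExact := { exact := ShortComplex.exact_cokernel (Injective.ι G) }
    haveI : Injective S.X₂ := inferInstanceAs (Injective (Injective.under G))
    haveI : Sheaf.IsLocallySurjective ((EtCoh.push f).map S.g) := by
      have hloc : ∀ (W : Y.Etale), B W → ∀ (q : S.X₃.obj.obj (op ((EtCoh.bc f).obj W))),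
          Presheaf.imageSieve ((EtCoh.push f).map S.g).hom (U := W) q ∈ Y.smallEtaleTopology W := by
        intro W hW q
        haveI : Etale W.hom := W.prop
        let a : pullback W.hom f ⟶ W.left := pullback.fst W.hom f
        let b : pullback W.hom f ⟶ X := pullback.snd W.hom f
        haveI : (EtShriek.restrAlong b).IsLeftAdjoint := (restrPushAdj b).isLeftAdjoint
        haveI : (EtShriek.restrAlong b).IsRightAdjoint := (EtShriek.extZeroAdj b).isRightAdjoint
        haveI : (EtShriek.restrAlong b).Additive := (restrPushAdj b).left_adjoint_additive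
        let T := S.map (EtShriek.restrAlong b)
        have hT : T.ShortExact := hS.map_of_exact _
        haveI : Injective T.X₂ := injective_restrAlong b S.X₂
        let m₀ : (EtShriek.compEtale b).obj ((EtCoh.bc a).obj (EtCoh.top W.left)) ⟶ (EtCoh.bc f).obj W :=
          MorphismProperty.Over.homMk (pullback.snd (EtCoh.top W.left).hom a) rfl
        have hcov := exists_local_lift a hT (hG W hW) (S.X₃.obj.map m₀.op q)
        rw [EtSite.mem_et_iff] at hcov ⊢
        intro x
        obtain ⟨W', g', w, ⟨y, hy⟩, hw⟩ := hcov x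
        let g'' : (EtShriek.compEtale W.hom).obj W' ⟶ W :=
          MorphismProperty.Over.homMk (show W'.left ⟶ W.left from W'.hom) rfl
        have hw'' : W'.hom w = x := by
          rw [← hw]
          exact congrArg (fun φ : W'.left ⟶ W.left => φ w) ((MorphismProperty.Over.w g').symm.trans (Category.comp_id _))
        refine ⟨_, g'', w, ?_, hw''⟩
        let W'' := (EtShriek.compEtale W.hom).obj W'
        have hin : (pullback.fst W''.hom f ≫ W'.hom) ≫ W.hom = pullback.snd W''.hom f ≫ f :=
          (Category.assoc _ _ _).trans pullback.condition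
        let μ : (EtCoh.bc f).obj W'' ⟶ (EtShriek.compEtale b).obj ((EtCoh.bc a).obj W') :=
          MorphismProperty.Over.homMk (pullback.lift (pullback.fst W''.hom f)
            (pullback.lift (pullback.fst W''.hom f ≫ W'.hom) (pullback.snd W''.hom f) hin)
            (pullback.lift_fst _ _ _).symm) (by
              show pullback.lift _ _ _ ≫ pullback.snd W'.hom a ≫ b = _
              rw [pullback.lift_snd_assoc]
              exact pullback.lift_snd _ _ _)
        refine ⟨S.X₂.obj.map μ.op y, ?_⟩
        show S.g.hom.app (op ((EtCoh.bc f).obj W'')) (S.X₂.obj.map μ.op y) = S.X₃.obj.map ((EtCoh.bc f).map g'').op q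
        refine (NatTrans.naturality_apply S.g.hom μ.op y).trans ((congrArg (S.X₃.obj.map μ.op) hy).trans ?_)
        show S.X₃.obj.map μ.op (S.X₃.obj.map ((EtShriek.compEtale b).map ((EtCoh.bc a).map g')).op
          (S.X₃.obj.map m₀.op q)) = _
        rw [← Functor.map_comp_apply, ← Functor.map_comp_apply, ← op_comp, ← op_comp]
        refine congrArg (fun φ : (EtCoh.bc f).obj W'' ⟶ (EtCoh.bc f).obj W => S.X₃.obj.map φ.op q) ?_
        let ψ : (EtCoh.bc f).obj W'' ⟶ (EtCoh.bc f).obj W :=
          (μ ≫ (EtShriek.compEtale b).map ((EtCoh.bc a).map g')) ≫ m₀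
        refine MorphismProperty.Over.Hom.ext (pullback.hom_ext ?_ ((MorphismProperty.Over.w ψ).trans
          (MorphismProperty.Over.w ((EtCoh.bc f).map g'')).symm :))
        refine Eq.trans ?_ (pullback.lift_fst _ _ _).symm
        refine (Category.assoc _ _ _).trans ?_
        show μ.left ≫ (((EtCoh.bc a).map g').left ≫ pullback.snd (EtCoh.top W.left).hom a) ≫ pullback.fst W.hom f = _
        refine (congrArg (fun t => μ.left ≫ t ≫ pullback.fst W.hom f) (MorphismProperty.Over.w ((EtCoh.bc a).map g'))).trans ?_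
        refine (Category.assoc _ _ _).symm.trans ((congrArg (· ≫ _) (pullback.lift_snd _ _ _)).trans ?_)
        exact pullback.lift_fst _ _ _
      refine ⟨fun {W} q => ?_⟩
      rw [EtSite.mem_et_iff]
      intro x
      obtain ⟨W₀, g₀, w₀, hB₀, hw₀⟩ := hB W x
      obtain ⟨W', g', w, ⟨y, hy⟩, hw⟩ := (EtSite.mem_et_iff _ _).1
        (hloc W₀ hB₀ (((EtCoh.push f).obj S.X₃).obj.map g₀.op q)) w₀
      refine ⟨W', g' ≫ g₀, w, ⟨y, hy.trans (Functor.map_comp_apply _ g₀.op g'.op q).symm⟩, ?_⟩
      rw [← hw₀, ← hw]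
      rfl
    haveI : Epi ((EtCoh.push f).map S.g) := (Sheaf.isLocallySurjective_iff_epi' _ _).1 inferInstance
    obtain ⟨T⟩ := RDerLES.exists_sesRes hS
    obtain ⟨-, ⟨w, hw⟩, ⟨w', hw'⟩⟩ := RDerLES.exact_sequences (EtCoh.push f) T 0 1 rfl
    have hepi : Epi (((EtCoh.push f).rightDerived 0).map S.g) :=
      ((MorphismProperty.epimorphisms _).arrow_mk_iso_iff
        (Arrow.isoMk' _ _ ((EtCoh.push f).rightDerivedZeroIsoSelf.app S.X₂)
          ((EtCoh.push f).rightDerivedZeroIsoSelf.app S.X₃)
          ((EtCoh.push f).rightDerivedZeroIsoSelf.hom.naturality S.g).symm)).2 ‹_›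
    exact hw'.isZero_X₂ (Eq.trans ((cancel_epi (((EtCoh.push f).rightDerived 0).map S.g)).1 (w.trans comp_zero.symm)) rfl)
      (((EtCoh.push f).isZero_rightDerived_obj_injective_succ 0 S.X₂).eq_of_tgt _ _)
  | succ m ih =>
    intro G hG
    let S := ShortComplex.mk (Injective.ι G) (cokernel.π (Injective.ι G)) (cokernel.condition _)
    have hS : S.ShortExact := { exact := ShortComplex.exact_cokernel (Injective.ι G) }
    haveI : Injective S.X₂ := inferInstanceAs (Injective (Injective.under G))
    have hQ := ih S.X₃ fun W hW _ => by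
      let b : pullback W.hom f ⟶ X := pullback.snd W.hom f
      haveI : (EtShriek.restrAlong b).IsLeftAdjoint := (restrPushAdj b).isLeftAdjoint
      haveI : (EtShriek.restrAlong b).IsRightAdjoint := (EtShriek.extZeroAdj b).isRightAdjoint
      haveI : (EtShriek.restrAlong b).Additive := (restrPushAdj b).left_adjoint_additive
      let T := S.map (EtShriek.restrAlong b)
      haveI : Injective T.X₂ := injective_restrAlong b S.X₂
      exact surjective_HofPush_shift (pullback.fst W.hom f) (hS.map_of_exact (EtShriek.restrAlong b)) m (hG W hW)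
    obtain ⟨T⟩ := RDerLES.exists_sesRes hS
    obtain ⟨-, -, ⟨w', hw'⟩⟩ := RDerLES.exact_sequences (EtCoh.push f) T (m + 1) (m + 2) rfl
    exact hw'.isZero_X₂ (hQ.eq_of_src _ _)
      (((EtCoh.push f).isZero_rightDerived_obj_injective_succ (m + 1) S.X₂).eq_of_tgt _ _)


/-- The unit is an isomorphism once it is bijective on a basis. -/
theorem isIso_of_bijective_basis {F G : EtCoh.Ab Y} (a : F ⟶ G)
    (h : ∀ W, B W → Function.Bijective (a.hom.app (op W))) : IsIso a := by
  haveI : Sheaf.IsLocallyInjective a := ⟨fun {W} s t e => by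
    rw [EtSite.mem_et_iff]
    intro x
    obtain ⟨W', g, w', hW', hw'⟩ := hB W.unop x
    refine ⟨W', g, w', (h W' hW').1 ?_, hw'⟩
    exact (NatTrans.naturality_apply a.hom g.op s).trans
      ((congrArg (G.obj.map g.op) e).trans (NatTrans.naturality_apply a.hom g.op t).symm)⟩
  haveI : Sheaf.IsLocallySurjective a := ⟨fun {W} q => by
    rw [EtSite.mem_et_iff]
    intro x
    obtain ⟨W', g, w', hW', hw'⟩ := hB W x
    obtain ⟨y, hy⟩ := (h W' hW').2 (G.obj.map g.op q)
    exact ⟨W', g, w', ⟨y, hy⟩, hw'⟩⟩
  haveI : Mono a := Sheaf.mono_of_isLocallyInjective a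
  haveI : Epi a := (Sheaf.isLocallySurjective_iff_epi' _ a).1 inferInstance
  exact isIso_of_mono_of_epi a

/-- The units are isomorphisms if the comparison holds on a basis. -/
theorem isIso_unit_of_basis (L : Set ℕ) (n : ℕ) (hf : ∀ W, B W → EtAcyc.CompN (EtAcyc.prj f W) L n)
    (F : EtCoh.Ab Y) (hF : EtAcyc.IsLTorsion L F) : IsIso (uHom f F) := by
  refine isIso_of_bijective_basis hB (uHom f F) fun W hW => ?_
  haveI : Etale W.hom := W.prop
  let a : pullback W.hom f ⟶ W.left := pullback.fst W.hom f
  let b : pullback W.hom f ⟶ X := pullback.snd W.hom f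
  let FW := (EtCoh.pull W.hom).obj F
  let d : EtCoh.top W.left ⟶ (EtCoh.bc W.hom).obj W :=
    MorphismProperty.Over.homMk (pullback.lift (𝟙 _) (𝟙 _) rfl) (pullback.lift_snd _ _ _)
  have hα := bijective_map_unit W.hom F (V := W) d (by
    rw [show d.left ≫ bcFst W.hom W = 𝟙 _ from pullback.lift_fst _ _ _]
    exact inferInstanceAs (IsIso (𝟙 W.left)))
  let M : (EtCoh.bc a).obj (EtCoh.top W.left) ⟶ (EtCoh.bc b).obj ((EtCoh.bc f).obj W) :=
    (EtCoh.bc a).map d ≫ sqHom f W.hom a b pullback.condition.symm W
  have hM : IsIso (M.left ≫ bcFst b ((EtCoh.bc f).obj W)) := by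
    have e : M.left ≫ bcFst b ((EtCoh.bc f).obj W) = pullback.snd (𝟙 W.left) a := by
      apply pullback.hom_ext
      · refine (Category.assoc _ _ _).trans ?_
        show (((EtCoh.bc a).map d).left ≫ (sqHom f W.hom a b pullback.condition.symm W).left) ≫
          bcFst b ((EtCoh.bc f).obj W) ≫ bcFst f W = _
        refine (Category.assoc _ _ _).trans ?_
        refine ((congrArg (((EtCoh.bc a).map d).left ≫ ·) (sqHom_fst f W.hom a b pullback.condition.symm W))).trans ?_
        refine (Category.assoc _ _ _).symm.trans ((congrArg (· ≫ bcFst W.hom W) (EtCoh.isPullback_bc_map a d).w).trans ?_)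
        refine (Category.assoc _ _ _).trans ((congrArg (_ ≫ ·) (pullback.lift_fst _ _ _)).trans ?_)
        exact pullback.condition
      · have hw : bcFst b ((EtCoh.bc f).obj W) ≫ pullback.snd W.hom f =
            ((EtCoh.bc b).obj ((EtCoh.bc f).obj W)).hom ≫ b := pullback.condition
        refine (Category.assoc _ _ _).trans ((congrArg (M.left ≫ ·) hw).trans ?_)
        exact (Category.assoc _ _ _).symm.trans (congrArg (· ≫ b) (MorphismProperty.Over.w M))
    rw [e]
    exact @pullback_snd_iso_of_left_iso _ _ _ _ _ (𝟙 W.left) a (IsIso.id _)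
  have hβ := bijective_map_unit b ((EtCoh.pull f).obj F) (V := (EtCoh.bc f).obj W) M hM
  have h0 := bijective_unit_top a FW (((hf W hW) FW (isLTorsion_pull W.hom L hF)).1 0 (Nat.zero_le n))
  exact bijective_uHom_of_square a W.hom b f pullback.condition.symm F W (EtCoh.top W.left) d hα hβ h0

/-- Higher direct images of inverse images vanish if the comparison holds on a basis. -/
theorem isZero_Rpush_of_basis (L : Set ℕ) (n : ℕ) (hf : ∀ W, B W → EtAcyc.CompN (EtAcyc.prj f W) L n)
    (F : EtCoh.Ab Y) (hF : EtAcyc.IsLTorsion L F) (q : ℕ) (h1 : 1 ≤ q) (hq : q ≤ n) :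
    IsZero ((EtCoh.Rpush f q).obj ((EtCoh.pull f).obj F)) := by
  obtain ⟨m, rfl⟩ := Nat.exists_eq_add_one.2 h1
  refine isZero_Rpush_of_surjective_basis f hB m _ fun W hW _ => ?_
  refine surjective_HofPush_of_iso _ (sqIso f W F ≪≫ ((restrPullIso (pullback.snd W.hom f)).app _).symm) _ ?_
  intro y
  obtain ⟨x, hx⟩ := (((hf W hW) _ (isLTorsion_pull W.hom L hF)).1 (m + 1) hq).2 y
  exact ⟨_, (FieldH25.HofPush_unit _ _ _ x).trans hx⟩

/-- The comparison holds if it holds on a basis. -/
theorem compN_of_basis (L : Set ℕ) (n : ℕ) (hf : ∀ W, B W → EtAcyc.CompN (EtAcyc.prj f W) L n) :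
    EtAcyc.CompN f L n :=
  compN_of_unit f L n fun F hF =>
    ⟨isIso_unit_of_basis f hB L n hf F hF, fun q h1 hq => isZero_Rpush_of_basis f hB L n hf F hF q h1 hq⟩

/-- Acyclicity holds if the comparison holds on a basis. -/
theorem isAcyclicN_of_basis (L : Set ℕ) (n : ℕ) (hg : ∀ W, B W → EtAcyc.CompN (EtAcyc.prj f W) L n) :
    EtAcyc.IsAcyclicN f L n := fun V => by
  haveI : Etale V.hom := V.prop
  let B' : V.left.Etale → Prop := fun U => EtAcyc.CompN (EtAcyc.prj (EtAcyc.prj f V) U) L n
  have hB' : IsEtBasis B' := fun U x => by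
    obtain ⟨W', k, w', hW', hw'⟩ := hB ((EtShriek.compEtale V.hom).obj U) x
    haveI : Etale U.hom := U.prop
    let kl : W'.left ⟶ U.left := k.left
    haveI : Etale kl := inferInstanceAs (Etale k.left)
    let U' : V.left.Etale := Scheme.Etale.mk (kl ≫ U.hom)
    refine ⟨U', MorphismProperty.Over.homMk kl rfl, w', ?_, hw'⟩
    show EtAcyc.CompN (EtAcyc.prj (EtAcyc.prj f V) U') L n
    have hw : U'.hom ≫ V.hom = W'.hom := (Category.assoc _ _ _).trans (MorphismProperty.Over.w k)
    have hp : IsPullback (EtAcyc.prj (EtAcyc.prj f V) U') (pullback.snd U'.hom (EtAcyc.prj f V) ≫ pullback.snd V.hom f)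
        W'.hom f :=
      hw ▸ (IsPullback.of_hasPullback U'.hom (EtAcyc.prj f V)).paste_vert (IsPullback.of_hasPullback V.hom f)
    have h := (compN_comp_iff hp.isoPullback.hom _ (compN_of_isIso hp.isoPullback.hom L n)).1 (hg W' hW')
    exact (congrArg (fun r => EtAcyc.CompN r L n) hp.isoPullback_hom_fst).mp h
  exact compN_of_basis (EtAcyc.prj f V) hB' L n fun U hU => hU

end Groth.Agent.EtAcyc24
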