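import Groth.Agent.Lib.FieldH25.Transfer
import Groth.Agent.Lib.LocAcyc24.Transport
import Groth.Agent.Lib.EtStalk.Sets.Push
import Groth.Prelude.Def_EtAcyc
import Groth.Agent.Lib.EtDesc24.PullVia

/-!
# Composites of acyclic morphisms
-/

universe u

open CategoryTheory CategoryTheory.Limits AlgebraicGeometry Opposite CategoryTheory.Abelian

set_option backward.isDefEq.respectTransparency.types false

namespace Groth.Agent.EtAcyc24

open Groth.Agent.EtStalk

/-- Inverse images of torsion sheaves are torsion. -/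
theorem isLTorsion_pull {X Y : Scheme.{u}} (f : X ⟶ Y) (L : Set ℕ) {F : EtCoh.Ab Y}
    (hF : EtAcyc.IsLTorsion L F) : EtAcyc.IsLTorsion L ((EtCoh.pull f).obj F) := by
  intro U s x
  obtain ⟨φ, hφ⟩ := exists_fib U x
  let ξ := EtStalk.geomPt X (U.hom x)
  obtain ⟨p, hp⟩ := (ConcreteCategory.bijective_of_isIso (stalkPull f ξ F)).2 (germ ξ _ φ s)
  obtain ⟨V, v, t, rfl⟩ := germ_surjective _ F p
  let R : Sieve V :=
    { arrows := fun W g => ∃ m : ℕ, EtAcyc.PrimesIn L m ∧ m • F.obj.map g.op t = 0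
      downward_closed := by
        rintro W W' g ⟨m, hm, h⟩ k
        exact ⟨m, hm, by rw [op_comp, Functor.map_comp_apply, ← map_nsmul, h, map_zero]⟩ }
  have hR : R ∈ Scheme.smallEtaleTopology Y V := by
    rw [EtSite.mem_et_iff]
    intro w
    obtain ⟨W, g, m, ⟨w', hw'⟩, hm, h⟩ := hF V t w
    exact ⟨W, g, w', ⟨m, hm, h⟩, hw'⟩
  obtain ⟨W, g, ⟨m, hm, hg⟩, y, hy⟩ :=
    (Scheme.pointSmallEtale (ξ ≫ f)).jointly_surjective R hR v
  have hz : m • germ (ξ ≫ f) F v t = 0 := by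
    rw [← hy, ← germ_map, ← map_nsmul, hg, map_zero]
  have hs : germ ξ ((EtCoh.pull f).obj F) φ (m • s) = germ ξ ((EtCoh.pull f).obj F) φ 0 := by
    rw [map_nsmul, ← hp, ← map_nsmul, hz, map_zero, map_zero]
  obtain ⟨V', g', φ', hφ', he⟩ := (germ_eq_iff ξ _ φ _ _).1 hs
  let ψ : Spec (CommRingCat.of (SeparableClosure (X.residueField (U.hom x)))) ⟶ V'.left := φ'.left
  refine ⟨V', g', m, ⟨ψ default, ?_⟩, hm, by rw [← map_nsmul, he, map_zero]⟩
  subst hφ'
  exact hφ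

variable {A B C : Scheme.{u}} (a : A ⟶ B) (b : B ⟶ C)

lemma bijective_comp_iso {X : Scheme.{u}} {G G' : EtCoh.Ab X} (e : G ≅ G') (q : ℕ) :
    Function.Bijective (fun z : EtCoh.H X G q => z.comp (Ext.mk₀ e.hom) (add_zero q)) :=
  Function.bijective_iff_has_inverse.2 ⟨fun z => z.comp (Ext.mk₀ e.inv) (add_zero q),
    fun z => by simp [Ext.comp_assoc_of_third_deg_zero, Ext.comp_mk₀_id],
    fun z => by simp [Ext.comp_assoc_of_third_deg_zero, Ext.comp_mk₀_id]⟩

lemma Hpull_comp_eq (F : EtCoh.Ab C) (q : ℕ) :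
    ⇑(EtCore.Hpull (a ≫ b) F q) =
      (fun z => z.comp (Ext.mk₀ ((EtCore.pullComp a b).app F).symm.hom) (add_zero q)) ∘
        (EtCore.Hpull a ((EtCoh.pull b).obj F) q) ∘ (EtCore.Hpull b F q) :=
  funext fun x => (FieldH25.Hpull_comp a b F q x).symm

/-- Cancellation for the comparison condition. -/
theorem compN_comp_iff {L : Set ℕ} {n : ℕ} (ha : EtAcyc.CompN a L n) :
    EtAcyc.CompN b L n ↔ EtAcyc.CompN (a ≫ b) L n := by
  have key : ∀ (F : EtCoh.Ab C), EtAcyc.IsLTorsion L F →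
      (((∀ q, q ≤ n → Function.Bijective (EtCore.Hpull b F q)) ∧ Function.Injective (EtCore.Hpull b F (n + 1))) ↔
      ((∀ q, q ≤ n → Function.Bijective (EtCore.Hpull (a ≫ b) F q)) ∧
        Function.Injective (EtCore.Hpull (a ≫ b) F (n + 1)))) := by
    intro F hF
    obtain ⟨h1, h2⟩ := ha _ (isLTorsion_pull b L hF)
    refine and_congr (forall₂_congr fun q hq => ?_) ?_
    · rw [Hpull_comp_eq]
      exact ((Function.Bijective.of_comp_iff' (bijective_comp_iso ((EtCore.pullComp a b).app F).symm q) _).trans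
        (Function.Bijective.of_comp_iff' (h1 q hq) _)).symm
    · rw [Hpull_comp_eq]
      exact (((bijective_comp_iso ((EtCore.pullComp a b).app F).symm (n + 1)).1.of_comp_iff _).trans
        (h2.of_comp_iff _)).symm
  exact ⟨fun h F hF _ => (key F hF).1 (h F hF), fun h F hF _ => (key F hF).2 (h F hF)⟩

theorem compN_of_isIso [IsIso a] (L : Set ℕ) (n : ℕ) : EtAcyc.CompN a L n := fun F _ _ =>
  ⟨fun q _ => LocAcyc24.bijective_Hpull_of_isIso a F q, (LocAcyc24.bijective_Hpull_of_isIso a F (n + 1)).1⟩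

/-- The unit of a composite. -/
theorem isIso_unit_comp_iff (F : EtDesc.Sh C)
    (h : IsIso ((EtDesc.adjSh a).unit.app ((EtDesc.pullSh b).obj F))) :
    IsIso ((EtDesc.adjSh b).unit.app F) ↔ IsIso ((EtDesc.adjSh (a ≫ b)).unit.app F) := by
  have e : (EtDesc.adjSh (a ≫ b)).unit.app F ≫ (EtDesc.pushSh (a ≫ b)).map ((EtDesc.pullCompSh a b).hom.app F) =
      ((EtDesc.adjSh b).unit.app F ≫ (EtDesc.pushSh b).map ((EtDesc.adjSh a).unit.app ((EtDesc.pullSh b).obj F))) ≫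
        (EtDesc.pushCompSh b a).hom.app ((EtDesc.pullSh a).obj ((EtDesc.pullSh b).obj F)) := by
    refine (Adjunction.unit_leftAdjointUniq_hom_app (EtDesc.adjSh (a ≫ b))
      (((EtDesc.adjSh b).comp (EtDesc.adjSh a)).ofNatIsoRight (EtDesc.pushCompSh b a)) F).trans ?_
    simp [Adjunction.ofNatIsoRight, Adjunction.comp, Adjunction.homEquiv_unit, Adjunction.equivHomsetRightOfNatIso]
  haveI := h
  constructor
  · intro hb
    have : IsIso ((EtDesc.adjSh (a ≫ b)).unit.app F ≫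
        (EtDesc.pushSh (a ≫ b)).map ((EtDesc.pullCompSh a b).hom.app F)) := by rw [e]; infer_instance
    exact IsIso.of_isIso_comp_right _ ((EtDesc.pushSh (a ≫ b)).map ((EtDesc.pullCompSh a b).hom.app F))
  · intro hab
    have h1 : IsIso (((EtDesc.adjSh b).unit.app F ≫ (EtDesc.pushSh b).map ((EtDesc.adjSh a).unit.app ((EtDesc.pullSh b).obj F))) ≫
        (EtDesc.pushCompSh b a).hom.app ((EtDesc.pullSh a).obj ((EtDesc.pullSh b).obj F))) := by
      rw [← e]; infer_instance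
    haveI := IsIso.of_isIso_comp_right ((EtDesc.adjSh b).unit.app F ≫
      (EtDesc.pushSh b).map ((EtDesc.adjSh a).unit.app ((EtDesc.pullSh b).obj F))) ((EtDesc.pushCompSh b a).hom.app _)
    exact IsIso.of_isIso_comp_right _ ((EtDesc.pushSh b).map ((EtDesc.adjSh a).unit.app ((EtDesc.pullSh b).obj F)))

theorem isIso_unit_of_isIso [IsIso a] (F : EtDesc.Sh B) : IsIso ((EtDesc.adjSh a).unit.app F) := by
  rw [Sets.isIso_iff_stalk]
  intro Ω _ _ ξ
  obtain ⟨ζ, rfl⟩ : ∃ ζ, ζ ≫ a = ξ := ⟨ξ ≫ inv a, by simp⟩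
  haveI : IsIso (Sets.pushStalk a ζ ((EtDesc.pullSh a).obj F)) :=
    (ConcreteCategory.isIso_iff_bijective _).2 (Sets.bijective_pushStalk a ζ _)
  have : IsIso ((Sets.stalk (ζ ≫ a)).map ((EtDesc.adjSh a).unit.app F) ≫ Sets.pushStalk a ζ ((EtDesc.pullSh a).obj F)) := by
    rw [Sets.unit_pushStalk]; infer_instance
  haveI := IsIso.of_isIso_comp_right ((Sets.stalk (ζ ≫ a)).map ((EtDesc.adjSh a).unit.app F))
    (Sets.pushStalk a ζ ((EtDesc.pullSh a).obj F))
  exact ConcreteCategory.bijective_of_isIso _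

variable {X Y Z : Scheme.{u}} (g : X ⟶ Y) (h : Y ⟶ Z)

lemma exists_prj_comp (V : Z.Etale) :
    ∃ (e : pullback ((EtCoh.bc h).obj V).hom g ⟶ pullback V.hom (g ≫ h)), IsIso e ∧
      e ≫ EtAcyc.prj (g ≫ h) V = EtAcyc.prj g ((EtCoh.bc h).obj V) ≫ EtAcyc.prj h V := by
  have hp : IsPullback (EtAcyc.prj g ((EtCoh.bc h).obj V) ≫ EtAcyc.prj h V)
      (pullback.snd ((EtCoh.bc h).obj V).hom g) V.hom (g ≫ h) :=
    (IsPullback.of_hasPullback ((EtCoh.bc h).obj V).hom g).flip.paste_vert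
      (IsPullback.of_hasPullback V.hom h).flip |>.flip
  exact ⟨hp.isoPullback.hom, inferInstance, hp.isoPullback_hom_fst⟩

theorem isAcyclicN_comp_iff (L : Set ℕ) (n : ℕ) (hg : EtAcyc.IsAcyclicN g L n) :
    EtAcyc.IsAcyclicN h L n ↔ EtAcyc.IsAcyclicN (g ≫ h) L n := by
  refine forall_congr' fun V => ?_
  obtain ⟨e, he, hev⟩ := exists_prj_comp g h V
  have e₁ := compN_comp_iff (EtAcyc.prj g ((EtCoh.bc h).obj V)) (EtAcyc.prj h V) (hg _)
  have e₂ := compN_comp_iff e (EtAcyc.prj (g ≫ h) V) (compN_of_isIso e L n)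
  rw [hev] at e₂
  exact e₁.trans e₂.symm

theorem isZeroAcyclic_comp_iff (hg : EtAcyc.IsZeroAcyclic g) :
    EtAcyc.IsZeroAcyclic h ↔ EtAcyc.IsZeroAcyclic (g ≫ h) := by
  refine forall₂_congr fun V F => ?_
  obtain ⟨e, he, hev⟩ := exists_prj_comp g h V
  have e₁ := isIso_unit_comp_iff (EtAcyc.prj g ((EtCoh.bc h).obj V)) (EtAcyc.prj h V) F (hg _ _)
  have e₂ := isIso_unit_comp_iff e (EtAcyc.prj (g ≫ h) V) F (isIso_unit_of_isIso e _)
  rw [hev] at e₂
  exact e₁.trans e₂.symm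

end Groth.Agent.EtAcyc24
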