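import Groth.Agent.Lib.EtAcyc24.PushClasses
import Groth.Agent.Lib.EtAcyc24.Comp
import Groth.Agent.Lib.EtStalk.FiniteBC

/-!
# Acyclicity through the unit and the higher direct images

A morphism is `n`-acyclic iff the units are isomorphisms and the higher direct images of inverse images
vanish up to degree `n`.
-/

universe u

open CategoryTheory CategoryTheory.Limits AlgebraicGeometry Opposite CategoryTheory.Abelian

set_option backward.isDefEq.respectTransparency.types false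

namespace Groth.Agent.EtAcyc24

open Groth.Agent.EtStalk

/-- The unit as a morphism between the sheaves themselves. -/
noncomputable def uHom {A B : Scheme.{u}} (p : A ⟶ B) (F : EtCoh.Ab B) : F ⟶ (EtCoh.push p).obj ((EtCoh.pull p).obj F) :=
  (EtCoh.pullPushAdj p).unit.app F

section Restr

variable {U X : Scheme.{u}} (j : U ⟶ X) [Etale j]

/-- Sections of an inverse image along an etale morphism. -/
theorem bijective_map_unit (G : EtCoh.Ab X) {V : X.Etale} {P : U.Etale} (M : P ⟶ (EtCoh.bc j).obj V)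
    (hM : IsIso (M.left ≫ bcFst j V)) :
    Function.Bijective (fun t => ((EtCoh.pull j).obj G).obj.map M.op
      ((uHom j G).hom.app (op V) t)) := by
  let θ := restrPullIso j
  have hunit : (restrPushAdj j).unit.app G ≫ (EtCoh.push j).map (θ.hom.app G) = (EtCoh.pullPushAdj j).unit.app G :=
    Adjunction.unit_leftAdjointUniq_hom_app (restrPushAdj j) (EtCoh.pullPushAdj j) G
  let N : (EtShriek.compEtale j).obj P ⟶ V := (EtShriek.compEtale j).map M ≫ (compBcAdj j).counit.app V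
  have hN : N.left = M.left ≫ bcFst j V := by
    simp [N, compBcAdj, MorphismProperty.Over.mapPullbackAdj, EtShriek.compEtale]
    rfl
  have hNiso : IsIso N := by
    haveI : IsIso N.left := hN ▸ hM
    let N' : (EtShriek.compEtale j).obj P ≅ V := MorphismProperty.Over.isoMk (asIso N.left)
      (MorphismProperty.Over.w N)
    have : N = N'.hom := MorphismProperty.Over.Hom.ext rfl
    rw [this]
    infer_instance
  have key : ∀ t, ((EtCoh.pull j).obj G).obj.map M.op ((uHom j G).hom.app (op V) t) =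
      (θ.hom.app G).hom.app (op P) (G.obj.map N.op t) := by
    intro t
    rw [uHom, ← hunit]
    refine (NatTrans.naturality_apply (θ.hom.app G).hom M.op _).symm.trans ?_
    refine congrArg ((θ.hom.app G).hom.app (op P)) ?_
    rw [op_comp, Functor.map_comp_apply]
    rfl
  rw [show (fun t => ((EtCoh.pull j).obj G).obj.map M.op ((uHom j G).hom.app (op V) t)) =
    (θ.hom.app G).hom.app (op P) ∘ G.obj.map N.op from funext key]
  haveI := hNiso
  exact (ConcreteCategory.bijective_of_isIso ((θ.hom.app G).hom.app (op P))).comp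
    (ConcreteCategory.bijective_of_isIso (G.obj.map N.op))

end Restr

/-- Degree zero comparison is bijectivity of the unit on global sections. -/
theorem bijective_unit_top {X Y : Scheme.{u}} (f : X ⟶ Y) (F : EtCoh.Ab Y)
    (h : Function.Bijective (EtCore.Hpull f F 0)) :
    Function.Bijective ((uHom f F).hom.app (op (EtCoh.top Y))) := by
  unfold uHom
  let B := ((EtCoh.pull f).obj F).obj.map (EtCore.bcTopIso f).inv.op
  suffices Function.Bijective (fun s => B (((EtCoh.pullPushAdj f).unit.app F).hom.app (op (EtCoh.top Y)) s)) from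
    (Function.Bijective.of_comp_iff' (ConcreteCategory.bijective_of_isIso B) _).1 this
  have key : ∀ a : EtCoh.const Y ℤ ⟶ F,
      ((EtCore.pullConst f ℤ).inv ≫ (EtCoh.pull f).map a).hom.app (op (EtCoh.top X)) (oneSec X) =
        B (((EtCoh.pullPushAdj f).unit.app F).hom.app (op (EtCoh.top Y)) (a.hom.app _ (oneSec Y))) := by
    intro a
    show ((EtCoh.pull f).map a).hom.app _ ((EtCore.pullConst f ℤ).inv.hom.app _ (oneSec X)) = _
    rw [pullConst_inv_one f]
    refine (NatTrans.naturality_apply ((EtCoh.pull f).map a).hom (EtCore.bcTopIso f).inv.op _).trans ?_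
    exact congrArg B (congrArg (fun t : EtCoh.const Y ℤ ⟶ (EtCoh.push f).obj ((EtCoh.pull f).obj F) =>
      t.hom.app (op (EtCoh.top Y)) (oneSec Y)) ((EtCoh.pullPushAdj f).unit.naturality a)).symm
  have hH : ∀ a : EtCoh.const Y ℤ ⟶ F, EtCore.Hpull f F 0 (Ext.mk₀ a) =
      Ext.mk₀ ((EtCore.pullConst f ℤ).inv ≫ (EtCoh.pull f).map a) := fun a => by
    rw [Hpull_eq, Ext.mapExactFunctor_mk₀, Ext.mk₀_comp_mk₀]
  constructor
  · intro s s' he
    obtain ⟨a, rfl⟩ := exists_hom_one s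
    obtain ⟨b, rfl⟩ := exists_hom_one s'
    have e : Ext.mk₀ a = Ext.mk₀ b := h.1 (by
      rw [hH, hH]
      exact congrArg _ (const_hom_ext ((key a).trans (he.trans (key b).symm))))
    rw [(Ext.mk₀_bijective _ _).1 e]
  · intro t
    obtain ⟨b, rfl⟩ := exists_hom_one t
    obtain ⟨x, hx⟩ := h.2 (Ext.mk₀ b)
    obtain ⟨a, rfl⟩ := (Ext.mk₀_bijective _ _).2 x
    rw [hH] at hx
    exact ⟨_, (key a).symm.trans (by rw [(Ext.mk₀_bijective _ _).1 hx])⟩

variable {X Y : Scheme.{u}}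

/-- Projections of acyclic morphisms are acyclic. -/
theorem isAcyclicN_prj (g : X ⟶ Y) (L : Set ℕ) (n : ℕ) (hg : EtAcyc.IsAcyclicN g L n) (V : Y.Etale) :
    EtAcyc.IsAcyclicN (EtAcyc.prj g V) L n := fun W => by
  haveI : Etale V.hom := V.prop
  haveI : Etale W.hom := W.prop
  let U : Y.Etale := Scheme.Etale.mk (W.hom ≫ V.hom)
  have hp : IsPullback (EtAcyc.prj (EtAcyc.prj g V) W) (pullback.snd W.hom (EtAcyc.prj g V) ≫ pullback.snd V.hom g)
      U.hom g :=
    (IsPullback.of_hasPullback W.hom (EtAcyc.prj g V)).paste_vert (IsPullback.of_hasPullback V.hom g)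
  let e : pullback W.hom (EtAcyc.prj g V) ⟶ pullback U.hom g := hp.isoPullback.hom
  have he : e ≫ EtAcyc.prj g U = EtAcyc.prj (EtAcyc.prj g V) W := hp.isoPullback_hom_fst
  have h := (compN_comp_iff e (EtAcyc.prj g U) (compN_of_isIso e L n)).1 (hg U)
  rwa [he] at h

variable (f : X ⟶ Y)

/-- The comparison of iterated inverse images around the square of an etale base change. -/
noncomputable def sqIso (W : Y.Etale) (F : EtCoh.Ab Y) :
    (EtCoh.pull (pullback.fst W.hom f)).obj ((EtCoh.pull W.hom).obj F) ≅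
      (EtCoh.pull (pullback.snd W.hom f)).obj ((EtCoh.pull f).obj F) :=
  ((EtCore.pullComp (pullback.fst W.hom f) W.hom).app F).symm ≪≫
    (EtCore.pullCongr pullback.condition).app F ≪≫ (EtCore.pullComp (pullback.snd W.hom f) f).app F

lemma unit_pullComp {A B C : Scheme.{u}} (a : A ⟶ B) (b : B ⟶ C) (F : EtCoh.Ab C) :
    (EtCoh.pullPushAdj (a ≫ b)).unit.app F ≫ (EtCoh.push (a ≫ b)).map ((EtCore.pullComp a b).hom.app F) =
      ((EtCoh.pullPushAdj b).unit.app F ≫ (EtCoh.push b).map ((EtCoh.pullPushAdj a).unit.app ((EtCoh.pull b).obj F))) ≫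
        (EtCoh.pushComp b a).hom.app ((EtCoh.pull a).obj ((EtCoh.pull b).obj F)) := by
  refine (Adjunction.unit_leftAdjointUniq_hom_app (EtCoh.pullPushAdj (a ≫ b))
    (((EtCoh.pullPushAdj b).comp (EtCoh.pullPushAdj a)).ofNatIsoRight (EtCoh.pushComp b a)) F).trans ?_
  simp [Adjunction.ofNatIsoRight, Adjunction.comp, Adjunction.homEquiv_unit, Adjunction.equivHomsetRightOfNatIso]

lemma pushCongr_refl_hom {A B : Scheme.{u}} (a : A ⟶ B) (G : EtCoh.Ab A) :
    (EtCoh.pushCongr (rfl : a = a)).hom.app G = 𝟙 _ := by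
  refine Sheaf.hom_ext (NatTrans.ext (funext fun V => ?_))
  show G.obj.map ((MorphismProperty.Over.pullbackCongr (P := EtCoh.etaleMP) (Q := ⊤) (rfl : a = a)).inv.app V.unop).op = _
  rw [show (MorphismProperty.Over.pullbackCongr (P := EtCoh.etaleMP) (Q := ⊤) (rfl : a = a)).inv.app V.unop = 𝟙 _ by
    simp only [MorphismProperty.Over.pullbackCongr, NatIso.ofComponents_inv_app]
    apply MorphismProperty.Over.Hom.ext
    apply pullback.hom_ext <;> simp <;> rfl]
  exact G.obj.map_id _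

lemma unit_pushCongr {A B : Scheme.{u}} {a a' : A ⟶ B} (e : a = a') (F : EtCoh.Ab B) :
    (EtCoh.pullPushAdj a).unit.app F ≫ (EtCoh.pushCongr e).hom.app ((EtCoh.pull a).obj F) =
      (EtCoh.pullPushAdj a').unit.app F ≫ (EtCoh.push a').map ((EtCore.pullCongr e.symm).hom.app F) := by
  subst e
  rw [pushCongr_refl_hom, show (EtCore.pullCongr (rfl : a = a)) = Iso.refl _ from rfl]
  simp

section Abstract

variable {C : Type*} [Category C]

lemma square_abstract {F₀ Uh Ub Rbh Raw Rw Ra Sbh Saw Sa Q₂ : C} (uh : F₀ ⟶ Uh) (ub : Uh ⟶ Ub) (ch : Ub ⟶ Rbh)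
    (cg : Rbh ⟶ Raw) (ci : Raw ⟶ Rw) (ubh : F₀ ⟶ Sbh) (P3 : Sbh ⟶ Rbh) (cg₀ : Sbh ⟶ Sa) (P3' : Sa ⟶ Raw)
    (uaw : F₀ ⟶ Saw) (P2 : Saw ⟶ Sa) (uw : F₀ ⟶ Q₂) (ua : Q₂ ⟶ Ra) {T : C} (cw : Ra ⟶ T) (P1 : T ⟶ Saw)
    (ci₀ : T ⟶ Ra) (Q : Ra ⟶ Rw) (h1 : ubh ≫ P3 = (uh ≫ ub) ≫ ch) (n1 : P3 ≫ cg = cg₀ ≫ P3')
    (hcg : ubh ≫ cg₀ = uaw ≫ P2) (h2 : uaw = (uw ≫ ua) ≫ cw ≫ P1)
    (n2 : ((P1 ≫ P2) ≫ P3') ≫ ci = ci₀ ≫ Q) (hcw : cw ≫ ci₀ = 𝟙 _) :
    uh ≫ ub ≫ ch ≫ cg ≫ ci = uw ≫ ua ≫ Q := by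
  rw [← reassoc_of% h1, reassoc_of% n1, reassoc_of% hcg, h2]
  simp only [Category.assoc] at n2 ⊢
  rw [n2, reassoc_of% hcw]

variable {CP CW CA CB : Type*} [Category CP] [Category CW] [Category CA] [Category CB]
  {La : CW ⥤ CP} {Ra : CP ⥤ CW} (adja : La ⊣ Ra) {Lw : CB ⥤ CW} {Rw : CW ⥤ CB} (adjw : Lw ⊣ Rw)
  {Lb : CA ⥤ CP} {Rb : CP ⥤ CA} (adjb : Lb ⊣ Rb) {Lh : CB ⥤ CA} {Rh : CA ⥤ CB} (adjh : Lh ⊣ Rh)
  {Law : CB ⥤ CP} {Raw : CP ⥤ CB} (adjaw : Law ⊣ Raw) {Lbh : CB ⥤ CP} {Rbh : CP ⥤ CB} (adjbh : Lbh ⊣ Rbh)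
  (γb : Rb ⋙ Rh ≅ Rbh) (γa : Ra ⋙ Rw ≅ Raw) (cg : Rbh ≅ Raw)
  (qb : Lbh ≅ Lh ⋙ Lb) (qa : Law ≅ Lw ⋙ La) (q : Law ≅ Lbh)

lemma square_adj (F : CB)
    (hb : adjbh.unit.app F ≫ Rbh.map (qb.hom.app F) =
      (adjh.unit.app F ≫ Rh.map (adjb.unit.app (Lh.obj F))) ≫ γb.hom.app (Lb.obj (Lh.obj F)))
    (ha : adjaw.unit.app F ≫ Raw.map (qa.hom.app F) =
      (adjw.unit.app F ≫ Rw.map (adja.unit.app (Lw.obj F))) ≫ γa.hom.app (La.obj (Lw.obj F)))
    (hg : adjbh.unit.app F ≫ cg.hom.app (Lbh.obj F) = adjaw.unit.app F ≫ Raw.map (q.hom.app F)) :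
    adjh.unit.app F ≫ Rh.map (adjb.unit.app (Lh.obj F)) ≫ γb.hom.app _ ≫ cg.hom.app _ ≫ γa.inv.app _ =
      adjw.unit.app F ≫ Rw.map (adja.unit.app (Lw.obj F)) ≫
        Rw.map (Ra.map ((qa.app F).symm ≪≫ q.app F ≪≫ qb.app F).hom) := by
  refine square_abstract _ _ _ _ _ (adjbh.unit.app F) (Rbh.map (qb.hom.app F)) (cg.hom.app _)
    (Raw.map (qb.hom.app F)) (adjaw.unit.app F) (Raw.map (q.hom.app F)) _ _ (γa.hom.app _)
    (Raw.map (qa.inv.app F)) (γa.inv.app _) _ hb (cg.hom.naturality _) hg ?_ ?_ (Iso.hom_inv_id_app _ _)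
  · refine Eq.trans ?_ ((congrArg (fun t => t ≫ Raw.map (qa.inv.app F)) ha).trans (Category.assoc _ _ _))
    simp only [Category.assoc, ← Functor.map_comp, Iso.hom_inv_id_app, CategoryTheory.Functor.map_id]
    exact (Category.comp_id _).symm
  · rw [← Functor.map_comp, ← Functor.map_comp, Category.assoc]
    exact γa.inv.naturality _

end Abstract

lemma unit_square_gen {P W A B : Scheme.{u}} (a : P ⟶ W) (w : W ⟶ B) (b : P ⟶ A) (h : A ⟶ B) (e : b ≫ h = a ≫ w)
    (F : EtCoh.Ab B) :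
    (EtCoh.pullPushAdj h).unit.app F ≫
      (EtCoh.push h).map ((EtCoh.pullPushAdj b).unit.app ((EtCoh.pull h).obj F)) ≫
        (EtCoh.pushComp h b).hom.app _ ≫ (EtCoh.pushCongr e).hom.app _ ≫ (EtCoh.pushComp w a).inv.app _ =
    (EtCoh.pullPushAdj w).unit.app F ≫
      (EtCoh.push w).map ((EtCoh.pullPushAdj a).unit.app ((EtCoh.pull w).obj F)) ≫
        (EtCoh.push w).map ((EtCoh.push a).map
          (((EtCore.pullComp a w).app F).symm ≪≫ (EtCore.pullCongr e.symm).app F ≪≫ (EtCore.pullComp b h).app F).hom) :=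
  square_adj (EtCoh.pullPushAdj a) (EtCoh.pullPushAdj w) (EtCoh.pullPushAdj b) (EtCoh.pullPushAdj h)
    (EtCoh.pullPushAdj (a ≫ w)) (EtCoh.pullPushAdj (b ≫ h)) (EtCoh.pushComp h b) (EtCoh.pushComp w a)
    (EtCoh.pushCongr e) (EtCore.pullComp b h) (EtCore.pullComp a w) (EtCore.pullCongr e.symm) F
    (unit_pullComp b h F) (unit_pullComp a w F) (unit_pushCongr e F)

lemma right_apply {P W B : Scheme.{u}} (a : P ⟶ W) (w : W ⟶ B) {F : EtCoh.Ab B} {M : EtCoh.Ab W} {N G : EtCoh.Ab P}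
    (uw : F ⟶ (EtCoh.push w).obj M) (ua : M ⟶ (EtCoh.push a).obj N) (c : N ⟶ G) (V : B.Etale) (s : F.obj.obj (op V)) :
    (uw ≫ (EtCoh.push w).map ua ≫ (EtCoh.push w).map ((EtCoh.push a).map c)).hom.app (op V) s =
      c.hom.app (op ((EtCoh.bc a).obj ((EtCoh.bc w).obj V)))
        (ua.hom.app (op ((EtCoh.bc w).obj V)) (uw.hom.app (op V) s)) := rfl

lemma left_apply {P W A B : Scheme.{u}} (a : P ⟶ W) (w : W ⟶ B) (b : P ⟶ A) (h : A ⟶ B) (e : b ≫ h = a ≫ w)
    {F : EtCoh.Ab B} {M : EtCoh.Ab A} {G : EtCoh.Ab P} (uh : F ⟶ (EtCoh.push h).obj M)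
    (ub : M ⟶ (EtCoh.push b).obj G) (V : B.Etale) (s : F.obj.obj (op V)) :
    (uh ≫ (EtCoh.push h).map ub ≫ (EtCoh.pushComp h b).hom.app G ≫ (EtCoh.pushCongr e).hom.app G ≫
        (EtCoh.pushComp w a).inv.app G).hom.app (op V) s =
      G.obj.map (sqHom h w a b e V).op (ub.hom.app (op ((EtCoh.bc h).obj V)) (uh.hom.app (op V) s)) := by
  simp only [sqHom, op_comp, Functor.map_comp_apply]
  rfl

lemma apply_of_eq {P W A B : Scheme.{u}} (a : P ⟶ W) (w : W ⟶ B) (b : P ⟶ A) (h : A ⟶ B) (e : b ≫ h = a ≫ w)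
    {F : EtCoh.Ab B} {M : EtCoh.Ab A} {M' : EtCoh.Ab W} {N G : EtCoh.Ab P} (uh : F ⟶ (EtCoh.push h).obj M)
    (ub : M ⟶ (EtCoh.push b).obj G) (uw : F ⟶ (EtCoh.push w).obj M') (ua : M' ⟶ (EtCoh.push a).obj N) (c : N ⟶ G)
    (hc : uh ≫ (EtCoh.push h).map ub ≫ (EtCoh.pushComp h b).hom.app G ≫ (EtCoh.pushCongr e).hom.app G ≫
        (EtCoh.pushComp w a).inv.app G = uw ≫ (EtCoh.push w).map ua ≫ (EtCoh.push w).map ((EtCoh.push a).map c))
    (V : B.Etale) (s : F.obj.obj (op V)) :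
    G.obj.map (sqHom h w a b e V).op (ub.hom.app (op ((EtCoh.bc h).obj V)) (uh.hom.app (op V) s)) =
      c.hom.app (op ((EtCoh.bc a).obj ((EtCoh.bc w).obj V)))
        (ua.hom.app (op ((EtCoh.bc w).obj V)) (uw.hom.app (op V) s)) :=
  (left_apply a w b h e uh ub V s).symm.trans
    ((congrArg (fun φ : F ⟶ (EtCoh.push w).obj ((EtCoh.push a).obj G) => φ.hom.app (op V) s) hc).trans
      (right_apply a w uw ua c V s))

/-- The comparison of iterated inverse images around a commutative square. -/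
noncomputable def sqIsoGen {P W A B : Scheme.{u}} (a : P ⟶ W) (w : W ⟶ B) (b : P ⟶ A) (h : A ⟶ B) (e : b ≫ h = a ≫ w)
    (F : EtCoh.Ab B) : (EtCoh.pull a).obj ((EtCoh.pull w).obj F) ≅ (EtCoh.pull b).obj ((EtCoh.pull h).obj F) :=
  ((EtCore.pullComp a w).app F).symm ≪≫ (EtCore.pullCongr e.symm).app F ≪≫ (EtCore.pullComp b h).app F

/-- Units along a commutative square, on sections. -/
lemma unit_square_apply {P W A B : Scheme.{u}} (a : P ⟶ W) (w : W ⟶ B) (b : P ⟶ A) (h : A ⟶ B) (e : b ≫ h = a ≫ w)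
    (F : EtCoh.Ab B) (V : B.Etale) (s : F.obj.obj (op V)) :
    ((EtCoh.pull b).obj ((EtCoh.pull h).obj F)).obj.map (sqHom h w a b e V).op
        ((uHom b ((EtCoh.pull h).obj F)).hom.app (op ((EtCoh.bc h).obj V)) ((uHom h F).hom.app (op V) s)) =
      (sqIsoGen a w b h e F).hom.hom.app (op ((EtCoh.bc a).obj ((EtCoh.bc w).obj V)))
        ((uHom a ((EtCoh.pull w).obj F)).hom.app (op ((EtCoh.bc w).obj V)) ((uHom w F).hom.app (op V) s)) :=
  apply_of_eq a w b h e (uHom h F) (uHom b ((EtCoh.pull h).obj F)) (uHom w F) (uHom a ((EtCoh.pull w).obj F))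
    (sqIsoGen a w b h e F).hom (unit_square_gen a w b h e F) V s

lemma bijective_app {X : Scheme.{u}} {N G : EtCoh.Ab X} (i : N ≅ G) (U : X.Etaleᵒᵖ) : Function.Bijective (fun z => i.hom.hom.app U z) :=
  ConcreteCategory.bijective_of_isIso (((sheafToPresheaf X.smallEtaleTopology AddCommGrpCat.{u + 1}).mapIso i).app U).hom

lemma bijective_of_square {α β γ δ ε : Type*} (u : α → β) (ρ : β → γ) (φ : α → δ) (v : δ → ε) (c : ε → γ)
    (h : ∀ s, ρ (u s) = c (v (φ s))) (hρ : Function.Bijective ρ) (hφ : Function.Bijective φ)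
    (hv : Function.Bijective v) (hc : Function.Bijective c) : Function.Bijective u := by
  refine (Function.Bijective.of_comp_iff' hρ _).1 ?_
  rw [show ρ ∘ u = c ∘ v ∘ φ from funext h]
  exact hc.comp (hv.comp hφ)

lemma naturality_push {P W : Scheme.{u}} (a : P ⟶ W) {M : EtCoh.Ab W} {N G : EtCoh.Ab P}
    (ua : M ⟶ (EtCoh.push a).obj N) (c : N ⟶ G) {Z T : W.Etale} (d : T ⟶ Z) (y : M.obj.obj (op Z)) :
    G.obj.map ((EtCoh.bc a).map d).op (c.hom.app (op ((EtCoh.bc a).obj Z)) (ua.hom.app (op Z) y)) =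
      c.hom.app (op ((EtCoh.bc a).obj T)) (ua.hom.app (op T) (M.obj.map d.op y)) := by
  refine (NatTrans.naturality_apply c.hom ((EtCoh.bc a).map d).op _).symm.trans ?_
  exact congrArg _ (NatTrans.naturality_apply ua.hom d.op y).symm

lemma map_comp_apply_op {P : Scheme.{u}} (G : EtCoh.Ab P) {U V W : P.Etale} (m : U ⟶ V) (n : V ⟶ W)
    (y : G.obj.obj (op W)) : G.obj.map (m ≫ n).op y = G.obj.map m.op (G.obj.map n.op y) := by
  rw [op_comp, Functor.map_comp_apply]

lemma square_key {P W A B : Scheme.{u}} (a : P ⟶ W) (w : W ⟶ B) (b : P ⟶ A) (h : A ⟶ B)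
    (e : b ≫ h = a ≫ w) (F : EtCoh.Ab B) (V : B.Etale) (T : W.Etale) (d : T ⟶ (EtCoh.bc w).obj V)
    (s : F.obj.obj (op V)) :
    ((EtCoh.pull b).obj ((EtCoh.pull h).obj F)).obj.map ((EtCoh.bc a).map d ≫ sqHom h w a b e V).op
      ((uHom b ((EtCoh.pull h).obj F)).hom.app (op ((EtCoh.bc h).obj V)) ((uHom h F).hom.app (op V) s)) =
      (sqIsoGen a w b h e F).hom.hom.app (op ((EtCoh.bc a).obj T)) ((uHom a ((EtCoh.pull w).obj F)).hom.app (op T)
        (((EtCoh.pull w).obj F).obj.map d.op ((uHom w F).hom.app (op V) s))) :=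
  Eq.trans (map_comp_apply_op _ _ _ _) (Eq.trans (congrArg _ (unit_square_apply a w b h e F V s))
    (naturality_push a (uHom a ((EtCoh.pull w).obj F)) (sqIsoGen a w b h e F).hom d ((uHom w F).hom.app (op V) s)))

/-- Bijectivity on sections from the other sides of a square, for any sheaves. -/
lemma bijective_app_of_square {P W A B : Scheme.{u}} (a : P ⟶ W) (w : W ⟶ B) (b : P ⟶ A) (h : A ⟶ B)
    {F : EtCoh.Ab B} {M : EtCoh.Ab A} {M' : EtCoh.Ab W} {N G : EtCoh.Ab P} (uh : F ⟶ (EtCoh.push h).obj M)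
    (ub : M ⟶ (EtCoh.push b).obj G) (uw : F ⟶ (EtCoh.push w).obj M') (ua : M' ⟶ (EtCoh.push a).obj N) (c : N ≅ G)
    (V : B.Etale) (T : W.Etale) (d : T ⟶ (EtCoh.bc w).obj V)
    (r : (EtCoh.bc a).obj T ⟶ (EtCoh.bc b).obj ((EtCoh.bc h).obj V))
    (key : ∀ s, G.obj.map r.op (ub.hom.app (op ((EtCoh.bc h).obj V)) (uh.hom.app (op V) s)) =
      c.hom.hom.app (op ((EtCoh.bc a).obj T)) (ua.hom.app (op T) (M'.obj.map d.op (uw.hom.app (op V) s))))
    (hβ : Function.Bijective (fun t => G.obj.map r.op (ub.hom.app (op ((EtCoh.bc h).obj V)) t)))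
    (hα : Function.Bijective (fun s => M'.obj.map d.op (uw.hom.app (op V) s)))
    (h0 : Function.Bijective (ua.hom.app (op T))) :
    Function.Bijective (uh.hom.app (op V)) :=
  bijective_of_square _ _ _ _ _ key hβ hα h0 (bijective_app c (op ((EtCoh.bc a).obj T)))

/-- Bijectivity of a unit on sections from the other sides of a square. -/
lemma bijective_uHom_of_square {P W A B : Scheme.{u}} (a : P ⟶ W) (w : W ⟶ B) (b : P ⟶ A) (h : A ⟶ B)
    (e : b ≫ h = a ≫ w) (F : EtCoh.Ab B) (V : B.Etale) (T : W.Etale) (d : T ⟶ (EtCoh.bc w).obj V)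
    (hα : Function.Bijective (fun s => ((EtCoh.pull w).obj F).obj.map d.op ((uHom w F).hom.app (op V) s)))
    (hβ : Function.Bijective (fun t => ((EtCoh.pull b).obj ((EtCoh.pull h).obj F)).obj.map
      ((EtCoh.bc a).map d ≫ sqHom h w a b e V).op
        ((uHom b ((EtCoh.pull h).obj F)).hom.app (op ((EtCoh.bc h).obj V)) t)))
    (h0 : Function.Bijective ((uHom a ((EtCoh.pull w).obj F)).hom.app (op T))) :
    Function.Bijective ((uHom h F).hom.app (op V)) := by
  exact bijective_app_of_square a w b h (uHom h F) (uHom b ((EtCoh.pull h).obj F)) (uHom w F)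
    (uHom a ((EtCoh.pull w).obj F)) (sqIsoGen a w b h e F) V T d ((EtCoh.bc a).map d ≫ sqHom h w a b e V)
    (fun s => square_key a w b h e F V T d s) hβ hα h0

/-- The units are isomorphisms. -/
theorem isIso_unit_of_compN (L : Set ℕ) (n : ℕ) (hf : EtAcyc.IsAcyclicN f L n) (F : EtCoh.Ab Y)
    (hF : EtAcyc.IsLTorsion L F) : IsIso (uHom f F) := by
  suffices ∀ W : Y.Etale, Function.Bijective ((uHom f F).hom.app (op W)) by
    suffices h : IsIso (uHom f F) from h
    haveI : IsIso ((sheafToPresheaf _ _).map (uHom f F)) := by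
      rw [NatTrans.isIso_iff_isIso_app]
      exact fun W => (ConcreteCategory.isIso_iff_bijective _).2 (this W.unop)
    exact isIso_of_reflects_iso _ (sheafToPresheaf _ _)
  intro W
  haveI : Etale W.hom := W.prop
  let a : pullback W.hom f ⟶ W.left := pullback.fst W.hom f
  let b : pullback W.hom f ⟶ X := pullback.snd W.hom f
  let FW := (EtCoh.pull W.hom).obj F
  let d : EtCoh.top W.left ⟶ (EtCoh.bc W.hom).obj W :=
    MorphismProperty.Over.homMk (pullback.lift (𝟙 _) (𝟙 _) rfl) (pullback.lift_snd _ _ _)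
  have hα := bijective_map_unit W.hom F (V := W) d (by
    rw [show d.left ≫ bcFst W.hom W = 𝟙 _ from pullback.lift_fst _ _ _]
    exact inferInstanceAs (IsIso (𝟙 W.left)))
  let M : (EtCoh.bc a).obj (EtCoh.top W.left) ⟶ (EtCoh.bc b).obj ((EtCoh.bc f).obj W) :=
    (EtCoh.bc a).map d ≫ sqHom f W.hom a b pullback.condition.symm W
  have hM : IsIso (M.left ≫ bcFst b ((EtCoh.bc f).obj W)) := by
    have e : M.left ≫ bcFst b ((EtCoh.bc f).obj W) = pullback.snd (𝟙 W.left) a := by
      apply pullback.hom_ext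
      · refine (Category.assoc _ _ _).trans ?_
        show (((EtCoh.bc a).map d).left ≫ (sqHom f W.hom a b pullback.condition.symm W).left) ≫
          bcFst b ((EtCoh.bc f).obj W) ≫ bcFst f W = _
        refine (Category.assoc _ _ _).trans ?_
        refine ((congrArg (((EtCoh.bc a).map d).left ≫ ·) (sqHom_fst f W.hom a b pullback.condition.symm W))).trans ?_
        refine (Category.assoc _ _ _).symm.trans ((congrArg (· ≫ bcFst W.hom W) (EtCoh.isPullback_bc_map a d).w).trans ?_)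
        refine (Category.assoc _ _ _).trans ((congrArg (_ ≫ ·) (pullback.lift_fst _ _ _)).trans ?_)
        exact pullback.condition
      · have hw : bcFst b ((EtCoh.bc f).obj W) ≫ pullback.snd W.hom f =
            ((EtCoh.bc b).obj ((EtCoh.bc f).obj W)).hom ≫ b := pullback.condition
        refine (Category.assoc _ _ _).trans ((congrArg (M.left ≫ ·) hw).trans ?_)
        exact (Category.assoc _ _ _).symm.trans (congrArg (· ≫ b) (MorphismProperty.Over.w M))
    rw [e]
    exact @pullback_snd_iso_of_left_iso _ _ _ _ _ (𝟙 W.left) a (IsIso.id _)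
  have hβ := bijective_map_unit b ((EtCoh.pull f).obj F) (V := (EtCoh.bc f).obj W) M hM
  have h0 := bijective_unit_top a FW (((hf W) FW (isLTorsion_pull W.hom L hF)).1 0 (Nat.zero_le n))
  exact bijective_uHom_of_square a W.hom b f pullback.condition.symm F W (EtCoh.top W.left) d hα hβ h0

/-- Degree `m + 1` classes that come from below everywhere kill the higher direct image. -/
theorem isZero_Rpush_of_surjective : ∀ (m : ℕ) (G : EtCoh.Ab X),
    (∀ (W : Y.Etale) [Etale W.hom], Function.Surjective (EtLim.HofPush (pullback.fst W.hom f)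
      ((EtShriek.restrAlong (pullback.snd W.hom f)).obj G) (m + 1))) →
    IsZero ((EtCoh.Rpush f (m + 1)).obj G) := by
  intro m
  induction m with
  | zero =>
    intro G hG
    let S := ShortComplex.mk (Injective.ι G) (cokernel.π (Injective.ι G)) (cokernel.condition _)
    have hS : S.ShortExact := { exact := ShortComplex.exact_cokernel (Injective.ι G) }
    haveI : Injective S.X₂ := inferInstanceAs (Injective (Injective.under G))
    haveI : Sheaf.IsLocallySurjective ((EtCoh.push f).map S.g) := by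
      refine ⟨fun {W} q => ?_⟩
      haveI : Etale W.hom := W.prop
      let a : pullback W.hom f ⟶ W.left := pullback.fst W.hom f
      let b : pullback W.hom f ⟶ X := pullback.snd W.hom f
      haveI : (EtShriek.restrAlong b).IsLeftAdjoint := (restrPushAdj b).isLeftAdjoint
      haveI : (EtShriek.restrAlong b).IsRightAdjoint := (EtShriek.extZeroAdj b).isRightAdjoint
      haveI : (EtShriek.restrAlong b).Additive := (restrPushAdj b).left_adjoint_additive
      let T := S.map (EtShriek.restrAlong b)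
      have hT : T.ShortExact := hS.map_of_exact _
      haveI : Injective T.X₂ := injective_restrAlong b S.X₂
      let m₀ : (EtShriek.compEtale b).obj ((EtCoh.bc a).obj (EtCoh.top W.left)) ⟶ (EtCoh.bc f).obj W :=
        MorphismProperty.Over.homMk (pullback.snd (EtCoh.top W.left).hom a) rfl
      have hcov := exists_local_lift a hT (hG W) (S.X₃.obj.map m₀.op q)
      rw [EtSite.mem_et_iff] at hcov ⊢
      intro x
      obtain ⟨W', g', w, ⟨y, hy⟩, hw⟩ := hcov x
      let g'' : (EtShriek.compEtale W.hom).obj W' ⟶ W :=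
        MorphismProperty.Over.homMk (show W'.left ⟶ W.left from W'.hom) rfl
      have hw'' : W'.hom w = x := by
        rw [← hw]
        exact congrArg (fun φ : W'.left ⟶ W.left => φ w) ((MorphismProperty.Over.w g').symm.trans (Category.comp_id _))
      refine ⟨_, g'', w, ?_, hw''⟩
      let W'' := (EtShriek.compEtale W.hom).obj W'
      have hin : (pullback.fst W''.hom f ≫ W'.hom) ≫ W.hom = pullback.snd W''.hom f ≫ f :=
        (Category.assoc _ _ _).trans pullback.condition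
      let μ : (EtCoh.bc f).obj W'' ⟶ (EtShriek.compEtale b).obj ((EtCoh.bc a).obj W') :=
        MorphismProperty.Over.homMk (pullback.lift (pullback.fst W''.hom f)
          (pullback.lift (pullback.fst W''.hom f ≫ W'.hom) (pullback.snd W''.hom f) hin)
          (pullback.lift_fst _ _ _).symm) (by
            show pullback.lift _ _ _ ≫ pullback.snd W'.hom a ≫ b = _
            rw [pullback.lift_snd_assoc]
            exact pullback.lift_snd _ _ _)
      refine ⟨S.X₂.obj.map μ.op y, ?_⟩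
      show S.g.hom.app (op ((EtCoh.bc f).obj W'')) (S.X₂.obj.map μ.op y) = S.X₃.obj.map ((EtCoh.bc f).map g'').op q
      refine (NatTrans.naturality_apply S.g.hom μ.op y).trans ((congrArg (S.X₃.obj.map μ.op) hy).trans ?_)
      show S.X₃.obj.map μ.op (S.X₃.obj.map ((EtShriek.compEtale b).map ((EtCoh.bc a).map g')).op
        (S.X₃.obj.map m₀.op q)) = _
      rw [← Functor.map_comp_apply, ← Functor.map_comp_apply, ← op_comp, ← op_comp]
      refine congrArg (fun φ : (EtCoh.bc f).obj W'' ⟶ (EtCoh.bc f).obj W => S.X₃.obj.map φ.op q) ?_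
      let ψ : (EtCoh.bc f).obj W'' ⟶ (EtCoh.bc f).obj W :=
        (μ ≫ (EtShriek.compEtale b).map ((EtCoh.bc a).map g')) ≫ m₀
      refine MorphismProperty.Over.Hom.ext (pullback.hom_ext ?_ ((MorphismProperty.Over.w ψ).trans
        (MorphismProperty.Over.w ((EtCoh.bc f).map g'')).symm :))
      refine Eq.trans ?_ (pullback.lift_fst _ _ _).symm
      refine (Category.assoc _ _ _).trans ?_
      show μ.left ≫ (((EtCoh.bc a).map g').left ≫ pullback.snd (EtCoh.top W.left).hom a) ≫ pullback.fst W.hom f = _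
      refine (congrArg (fun t => μ.left ≫ t ≫ pullback.fst W.hom f) (MorphismProperty.Over.w ((EtCoh.bc a).map g'))).trans ?_
      refine (Category.assoc _ _ _).symm.trans ((congrArg (· ≫ _) (pullback.lift_snd _ _ _)).trans ?_)
      exact pullback.lift_fst _ _ _
    haveI : Epi ((EtCoh.push f).map S.g) := (Sheaf.isLocallySurjective_iff_epi' _ _).1 inferInstance
    obtain ⟨T⟩ := RDerLES.exists_sesRes hS
    obtain ⟨-, ⟨w, hw⟩, ⟨w', hw'⟩⟩ := RDerLES.exact_sequences (EtCoh.push f) T 0 1 rfl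
    have hepi : Epi (((EtCoh.push f).rightDerived 0).map S.g) :=
      ((MorphismProperty.epimorphisms _).arrow_mk_iso_iff
        (Arrow.isoMk' _ _ ((EtCoh.push f).rightDerivedZeroIsoSelf.app S.X₂)
          ((EtCoh.push f).rightDerivedZeroIsoSelf.app S.X₃)
          ((EtCoh.push f).rightDerivedZeroIsoSelf.hom.naturality S.g).symm)).2 ‹_›
    exact hw'.isZero_X₂ (Eq.trans ((cancel_epi (((EtCoh.push f).rightDerived 0).map S.g)).1 (w.trans comp_zero.symm)) rfl)
      (((EtCoh.push f).isZero_rightDerived_obj_injective_succ 0 S.X₂).eq_of_tgt _ _)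
  | succ m ih =>
    intro G hG
    let S := ShortComplex.mk (Injective.ι G) (cokernel.π (Injective.ι G)) (cokernel.condition _)
    have hS : S.ShortExact := { exact := ShortComplex.exact_cokernel (Injective.ι G) }
    haveI : Injective S.X₂ := inferInstanceAs (Injective (Injective.under G))
    have hQ := ih S.X₃ fun W _ => by
      let b : pullback W.hom f ⟶ X := pullback.snd W.hom f
      haveI : (EtShriek.restrAlong b).IsLeftAdjoint := (restrPushAdj b).isLeftAdjoint
      haveI : (EtShriek.restrAlong b).IsRightAdjoint := (EtShriek.extZeroAdj b).isRightAdjoint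
      haveI : (EtShriek.restrAlong b).Additive := (restrPushAdj b).left_adjoint_additive
      let T := S.map (EtShriek.restrAlong b)
      haveI : Injective T.X₂ := injective_restrAlong b S.X₂
      exact surjective_HofPush_shift (pullback.fst W.hom f) (hS.map_of_exact (EtShriek.restrAlong b)) m (hG W)
    obtain ⟨T⟩ := RDerLES.exists_sesRes hS
    obtain ⟨-, -, ⟨w', hw'⟩⟩ := RDerLES.exact_sequences (EtCoh.push f) T (m + 1) (m + 2) rfl
    exact hw'.isZero_X₂ (hQ.eq_of_src _ _)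
      (((EtCoh.push f).isZero_rightDerived_obj_injective_succ (m + 1) S.X₂).eq_of_tgt _ _)

/-- Higher direct images of inverse images vanish. -/
theorem isZero_Rpush_of_compN (L : Set ℕ) (n : ℕ) (hf : EtAcyc.IsAcyclicN f L n) (F : EtCoh.Ab Y)
    (hF : EtAcyc.IsLTorsion L F) (q : ℕ) (h1 : 1 ≤ q) (hq : q ≤ n) :
    IsZero ((EtCoh.Rpush f q).obj ((EtCoh.pull f).obj F)) := by
  obtain ⟨m, rfl⟩ := Nat.exists_eq_add_one.2 h1
  refine isZero_Rpush_of_surjective f m _ fun W _ => ?_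
  refine surjective_HofPush_of_iso _ (sqIso f W F ≪≫ ((restrPullIso (pullback.snd W.hom f)).app _).symm) _ ?_
  intro y
  obtain ⟨x, hx⟩ := (((hf W) _ (isLTorsion_pull W.hom L hF)).1 (m + 1) hq).2 y
  exact ⟨_, (FieldH25.HofPush_unit _ _ _ x).trans hx⟩

/-- The unit and the higher direct images give the comparison. -/
theorem compN_of_unit (L : Set ℕ) (n : ℕ) (hu : ∀ F, EtAcyc.IsLTorsion L F →
      IsIso ((EtCoh.pullPushAdj f).unit.app F) ∧
        ∀ q : ℕ, 1 ≤ q → q ≤ n → IsZero ((EtCoh.Rpush f q).obj ((EtCoh.pull f).obj F))) :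
    EtAcyc.CompN f L n := by
  intro F hF _
  obtain ⟨hi, hz⟩ := hu F hF
  haveI := hi
  have key : ∀ q, ⇑(EtCore.Hpull f F q) = EtLim.HofPush f ((EtCoh.pull f).obj F) q ∘
      (fun x => x.comp (Ext.mk₀ (asIso ((EtCoh.pullPushAdj f).unit.app F)).hom) (add_zero q)) :=
    fun q => funext fun x => (FieldH25.HofPush_unit f F q x).symm
  refine ⟨fun q hq => ?_, ?_⟩
  · rw [key]
    exact (HofPush_bounded f q _ fun p hp hpq => hz p hp (hpq.trans hq)).1.comp (bijective_comp_iso _ q)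
  · rw [key]
    exact (HofPush_bounded f n _ fun p hp hpq => hz p hp hpq).2.comp (bijective_comp_iso _ (n + 1)).1

theorem isAcyclicN_iff (g : X ⟶ Y) (L : Set ℕ) (n : ℕ) :
    EtAcyc.IsAcyclicN g L n ↔
      ∀ (V : Y.Etale) (F : EtCoh.Ab V.left), EtAcyc.IsLTorsion L F →
        IsIso ((EtCoh.pullPushAdj (EtAcyc.prj g V)).unit.app F) ∧
          ∀ q : ℕ, 1 ≤ q → q ≤ n →
            IsZero ((EtCoh.Rpush (EtAcyc.prj g V) q).obj ((EtCoh.pull (EtAcyc.prj g V)).obj F)) :=
  ⟨fun hg V F hF => ⟨isIso_unit_of_compN _ L n (isAcyclicN_prj g L n hg V) F hF,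
      fun q h1 hq => isZero_Rpush_of_compN _ L n (isAcyclicN_prj g L n hg V) F hF q h1 hq⟩,
    fun h V => compN_of_unit _ L n (h V)⟩

end Groth.Agent.EtAcyc24
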