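import Groth.Agent.Lib.EtStalk.HofPush
import Groth.Agent.Lib.EtStalk.ExtZero

/-!
# Cohomology of a direct image in low degrees

Classes on the source coming from the target, read along an embedding into an injective sheaf.
-/

universe u

open CategoryTheory CategoryTheory.Limits AlgebraicGeometry Opposite CategoryTheory.Abelian

set_option backward.isDefEq.respectTransparency.types false

namespace Groth.Agent.EtAcyc24

open Groth.Agent.EtStalk

/-- A global section as a map out of the constant sheaf. -/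
lemma exists_hom_one {X : Scheme.{u}} {G : EtCoh.Ab X} (s : G.obj.obj (op (EtCoh.top X))) :
    ∃ a : EtCoh.const X ℤ ⟶ G, a.hom.app (op (EtCoh.top X)) (oneSec X) = s := by
  let e := (AddCommGrpCat.uliftZMultiplesAddEquiv.{u + 1} (G.obj.obj (op (EtCoh.top X)))).symm s
  refine ⟨((EtCore.constAdj X).homEquiv _ _).symm e, ?_⟩
  have h := Equiv.apply_symm_apply ((EtCore.constAdj X).homEquiv _ _) e
  rw [Adjunction.homEquiv_unit] at h
  exact (congrArg (fun t : AddCommGrpCat.of (ULift.{u + 1} ℤ) ⟶ _ => t (ULift.up 1)) h).trans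
    ((AddCommGrpCat.uliftZMultiplesAddEquiv.{u + 1} _).apply_symm_apply s)

variable {X Y : Scheme.{u}} (f : X ⟶ Y)

lemma HofPush_zero_bijective (F : EtCoh.Ab X) : Function.Bijective (EtLim.HofPush f F 0) := by
  have hval : ∀ a : EtCoh.const Y ℤ ⟶ (EtCoh.push f).obj F,
      EtLim.HofPush f F 0 (Ext.mk₀ a) = Ext.mk₀ ((EtCore.pullConst f ℤ).inv ≫
        ((EtCoh.pullPushAdj f).homEquiv _ _).symm a) := fun a => by
    rw [HofPush_apply, Ext.mapExactFunctor_mk₀, Ext.mk₀_comp_mk₀, Ext.mk₀_comp_mk₀,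
      Adjunction.homEquiv_counit, Category.assoc]
  constructor
  · intro x y h
    obtain ⟨a, rfl⟩ := (Ext.mk₀_bijective _ _).2 x
    obtain ⟨b, rfl⟩ := (Ext.mk₀_bijective _ _).2 y
    rw [hval, hval] at h
    exact congrArg _ (((EtCoh.pullPushAdj f).homEquiv _ _).symm.injective
      ((cancel_epi (EtCore.pullConst f ℤ).inv).1 ((Ext.mk₀_bijective _ _).1 h)))
  · intro y
    obtain ⟨b, rfl⟩ := (Ext.mk₀_bijective _ _).2 y
    exact ⟨Ext.mk₀ ((EtCoh.pullPushAdj f).homEquiv _ _ ((EtCore.pullConst f ℤ).hom ≫ b)), by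
      rw [hval, Equiv.symm_apply_apply, Iso.inv_hom_id_assoc]⟩

/-- Surjectivity is invariant under isomorphisms of the coefficient sheaf. -/
lemma surjective_HofPush_of_iso {G G' : EtCoh.Ab X} (e : G ≅ G') (n : ℕ)
    (h : Function.Surjective (EtLim.HofPush f G n)) : Function.Surjective (EtLim.HofPush f G' n) := by
  intro y
  obtain ⟨x, hx⟩ := h (y.comp (Ext.mk₀ e.inv) (add_zero n))
  refine ⟨x.comp (Ext.mk₀ ((EtCoh.push f).map e.hom)) (add_zero n), ?_⟩
  rw [HofPush_comp, hx]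
  simp [Ext.comp_assoc_of_third_deg_zero, Ext.comp_mk₀_id]

variable {S : ShortComplex (EtCoh.Ab X)} (hS : S.ShortExact) [Injective S.X₂]

omit [Injective S.X₂] in
/-- Connecting maps under pullback, for a sequence mapping to the direct image. -/
lemma HofPush_extClass_map {K : EtCoh.Ab Y} (p : (EtCoh.push f).obj S.X₂ ⟶ K) (w : (EtCoh.push f).map S.f ≫ p = 0)
    (hS' : (ShortComplex.mk ((EtCoh.push f).map S.f) p w).ShortExact) (k : K ⟶ (EtCoh.push f).obj S.X₃)
    (hk : p ≫ k = (EtCoh.push f).map S.g) (n : ℕ) (z : EtCoh.H Y K n) :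
    EtLim.HofPush f S.X₁ (n + 1) (z.comp hS'.extClass rfl) =
      (EtLim.HofPush f S.X₃ n (z.comp (Ext.mk₀ k) (add_zero n))).comp hS.extClass rfl := by
  let S' := ShortComplex.mk ((EtCoh.push f).map S.f) p w
  let φ : S'.map (EtCoh.pull f) ⟶ S :=
    { τ₁ := (EtCoh.pullPushAdj f).counit.app S.X₁
      τ₂ := (EtCoh.pullPushAdj f).counit.app S.X₂
      τ₃ := (EtCoh.pull f).map k ≫ (EtCoh.pullPushAdj f).counit.app S.X₃
      comm₁₂ := ((EtCoh.pullPushAdj f).counit.naturality S.f).symm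
      comm₂₃ := by
        show (EtCoh.pullPushAdj f).counit.app S.X₂ ≫ S.g = (EtCoh.pull f).map p ≫ (EtCoh.pull f).map k ≫ _
        rw [← Functor.map_comp_assoc, hk]
        exact ((EtCoh.pullPushAdj f).counit.naturality S.g).symm }
  have hn := ShortComplex.ShortExact.extClass_naturality (hS'.map_of_exact (EtCoh.pull f)) hS φ
  let c := Ext.mk₀ (EtCore.pullConst f ℤ).inv
  let zz := z.mapExactFunctor (EtCoh.pull f)
  let e := (hS'.map_of_exact (EtCoh.pull f)).extClass
  have h1 : EtLim.HofPush f S.X₁ (n + 1) (z.comp hS'.extClass rfl) =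
      (c.comp (zz.comp e rfl) (zero_add (n + 1))).comp (Ext.mk₀ φ.τ₁) (add_zero (n + 1)) := by
    rw [HofPush_apply, Ext.mapExactFunctor_comp, Ext.mapExactFunctor_extClass (EtCoh.pull f) hS']
    rfl
  have h2 : EtLim.HofPush f S.X₃ n (z.comp (Ext.mk₀ k) (add_zero n)) =
      c.comp (zz.comp (Ext.mk₀ φ.τ₃) (add_zero n)) (zero_add n) := by
    rw [HofPush_apply, Ext.mapExactFunctor_comp, Ext.mapExactFunctor_mk₀]
    simp only [Ext.comp_assoc_of_third_deg_zero, Ext.mk₀_comp_mk₀]
    rfl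
  rw [h1, h2, Ext.comp_assoc_of_third_deg_zero, Ext.comp_assoc_of_third_deg_zero]
  refine (congrArg (fun t => c.comp (zz.comp t rfl) (zero_add (n + 1))) hn).trans ?_
  exact (congrArg (fun t => c.comp t (zero_add (n + 1)))
    (Ext.comp_assoc zz _ hS.extClass (add_zero n) (zero_add 1) (by lia)).symm).trans
    (Ext.comp_assoc c _ hS.extClass (zero_add n) rfl (by lia)).symm

include hS in
/-- The image of the direct image of an epimorphism, with the connecting maps. -/
lemma exists_image_data :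
    ∃ (K : EtCoh.Ab Y) (p : (EtCoh.push f).obj S.X₂ ⟶ K) (k : K ⟶ (EtCoh.push f).obj S.X₃)
      (w : (EtCoh.push f).map S.f ≫ p = 0) (hS' : (ShortComplex.mk ((EtCoh.push f).map S.f) p w).ShortExact),
      Mono k ∧ p ≫ k = (EtCoh.push f).map S.g ∧
        ∀ (n : ℕ) (z : EtCoh.H Y K n), EtLim.HofPush f S.X₁ (n + 1) (z.comp hS'.extClass rfl) =
          (EtLim.HofPush f S.X₃ n (z.comp (Ext.mk₀ k) (add_zero n))).comp hS.extClass rfl := by
  haveI := hS.mono_f
  have hw : (EtCoh.push f).map S.f ≫ (EtCoh.push f).map S.g = 0 := by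
    rw [← Functor.map_comp, S.zero, Functor.map_zero]
  have hex : (ShortComplex.mk _ _ hw).Exact := hS.exact.map_of_mono_of_preservesKernel (EtCoh.push f) hS.mono_f inferInstance
  have hS' : (ShortComplex.mk ((EtCoh.push f).map S.f) (cokernel.π ((EtCoh.push f).map S.f))
      (cokernel.condition _)).ShortExact :=
    { exact := ShortComplex.exact_cokernel _ }
  exact ⟨cokernel ((EtCoh.push f).map S.f), cokernel.π _, cokernel.desc _ _ hw, cokernel.condition _, hS',
    hex.mono_cokernelDesc, cokernel.π_desc _ _ _, HofPush_extClass_map f hS _ _ hS' _ (cokernel.π_desc _ _ _)⟩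

omit [Injective S.X₂] hS in
lemma mk₀_comp_inj {Z : EtCoh.Ab Y} {K Q : EtCoh.Ab Y} (k : K ⟶ Q) [Mono k] {z z' : Ext Z K 0}
    (h : z.comp (Ext.mk₀ k) (add_zero 0) = z'.comp (Ext.mk₀ k) (add_zero 0)) : z = z' := by
  obtain ⟨a, rfl⟩ := (Ext.mk₀_bijective _ _).2 z
  obtain ⟨b, rfl⟩ := (Ext.mk₀_bijective _ _).2 z'
  rw [Ext.mk₀_comp_mk₀, Ext.mk₀_comp_mk₀] at h
  rw [(cancel_mono k).1 ((Ext.mk₀_bijective _ _).1 h)]

include hS in
/-- Global sections of the cokernel lift locally when degree one classes come from below. -/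
theorem exists_local_lift (h1 : Function.Surjective (EtLim.HofPush f S.X₁ 1))
    (q : S.X₃.obj.obj (op ((EtCoh.bc f).obj (EtCoh.top Y)))) :
    Presheaf.imageSieve ((EtCoh.push f).map S.g).hom (U := EtCoh.top Y) q ∈
      Y.smallEtaleTopology (EtCoh.top Y) := by
  haveI := injective_push f S.X₂
  obtain ⟨K, p, k, w, hS', hk, hpk, hδ⟩ := exists_image_data f hS
  obtain ⟨a, ha⟩ := exists_hom_one (G := (EtCoh.push f).obj S.X₃) q
  obtain ⟨x, hx⟩ := h1 ((EtLim.HofPush f S.X₃ 0 (Ext.mk₀ a)).comp hS.extClass rfl)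
  obtain ⟨z, rfl⟩ := Ext.covariant_sequence_exact₁ _ hS' x (Ext.eq_zero_of_injective _) (n₀ := 0) rfl
  rw [hδ 0 z] at hx
  have h0 : (EtLim.HofPush f S.X₃ 0 (Ext.mk₀ a - z.comp (Ext.mk₀ k) (add_zero 0))).comp hS.extClass rfl = 0 := by
    rw [map_sub, sub_eq_add_neg, Ext.add_comp, Ext.neg_comp]
    erw [hx]
    exact add_neg_cancel _
  obtain ⟨v, hv⟩ := Ext.covariant_sequence_exact₃ _ hS _ rfl h0
  obtain ⟨v', rfl⟩ := (HofPush_zero_bijective f S.X₂).2 v
  rw [← HofPush_comp] at hv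
  have h2 := (HofPush_zero_bijective f S.X₃).1 hv
  obtain ⟨b, rfl⟩ := (Ext.mk₀_bijective _ _).2 v'
  obtain ⟨c, rfl⟩ := (Ext.mk₀_bijective _ _).2 z
  have h3 : a = (c + b ≫ p) ≫ k := by
    rw [Preadditive.add_comp, Category.assoc, hpk]
    have e : Ext.mk₀ (b ≫ (EtCoh.push f).map S.g) = Ext.mk₀ a - Ext.mk₀ (c ≫ k) := by
      rw [← Ext.mk₀_comp_mk₀, ← Ext.mk₀_comp_mk₀]; exact h2
    refine (Ext.mk₀_bijective _ _).1 ?_
    rw [Ext.mk₀_add, e, add_sub_cancel]
  haveI : Epi p := hS'.epi_g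
  haveI : Sheaf.IsLocallySurjective p := (Sheaf.isLocallySurjective_iff_epi' _ p).2 inferInstance
  refine GrothendieckTopology.superset_covering _ ?_
    (Presheaf.imageSieve_mem Y.smallEtaleTopology p.hom ((c + b ≫ p).hom.app _ (oneSec Y)))
  rintro W g ⟨t, ht⟩
  refine ⟨t, ?_⟩
  rw [← ha, h3]
  refine (congrArg (fun φ : (EtCoh.push f).obj S.X₂ ⟶ (EtCoh.push f).obj S.X₃ => φ.hom.app (op W) t)
    hpk).symm.trans ?_
  refine (congrArg (k.hom.app (op W)) ht).trans ?_
  exact NatTrans.naturality_apply k.hom g.op _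

include hS in
/-- Surjectivity passes to the cokernel. -/
theorem surjective_HofPush_shift (m : ℕ) (h : Function.Surjective (EtLim.HofPush f S.X₁ (m + 2))) :
    Function.Surjective (EtLim.HofPush f S.X₃ (m + 1)) := by
  haveI := injective_push f S.X₂
  obtain ⟨K, p, k, w, hS', hk, hpk, hδ⟩ := exists_image_data f hS
  intro y
  obtain ⟨x, hx⟩ := h (y.comp hS.extClass rfl)
  obtain ⟨z, rfl⟩ := Ext.covariant_sequence_exact₁ _ hS' x (Ext.eq_zero_of_injective _) (n₀ := m + 1) rfl
  rw [hδ _ z] at hx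
  have h0 : (y - EtLim.HofPush f S.X₃ (m + 1) (z.comp (Ext.mk₀ k) (add_zero _))).comp hS.extClass rfl = 0 := by
    rw [sub_eq_add_neg, Ext.add_comp, Ext.neg_comp, hx, add_neg_cancel]
  obtain ⟨v, hv⟩ := Ext.covariant_sequence_exact₃ _ hS _ rfl h0
  rw [Ext.eq_zero_of_injective v, Ext.zero_comp] at hv
  exact ⟨_, (sub_eq_zero.1 hv.symm).symm⟩

/-- Degree one injects. -/
theorem injective_HofPush_one (F : EtCoh.Ab X) : Function.Injective (EtLim.HofPush f F 1) := by
  let T := ShortComplex.mk (Injective.ι F) (cokernel.π (Injective.ι F)) (cokernel.condition _)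
  have hT : T.ShortExact := { exact := ShortComplex.exact_cokernel (Injective.ι F) }
  haveI : Injective T.X₂ := inferInstanceAs (Injective (Injective.under F))
  haveI := injective_push f T.X₂
  obtain ⟨K, p, k, w, hT', hk, hpk, hδ⟩ := exists_image_data f hT
  refine (injective_iff_map_eq_zero _).2 fun x hx => ?_
  obtain ⟨z, rfl⟩ := Ext.covariant_sequence_exact₁ _ hT' x (Ext.eq_zero_of_injective _) (n₀ := 0) rfl
  replace hx := (hδ 0 z).symm.trans hx
  obtain ⟨v, hv⟩ := Ext.covariant_sequence_exact₃ _ hT _ rfl hx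
  obtain ⟨v', rfl⟩ := (HofPush_zero_bijective f T.X₂).2 v
  rw [← HofPush_comp] at hv
  have h2 := (HofPush_zero_bijective f T.X₃).1 hv
  have h3 : v'.comp (Ext.mk₀ p) (add_zero 0) = z := by
    refine mk₀_comp_inj k ?_
    rw [Ext.comp_assoc_of_third_deg_zero, Ext.mk₀_comp_mk₀, hpk]
    exact h2
  rw [← h3]
  exact (Ext.comp_assoc_of_second_deg_zero _ _ _ _).trans (by erw [hT'.comp_extClass, Ext.comp_zero])

include hS in
/-- Vanishing passes to the cokernel. -/
lemma isZero_Rpush_cokernel (q : ℕ) (hq : 0 < q) (h : IsZero ((EtCoh.Rpush f (q + 1)).obj S.X₁)) :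
    IsZero ((EtCoh.Rpush f q).obj S.X₃) := by
  obtain ⟨T⟩ := RDerLES.exists_sesRes hS
  obtain ⟨-, ⟨w, hw⟩, -⟩ := RDerLES.exact_sequences (EtCoh.push f) T q (q + 1) rfl
  obtain ⟨m, rfl⟩ := Nat.exists_eq_add_one.2 hq
  exact hw.isZero_X₂ (((EtCoh.push f).isZero_rightDerived_obj_injective_succ m S.X₂).eq_of_src _ _)
    (h.eq_of_tgt _ _)

omit S hS

/-- Without higher direct images up to `q`, cohomology of the direct image is cohomology up to `q`,
and injects one degree further. -/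
theorem HofPush_bounded : ∀ (q : ℕ) (F : EtCoh.Ab X),
    (∀ p : ℕ, 1 ≤ p → p ≤ q → IsZero ((EtCoh.Rpush f p).obj F)) →
      Function.Bijective (EtLim.HofPush f F q) ∧ Function.Injective (EtLim.HofPush f F (q + 1))
  | 0, F, _ => ⟨HofPush_zero_bijective f F, injective_HofPush_one f F⟩
  | n + 1, F, hR => by
    let S := ShortComplex.mk (Injective.ι F) (cokernel.π (Injective.ι F)) (cokernel.condition _)
    have hS : S.ShortExact := { exact := ShortComplex.exact_cokernel (Injective.ι F) }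
    have : Injective S.X₂ := inferInstanceAs (Injective (Injective.under F))
    have hS' := shortExact_push_of_acyclic f hS (hR 1 le_rfl (by lia))
    have hI : Injective (S.map (EtCoh.push f)).X₂ := injective_push f S.X₂
    have ihQ := HofPush_bounded n S.X₃ (fun p hp hpn =>
      isZero_Rpush_cokernel f hS p hp (hR (p + 1) (by lia) (by lia)))
    have ihI : ∀ m, Function.Bijective (EtLim.HofPush f S.X₂ m) := fun m => bijective_HofPush f m _ (fun q hq => by
      obtain ⟨l, rfl⟩ := Nat.exists_eq_add_one.2 hq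
      exact (EtCoh.push f).isZero_rightDerived_obj_injective_succ l S.X₂)
    have hinj : ∀ m, Function.Injective (EtLim.HofPush f S.X₃ m) →
        Function.Injective (EtLim.HofPush f F (m + 1)) := fun m hm => by
      refine (injective_iff_map_eq_zero _).2 fun x hx => ?_
      obtain ⟨x', rfl⟩ := Ext.covariant_sequence_exact₁ _ hS' x (Ext.eq_zero_of_injective _) (n₀ := m) rfl
      replace hx := (HofPush_extClass f hS hS' m x').symm.trans hx
      obtain ⟨z, hz⟩ := Ext.covariant_sequence_exact₃ _ hS _ rfl hx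
      obtain ⟨z', rfl⟩ := (ihI m).2 z
      rw [← HofPush_comp] at hz
      rw [← hm hz]
      exact (Ext.comp_assoc_of_second_deg_zero _ _ _ _).trans
        (by erw [hS'.comp_extClass, Ext.comp_zero]; rfl)
    refine ⟨⟨hinj n ihQ.1.1, fun y => ?_⟩, hinj (n + 1) ihQ.2⟩
    obtain ⟨y', rfl⟩ := Ext.covariant_sequence_exact₁ _ hS y (Ext.eq_zero_of_injective _) (n₀ := n) rfl
    obtain ⟨x', rfl⟩ := ihQ.1.2 y'
    exact ⟨x'.comp hS'.extClass rfl, HofPush_extClass f hS hS' n x'⟩

end Groth.Agent.EtAcyc24
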