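import Groth.Agent.Lib.EtAcyc24.BCTransfer

/-!
# Classes in the range of the pullback are detected after a surjective base change
-/

set_option autoImplicit false
set_option linter.style.haveILetI false
set_option linter.unusedSectionVars false
set_option backward.isDefEq.respectTransparency.types false

universe u

open CategoryTheory CategoryTheory.Limits AlgebraicGeometry Opposite CategoryTheory.Abelian

namespace Groth.Agent.EtAcyc24

open Groth.Agent.EtStalk Groth.Agent.EtLim24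

variable {A B C : Scheme.{u}}

lemma viaIso_pullT (f : A ⟶ B) (t : B ⟶ C) (f₀ : A ⟶ C) (w : f ≫ t = f₀) (G : EtCoh.Ab C) :
    (((EtCore.pullComp f t).symm ≪≫ EtCore.pullCongr w).app G).hom ≫ (pullT f t f₀ w).hom.app G = 𝟙 _ := by
  subst w
  simp [pullT, EtCore.pullCongr]

/-- Relative pullback followed by a map out of the inverse image along the composite. -/
lemma HpullVia_pullT (f : A ⟶ B) (t : B ⟶ C) (f₀ : A ⟶ C) (w : f ≫ t = f₀) [PreservesFiniteLimits (EtCoh.pull f)]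
    (G : EtCoh.Ab C) (n : ℕ) (x : EtCoh.H B ((EtCoh.pull t).obj G) n) {M : EtCoh.Ab A}
    (ψ : (EtCoh.pull f).obj ((EtCoh.pull t).obj G) ⟶ M) :
    (EtCore.HpullVia f t f₀ w G n x).comp (Ext.mk₀ ((pullT f t f₀ w).hom.app G ≫ ψ)) (add_zero n) =
      (EtCore.Hpull f _ n x).comp (Ext.mk₀ ψ) (add_zero n) := by
  show ((EtCore.Hpull f _ n x).comp (Ext.mk₀ (((EtCore.pullComp f t).symm ≪≫ EtCore.pullCongr w).app G).hom)
    (add_zero n)).comp _ (add_zero n) = _
  rw [Ext.comp_assoc_of_third_deg_zero, Ext.mk₀_comp_mk₀]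
  erw [← Category.assoc, viaIso_pullT f t f₀ w G, Category.id_comp]

/-- Relative pullback of a pullback. -/
lemma HpullVia_Hpull (f : A ⟶ B) (t : B ⟶ C) (f₀ : A ⟶ C) (w : f ≫ t = f₀) [PreservesFiniteLimits (EtCoh.pull f)]
    [PreservesFiniteLimits (EtCoh.pull t)] [PreservesFiniteLimits (EtCoh.pull f₀)]
    (G : EtCoh.Ab C) (n : ℕ) (x : EtCoh.H C G n) :
    EtCore.HpullVia f t f₀ w G n (EtCore.Hpull t G n x) = EtCore.Hpull f₀ G n x := by
  subst w
  refine Eq.trans ?_ (FieldH25.Hpull_comp f t G n x)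
  show (EtCore.Hpull f _ n _).comp (Ext.mk₀ _) (add_zero n) = _
  refine congrArg (fun z => Ext.comp _ (Ext.mk₀ z) (add_zero n)) ?_
  simp [EtCore.pullCongr]

/-- Relative pullback is natural. -/
lemma HpullVia_nat (f : A ⟶ B) (t : B ⟶ C) (f₀ : A ⟶ C) (w : f ≫ t = f₀) [PreservesFiniteLimits (EtCoh.pull f)]
    {G G' : EtCoh.Ab C} (φ : G ⟶ G') (n : ℕ) (x : EtCoh.H B ((EtCoh.pull t).obj G) n) :
    (EtCore.HpullVia f t f₀ w G n x).comp (Ext.mk₀ ((EtCoh.pull f₀).map φ)) (add_zero n) =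
      EtCore.HpullVia f t f₀ w G' n (x.comp (Ext.mk₀ ((EtCoh.pull t).map φ)) (add_zero n)) := by
  show ((EtCore.Hpull f _ n x).comp (Ext.mk₀ _) (add_zero n)).comp _ (add_zero n) =
    (EtCore.Hpull f _ n _).comp (Ext.mk₀ _) (add_zero n)
  rw [← LocAcyc24.Hpull_nat, Ext.comp_assoc_of_third_deg_zero, Ext.comp_assoc_of_third_deg_zero, Ext.mk₀_comp_mk₀,
    Ext.mk₀_comp_mk₀]
  refine congrArg (fun z => Ext.comp _ (Ext.mk₀ z) (add_zero n)) ?_
  exact (((EtCore.pullComp f t).symm ≪≫ EtCore.pullCongr w).hom.naturality φ).symm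

variable {X Y Xb Yb : Scheme.{u}} (h : Y ⟶ X) (p : Xb ⟶ X) (hb : Yb ⟶ Xb) (pY : Yb ⟶ Y) (w : hb ≫ p = pY ≫ h)

lemma inv_pc {M : EtCoh.Ab Yb} :
    (EtCoh.pushComp h pY).inv.app M ≫ (pc pY h (pY ≫ h) rfl).hom.app M = 𝟙 _ := by
  simp [pc, EtAcyc24.pushCongr_refl_hom]

/-- The two ways of transposing a map to a direct image. -/
lemma transpose_square {F : EtCoh.Ab X} {J : EtCoh.Ab Xb} (ψ : (EtCoh.pull p).obj F ⟶ J) :
    (pullT pY h (pY ≫ h) rfl).hom.app F ≫ (EtCoh.pull pY).map ((EtCoh.pull h).map ((EtCoh.pullPushAdj p).homEquiv F J ψ) ≫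
        EtCoh.baseChange0 p h pY hb w J) ≫ (EtCoh.pullPushAdj pY).counit.app ((EtCoh.pull hb).obj J) =
      (pullT hb p (pY ≫ h) w).hom.app F ≫ (EtCoh.pull hb).map ψ := by
  refine ((EtCoh.pullPushAdj (pY ≫ h)).homEquiv _ _).injective ?_
  rw [← transpose_comp]
  conv_rhs => rw [← Category.comp_id ((EtCoh.pull hb).map ψ)]
  rw [← transpose_comp]
  have e1 : (EtCoh.pullPushAdj pY).homEquiv _ _ ((EtCoh.pullPushAdj pY).counit.app ((EtCoh.pull hb).obj J)) = 𝟙 _ := by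
    rw [Adjunction.homEquiv_unit]
    exact (EtCoh.pullPushAdj pY).right_triangle_components _
  rw [e1, CategoryTheory.Functor.map_id, EtCoh.baseChange0, Adjunction.homEquiv_naturality_left,
    Equiv.apply_symm_apply]
  have e2 : (EtCoh.pullPushAdj hb).homEquiv J ((EtCoh.pull hb).obj J) (𝟙 _) = (EtCoh.pullPushAdj hb).unit.app J := by
    rw [Adjunction.homEquiv_unit, CategoryTheory.Functor.map_id]
    exact Category.comp_id _
  erw [e2, Category.id_comp]
  simp only [Category.assoc]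
  refine congrArg (((EtCoh.pullPushAdj p).homEquiv F J) ψ ≫ ·)
    (congrArg ((EtCoh.push p).map ((EtCoh.pullPushAdj hb).unit.app J) ≫ ·) ?_)
  show (EtCoh.pushComp p hb).hom.app ((EtCoh.pull hb).obj J) ≫ (EtCoh.pushCongr w).hom.app ((EtCoh.pull hb).obj J) ≫
      (EtCoh.pushComp h pY).inv.app ((EtCoh.pull hb).obj J) ≫ (pc pY h (pY ≫ h) rfl).hom.app ((EtCoh.pull hb).obj J) =
    (EtCoh.pushComp p hb).hom.app ((EtCoh.pull hb).obj J) ≫ (EtCoh.pushCongr w).hom.app ((EtCoh.pull hb).obj J)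
  rw [inv_pc h pY, Category.comp_id]

variable [CompactSpace Xb] [QuasiSeparatedSpace Xb] (hp : Function.Surjective p.base) (L : Set ℕ) (n : ℕ)
  [CompactSpace X] [QuasiSeparatedSpace X]
  (hh : EtAcyc.CompN h L n) (hbc : ∀ Fb : EtCoh.Ab Xb, EtAcyc.IsLTorsion L Fb → ∀ i : ℕ, i ≤ n → IsIso (EtBC.bcQ p h pY hb w i Fb))
include hp hh hbc

/-- The criterion for sheaves killed by a number with prime factors in `L`. -/
theorem mem_range_of_killed {F : EtCoh.Ab X} {a : ℕ} (ha : EtAcyc.PrimesIn L a) (h0 : a • 𝟙 F = 0)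
    (ξ : EtCoh.H Y ((EtCoh.pull h).obj F) (n + 1)) (e : EtCoh.H Xb ((EtCoh.pull p).obj F) (n + 1))
    (he : EtCore.HpullVia pY h (pY ≫ h) rfl F (n + 1) ξ = EtCore.HpullVia hb p (pY ≫ h) w F (n + 1) e) :
    ξ ∈ Set.range (EtCore.Hpull h F (n + 1)) := by
  haveI : (EtCoh.pull h).Additive := (EtCoh.pullPushAdj h).left_adjoint_additive
  haveI : (EtCoh.push p).Additive := (EtCoh.pullPushAdj p).right_adjoint_additive
  obtain ⟨J, u, hu, hJ, hJ0⟩ := exists_acyc_embed ((EtCoh.pull p).obj F) (nsmul_id_pull p h0)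
  haveI : PreservesLimitsOfSize.{0, 0} (EtCoh.push p) := (EtCoh.pullPushAdj p).rightAdjoint_preservesLimits
  haveI := mono_unit_of_surjective p hp F
  haveI hφ : Mono ((EtCoh.pullPushAdj p).homEquiv F J u) := by
    rw [Adjunction.homEquiv_unit]
    infer_instance
  let φ := (EtCoh.pullPushAdj p).homEquiv F J u
  let S := ShortComplex.mk φ (cokernel.π φ) (cokernel.condition _)
  have hS : S.ShortExact := { exact := ShortComplex.exact_cokernel φ }
  have hE0 : a • 𝟙 ((EtCoh.push p).obj J) = 0 := by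
    rw [← CategoryTheory.Functor.map_id, ← Functor.map_nsmul, hJ0, Functor.map_zero]
  have hQ : EtAcyc.IsLTorsion L S.X₃ := isLTorsion_of_epi L (cokernel.π φ) (isLTorsion_of_nsmul L ha hE0)
  have hJL := isLTorsion_of_nsmul L ha hJ0
  haveI := hbc J hJL 0 (Nat.zero_le n)
  haveI := isIso_baseChange0_of_bcQ h p hb pY w J
  let M := (EtCoh.pull hb).obj J
  haveI : IsIso (EtCoh.top Xb).hom := inferInstanceAs (IsIso (𝟙 Xb))
  haveI : Subsingleton (EtCoh.H Xb J (n + 1)) :=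
    @Function.Injective.subsingleton _ _ _ (LocAcyc24.bijective_Hpull_of_isIso (EtCoh.top Xb).hom J (n + 1)).1
      (hJ (EtCoh.top Xb) (n + 1) n.succ_pos)
  have hinj : Function.Injective (EtLim.HofPush pY M (n + 1)) :=
    (HofPush_bounded pY n M fun i hi hin => by
      haveI := hbc J hJL i hin
      exact IsZero.of_iso (Functor.map_isZero _ (isZero_Rpush_of_acyc p hJ i hi))
        (asIso (EtBC.bcQ p h pY hb w i J)).symm).2
  have hzero : ξ.comp (Ext.mk₀ ((EtCoh.pull h).map φ ≫ EtCoh.baseChange0 p h pY hb w J)) (add_zero _) = 0 := by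
    refine hinj ?_
    rw [HofPush_mk₀, map_zero, ← Ext.comp_assoc_of_third_deg_zero, ← Hpull_eq, ← HpullVia_pullT pY h (pY ≫ h) rfl, transpose_square h p hb pY w u, he, HpullVia_pullT]
    rw [LocAcyc24.Hpull_nat, Subsingleton.elim (e.comp (Ext.mk₀ u) (add_zero (n + 1))) 0, map_zero]
  have hξ : ξ.comp (Ext.mk₀ ((EtCoh.pull h).map φ)) (add_zero _) = 0 := by
    refine FieldH25.eq_zero_of_comp_iso _ (asIso (EtCoh.baseChange0 p h pY hb w J)) ?_
    rw [Ext.comp_assoc_of_third_deg_zero, Ext.mk₀_comp_mk₀]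
    exact hzero
  obtain ⟨b, rfl⟩ := Ext.covariant_sequence_exact₁ _ (hS.map_of_exact (EtCoh.pull h)) ξ hξ (n₀ := n) rfl
  obtain ⟨c, rfl⟩ := ((hh _ hQ).1 n le_rfl).2 b
  exact ⟨c.comp hS.extClass rfl, Hpull_delta h hS c⟩

variable [CompactSpace Y] [QuasiSeparatedSpace Y] [CompactSpace Yb] [QuasiSeparatedSpace Yb]

/-- The criterion. -/
theorem mem_range_iff_after_base_change {F : EtCoh.Ab X} (hF : EtAcyc.IsLTorsion L F)
    (ξ : EtCoh.H Y ((EtCoh.pull h).obj F) (n + 1)) :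
    ξ ∈ Set.range (EtCore.Hpull h F (n + 1)) ↔
      EtCore.HpullVia pY h (pY ≫ h) rfl F (n + 1) ξ ∈ Set.range (EtCore.HpullVia hb p (pY ≫ h) w F (n + 1)) := by
  constructor
  · rintro ⟨x, rfl⟩
    exact ⟨EtCore.Hpull p F (n + 1) x, (HpullVia_Hpull hb p _ w F (n + 1) x).trans (HpullVia_Hpull pY h _ rfl F (n + 1) x).symm⟩
  rintro ⟨e, he⟩
  have hT : EtCoh.IsTorsion F := fun U s z =>
    let ⟨V, r, m, hv, hm, h0⟩ := hF U s z
    ⟨V, r, hv, isOfFinAddOrder_iff_nsmul_eq_zero.2 ⟨m, hm.1, h0⟩⟩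
  haveI : IsFiltered (ULift.{u + 1} ℕ) := isFiltered_of_directed_le_nonempty _
  let hcc : IsColimit (EtColim.torCocone F) :=
    @IsColimit.ofPointIso _ _ _ _ _ _ _ (colimit.isColimit (EtColim.torDiag F)) (EtColim.isIso_desc F hT)
  haveI := EtColim.preservesColimitsOfShape_HF Xb (n + 1) (ULift.{u + 1} ℕ)
  haveI := EtColim.preservesColimitsOfShape_HF Yb (n + 1) (ULift.{u + 1} ℕ)
  haveI := EtColim.preservesColimitsOfShape_HF Y (n + 1) (ULift.{u + 1} ℕ)
  haveI : PreservesColimitsOfSize.{u + 1, u + 1} (EtCoh.pull h) := (EtCoh.pullPushAdj h).leftAdjoint_preservesColimits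
  haveI : PreservesColimitsOfSize.{u + 1, u + 1} (EtCoh.pull p) := (EtCoh.pullPushAdj p).leftAdjoint_preservesColimits
  haveI : PreservesColimitsOfSize.{u + 1, u + 1} (EtCoh.pull (pY ≫ h)) :=
    (EtCoh.pullPushAdj (pY ≫ h)).leftAdjoint_preservesColimits
  obtain ⟨i, (ξi : EtCoh.H Y ((EtCoh.pull h).obj ((EtColim.torDiag F).obj i)) (n + 1)), hξi⟩ := Concrete.isColimit_exists_rep
    ((EtColim.torDiag F ⋙ EtCoh.pull h) ⋙ EtCoh.HF Y (n + 1))
    (isColimitOfPreserves (EtCoh.HF Y (n + 1)) (isColimitOfPreserves (EtCoh.pull h) hcc)) ξ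
  obtain ⟨j, (ej : EtCoh.H Xb ((EtCoh.pull p).obj ((EtColim.torDiag F).obj j)) (n + 1)), hej⟩ := Concrete.isColimit_exists_rep
    ((EtColim.torDiag F ⋙ EtCoh.pull p) ⋙ EtCoh.HF Xb (n + 1))
    (isColimitOfPreserves (EtCoh.HF Xb (n + 1)) (isColimitOfPreserves (EtCoh.pull p) hcc)) e
  let D := EtColim.torDiag F
  let ι := (EtColim.torCocone F).ι
  have hξi' : ξi.comp (Ext.mk₀ ((EtCoh.pull h).map (ι.app i))) (add_zero _) = ξ := hξi
  have hej' : ej.comp (Ext.mk₀ ((EtCoh.pull p).map (ι.app j))) (add_zero _) = e := hej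
  let k := IsFiltered.max i j
  let ξk := ξi.comp (Ext.mk₀ ((EtCoh.pull h).map (D.map (IsFiltered.leftToMax i j)))) (add_zero _)
  let ek := ej.comp (Ext.mk₀ ((EtCoh.pull p).map (D.map (IsFiltered.rightToMax i j)))) (add_zero _)
  have hξk : ξk.comp (Ext.mk₀ ((EtCoh.pull h).map (ι.app k))) (add_zero _) = ξ := by
    rw [Ext.comp_assoc_of_third_deg_zero, Ext.mk₀_comp_mk₀, ← Functor.map_comp]
    erw [(EtColim.torCocone F).w]
    exact hξi'
  have hek : ek.comp (Ext.mk₀ ((EtCoh.pull p).map (ι.app k))) (add_zero _) = e := by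
    rw [Ext.comp_assoc_of_third_deg_zero, Ext.mk₀_comp_mk₀, ← Functor.map_comp]
    erw [(EtColim.torCocone F).w]
    exact hej'
  have hz : (EtCoh.HF Yb (n + 1)).map ((EtCoh.pull (pY ≫ h)).map (ι.app k))
        (EtCore.HpullVia pY h (pY ≫ h) rfl _ (n + 1) ξk) =
      (EtCoh.HF Yb (n + 1)).map ((EtCoh.pull (pY ≫ h)).map (ι.app k))
        (EtCore.HpullVia hb p (pY ≫ h) w _ (n + 1) ek) := by
    refine (HpullVia_nat pY h (pY ≫ h) rfl (ι.app k) _ ξk).trans ?_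
    refine Eq.trans ?_ (HpullVia_nat hb p (pY ≫ h) w (ι.app k) _ ek).symm
    exact (congrArg _ hξk).trans (he.symm.trans (congrArg _ hek.symm))
  obtain ⟨l, c, d, hcd⟩ := Concrete.isColimit_exists_of_rep_eq
    ((D ⋙ EtCoh.pull (pY ≫ h)) ⋙ EtCoh.HF Yb (n + 1))
    (isColimitOfPreserves (EtCoh.HF Yb (n + 1)) (isColimitOfPreserves (EtCoh.pull (pY ≫ h)) hcc)) _ _ hz
  obtain rfl : c = d := Subsingleton.elim _ _
  obtain ⟨a, ha, ha0⟩ := exists_killed L hF l
  obtain ⟨x, hx⟩ := mem_range_of_killed h p hb pY w hp L n hh hbc ha ha0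
    (ξk.comp (Ext.mk₀ ((EtCoh.pull h).map (D.map c))) (add_zero _))
    (ek.comp (Ext.mk₀ ((EtCoh.pull p).map (D.map c))) (add_zero _))
    ((HpullVia_nat pY h (pY ≫ h) rfl (D.map c) _ ξk).symm.trans (hcd.trans (HpullVia_nat hb p (pY ≫ h) w (D.map c) _ ek)))
  refine ⟨x.comp (Ext.mk₀ (ι.app l)) (add_zero _), ?_⟩
  refine ((LocAcyc24.Hpull_nat h (ι.app l) (n + 1) x).symm.trans
    (congrArg (fun z : EtCoh.H Y _ (n + 1) => z.comp (Ext.mk₀ ((EtCoh.pull h).map (ι.app l))) (add_zero _)) hx)).trans ?_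
  refine (Ext.comp_assoc_of_third_deg_zero _ _ _ _).trans ?_
  rw [Ext.mk₀_comp_mk₀, ← Functor.map_comp]
  erw [(EtColim.torCocone F).w]
  exact hξk

end Groth.Agent.EtAcyc24
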