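import Groth.Agent.Lib.EtAcyc24.GeomFibreSys
import Groth.Agent.Lib.LocAcyc24.Rel
import Groth.Agent.Lib.LocConst24.Const
import Groth.Agent.Lib.EtStalk.FiniteStalk
import Groth.Agent.Lib.EtPic3.Artinian

/-!
# Geometric fibres of acyclic morphisms
-/

set_option autoImplicit false
set_option linter.style.haveILetI false
set_option linter.unusedSectionVars false
set_option backward.isDefEq.respectTransparency.types false

universe u

open CategoryTheory CategoryTheory.Limits AlgebraicGeometry Opposite CategoryTheory.Abelian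

namespace Groth.Agent.EtAcyc24

open Groth.Agent.EtStalk Groth.Agent.EtLim24

variable {X Y P : Scheme.{u}} (g : X ⟶ Y) {σ : P ⟶ Y}

/-- Pullback from a limit of integral stages to the fibre is bijective. -/
theorem bijective_HpullVia_fibre (S : GeomPtSys σ) [QuasiCompact g] [QuasiSeparated g] (L : Set ℕ) (n : ℕ)
    (hg : EtAcyc.IsAcyclicN g L n) {ℓ : ℕ} (hℓ : ℓ.Prime) (hL : ℓ ∈ L) (q : ℕ) (hq : q ≤ n) :
    Function.Bijective (EtCore.HpullVia (pullback.snd g σ) σ (pullback.snd g σ ≫ σ) rfl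
      (EtCoh.const Y (ZMod ℓ)) q) := by
  let F := EtCoh.const Y (ZMod ℓ)
  haveI : ∀ i : S.ι, CompactSpace ↥(S.T.obj (op i)) := fun i => compactSpace_T S _
  haveI : ∀ i : S.ι, QuasiSeparatedSpace ↥(S.T.obj (op i)) := fun i => inferInstance
  haveI : ∀ i : S.ι, CompactSpace ↥((fibSys g S).obj (op i)) := fun i => compactSpace_fibSys g S _
  haveI : ∀ i : S.ι, QuasiSeparatedSpace ↥((fibSys g S).obj (op i)) := fun i => quasiSeparatedSpace_fibSys g S _
  let bX : ∀ i : S.ι, (fibSys g S).obj (op i) ⟶ Y := fun i => pullback.snd g (S.b (op i)) ≫ S.b (op i)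
  have hsq : ∀ ⦃i j : S.ι⦄ (h : i ≤ j), uM (fibSys g S) h ≫ pullback.snd g (S.b (op i)) =
      pullback.snd g (S.b (op j)) ≫ uM S.T h := fun i j h => pullback.lift_snd _ _ _
  have hbX : ∀ ⦃i j : S.ι⦄ (h : i ≤ j), uM (fibSys g S) h ≫ bX i = bX j := fun i j h =>
    (((Category.assoc _ _ _).symm.trans (congrArg (fun r => r ≫ S.b (op i)) (hsq h))).trans
      (Category.assoc _ _ _)).trans (congrArg (fun r => pullback.snd g (S.b (op j)) ≫ r) (S.hb (homOfLE h).op))
  have hp : ∀ i : S.ι, fibProj g S (op i) ≫ pullback.snd g (S.b (op i)) = pullback.snd g σ ≫ S.π.app (op i) :=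
    fun i => pullback.lift_snd _ _ _
  have hbX' : ∀ i : S.ι, pr (fibSys g S) (fibCone g S) i ≫ bX i = pullback.snd g σ ≫ σ := fun i =>
    (((Category.assoc _ _ _).symm.trans (congrArg (fun r => r ≫ S.b (op i)) (hp i))).trans
      (Category.assoc _ _ _)).trans (congrArg (fun r => pullback.snd g σ ≫ r) (S.hπ (op i)))
  have LT := limit_base (Xs := S.T) (c := Cone.mk P S.π) (fun i => S.b (op i))
    (fun i j h => S.hb (homOfLE h).op) σ (fun i => S.hπ (op i)) F (fun _ _ f => isAffineHom_map S f) S.isLimit q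
  have LX := limit_base (Xs := fibSys g S) (c := fibCone g S) bX hbX (pullback.snd g σ ≫ σ) hbX' F
    (fun _ _ f => isAffineHom_fibSys g S f) (isLimitFibCone g S) q
  have hstage : ∀ i : S.ι, Function.Bijective
      (EtCore.HpullVia (pullback.snd g (S.b (op i))) (S.b (op i)) (bX i) rfl F q) := fun i =>
    bijective_HpullVia_stage g S L n hg hℓ hL (op i) q hq
  let Ψ := EtCore.HpullVia (pullback.snd g σ) σ (pullback.snd g σ ≫ σ) rfl F q
  have hcomp : ∀ (i : S.ι) (z : EtCoh.H (S.T.obj (op i)) ((EtCoh.pull (S.b (op i))).obj F) q),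
      Ψ (EtCore.HpullVia (S.π.app (op i)) (S.b (op i)) σ (S.hπ (op i)) F q z) =
        EtCore.HpullVia (pr (fibSys g S) (fibCone g S) i) (bX i) (pullback.snd g σ ≫ σ) (hbX' i) F q
          (EtCore.HpullVia (pullback.snd g (S.b (op i))) (S.b (op i)) (bX i) rfl F q z) := fun i z =>
    have hk : (fibProj g S (op i) ≫ pullback.snd g (S.b (op i))) ≫ S.b (op i) = pullback.snd g σ ≫ σ :=
      (Category.assoc _ _ _).trans (hbX' i)
    (HpullVia_comp (pullback.snd g σ) (S.π.app (op i)) _ (hp i).symm (S.b (op i)) σ (S.hπ (op i))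
      (pullback.snd g σ ≫ σ) rfl hk F q z).trans
      (HpullVia_comp (fibProj g S (op i)) (pullback.snd g (S.b (op i))) _ rfl (S.b (op i)) (bX i) rfl
        (pullback.snd g σ ≫ σ) (hbX' i) hk F q z).symm
  constructor
  · refine (injective_iff_map_eq_zero Ψ).2 fun ζ hζ => ?_
    obtain ⟨i, z, rfl⟩ := LT.1 ζ
    obtain ⟨j, h, hj⟩ := LX.2 i _ ((hcomp i z).symm.trans hζ)
    let zj := EtCore.HpullVia (uM S.T h) (S.b (op i)) (S.b (op j)) (S.hb (homOfLE h).op) F q z
    have hk₁ : (uM (fibSys g S) h ≫ pullback.snd g (S.b (op i))) ≫ S.b (op i) = bX j :=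
      (Category.assoc _ _ _).trans (hbX h)
    have hk₂ : (uM S.T h) ≫ S.b (op i) = S.b (op j) := S.hb (homOfLE h).op
    have hz : EtCore.HpullVia (pullback.snd g (S.b (op j))) (S.b (op j)) (bX j) rfl F q zj = 0 :=
      (HpullVia_comp (pullback.snd g (S.b (op j))) (uM S.T h) _ (hsq h).symm (S.b (op i)) (S.b (op j)) hk₂
        (bX j) rfl hk₁ F q z).trans
        ((HpullVia_comp (uM (fibSys g S) h) (pullback.snd g (S.b (op i))) _ rfl (S.b (op i)) (bX i) rfl
          (bX j) (hbX h) hk₁ F q z).symm.trans hj)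
    have hzj : zj = 0 := (hstage j).1 (hz.trans (map_zero _).symm)
    have e := HpullVia_comp (S.π.app (op j)) (uM S.T h) (S.π.app (op i)) (Cone.w (Cone.mk P S.π) (homOfLE h).op)
      (S.b (op i)) (S.b (op j)) hk₂ σ (S.hπ (op j)) (S.hπ (op i)) F q z
    exact e.symm.trans ((congrArg _ hzj).trans (map_zero _))
  · intro ξ
    obtain ⟨i, x, rfl⟩ := LX.1 ξ
    obtain ⟨z, rfl⟩ := (hstage i).2 x
    exact ⟨_, hcomp i z⟩

/-- Sections and cohomology in degree zero. -/
noncomputable def secH0 (Z : Scheme.{u}) (G : EtCoh.Ab Z) :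
    G.obj.obj (op (EtCoh.top Z)) ≃ EtCoh.H Z G 0 :=
  ((((EtCore.constAdj Z).homEquiv _ _).trans (AddCommGrpCat.uliftZMultiplesAddEquiv.{u + 1} _).toEquiv).symm).trans
    (Equiv.ofBijective _ (Ext.mk₀_bijective (EtCoh.const Z ℤ) G))

/-- A disconnected scheme has too many global sections of a constant sheaf. -/
theorem exists_injective_of_clopen {Z : Scheme.{u}} {C : Set Z} (hC : IsClopen C) (hne : C.Nonempty)
    (hne' : Cᶜ.Nonempty) (M : Type) [AddCommGroup M] :
    ∃ φ : M × M → EtCoh.H Z (EtCoh.const Z M) 0, Function.Injective φ := by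
  let U := EtCoh.top Z
  let P : ULift.{u} Bool → U.left.Opens := fun l =>
    bif l.down then ⟨C, hC.isOpen⟩ else ⟨Cᶜ, hC.compl.isOpen⟩
  have hP : ∀ z, ∃! l, z ∈ P l := fun z => by
    by_cases hz : z ∈ C
    · exact ⟨⟨true⟩, hz, fun ⟨b⟩ hb => by cases b with | false => exact absurd hz hb | true => rfl⟩
    · exact ⟨⟨false⟩, hz, fun ⟨b⟩ hb => by cases b with | false => rfl | true => exact absurd hb hz⟩
  let F := EtCoh.const Z M
  let val : M × M → ULift.{u} Bool → M := fun ab l => bif l.down then ab.1 else ab.2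
  choose t ht _ using fun ab : M × M => existsUnique_glue_parts F U P hP fun l =>
    LocConst24.constSec Z M (EtSite.sub U (P l)) (val ab l)
  refine ⟨fun ab => secH0 Z F (t ab), fun a b h => ?_⟩
  have htt : t a = t b := (secH0 Z F).injective h
  have key : ∀ l, (P l : Set U.left).Nonempty → val a l = val b l := fun l ⟨z, hz⟩ => by
    have e := ((ht a l).symm.trans (congrArg (fun r => F.obj.map (EtSite.subHom U (P l)).op r) htt)).trans (ht b l)
    obtain ⟨φ, -⟩ := exists_fib (EtSite.sub U (P l)) ⟨z, hz⟩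
    exact (LocConst24.bijAt_constSec Z M (EtSite.sub U (P l)) _ _ φ).1 (congrArg (fun r => germ _ F φ r) e)
  exact Prod.ext (key ⟨true⟩ hne) (key ⟨false⟩ hne')

/-- The geometric fibres of an acyclic morphism are acyclic. -/
theorem geomFibresAcyclicN {X Y : Scheme.{u}} (g : X ⟶ Y) [QuasiCompact g] [QuasiSeparated g]
    (L : Set ℕ) (hL : ∃ ℓ ∈ L, ℓ.Prime) (n : ℕ) (hg : EtAcyc.IsAcyclicN g L n) :
    EtAcyc.GeomFibresAcyclicN L n g := by
  intro y Ω _ _ _ _
  let σ := EtAcyc.geomPt Y y Ω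
  obtain ⟨S⟩ := nonempty_geomPtSys Y y Ω
  let Z := pullback g σ
  have key : ∀ (ℓ : ℕ), ℓ.Prime → ℓ ∈ L → ∀ q ≤ n,
      Nonempty (EtCoh.H (Spec (CommRingCat.of Ω)) (EtCoh.const (Spec (CommRingCat.of Ω)) (ZMod ℓ)) q ≃
        EtCoh.H Z (EtCoh.const Z (ZMod ℓ)) q) := fun ℓ hℓ hℓL q hq =>
    ⟨((((EtCoh.HF _ q).mapIso (EtCore.pullConst σ (ZMod ℓ))).addCommGroupIsoToAddEquiv.toEquiv.symm).trans
      (Equiv.ofBijective _ (bijective_HpullVia_fibre g S L n hg hℓ hℓL q hq))).trans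
      ((EtCoh.HF _ q).mapIso (EtCore.pullConst (pullback.snd g σ ≫ σ) (ZMod ℓ))).addCommGroupIsoToAddEquiv.toEquiv⟩
  obtain ⟨ℓ, hℓL, hℓ⟩ := hL
  haveI : IsSepClosed (IsLocalRing.ResidueField Ω) :=
    EtPic3.isSepClosed_of_ringEquiv (RingEquiv.ofBijective (algebraMap Ω (IsLocalRing.ResidueField Ω))
      ⟨(algebraMap Ω (IsLocalRing.ResidueField Ω)).injective, Ideal.Quotient.mk_surjective⟩)
  let e₀ : EtCoh.H (Spec (CommRingCat.of Ω)) (EtCoh.const (Spec (CommRingCat.of Ω)) (ZMod ℓ)) 0 ≃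
      ULift.{u + 1} (ZMod ℓ) :=
    (Equiv.ofBijective _ (Ext.mk₀_bijective (EtCoh.const (Spec (CommRingCat.of Ω)) ℤ) _)).symm.trans
      (LocAcyc24.secEquiv (R := Ω) (AddCommGrpCat.of (ULift.{u + 1} (ZMod ℓ))))
  obtain ⟨eZ⟩ := key ℓ hℓ hℓL 0 (Nat.zero_le n)
  let e : EtCoh.H Z (EtCoh.const Z (ZMod ℓ)) 0 ≃ ZMod ℓ := eZ.symm.trans (e₀.trans Equiv.ulift)
  haveI : NeZero ℓ := ⟨hℓ.ne_zero⟩
  have hne : Nonempty Z := by
    by_contra hZ
    rw [not_nonempty_iff] at hZ
    have hz : IsZero (EtCoh.const Z (ZMod ℓ)) := by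
      rw [isZero_iff_stalk]
      intro Ω _ _ ξ
      exact (hZ.false (ξ default)).elim
    haveI : Subsingleton (EtCoh.H Z (EtCoh.const Z (ZMod ℓ)) 0) :=
      AddCommGrpCat.subsingleton_of_isZero
        ((haveI : (EtCoh.HF Z 0).Additive := by unfold EtCoh.HF; infer_instance
          Functor.map_isZero (EtCoh.HF Z 0) hz))
    haveI : Fact (1 < ℓ) := ⟨hℓ.one_lt⟩
    exact not_subsingleton (ZMod ℓ) e.symm.subsingleton
  refine ⟨hne, ?_, fun ℓ' hℓ' hℓ'L q hq1 hqn => ?_⟩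
  · haveI := hne
    refine connectedSpace_iff_clopen.2 ⟨hne, fun C hC => ?_⟩
    by_contra hC'
    push Not at hC'
    obtain ⟨φ, hφ⟩ := exists_injective_of_clopen hC hC'.1
      (Set.nonempty_compl.2 hC'.2) (ZMod ℓ)
    have h1 := Nat.card_le_card_of_injective (e ∘ φ) (e.injective.comp hφ)
    rw [Nat.card_prod, Nat.card_zmod] at h1
    nlinarith [hℓ.one_lt]
  · haveI := EtPic3.subsingleton_H_sepClosed Ω (EtCoh.const (Spec (CommRingCat.of Ω)) (ZMod ℓ')) hq1
    obtain ⟨e'⟩ := key ℓ' hℓ' hℓ'L q hqn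
    exact e'.symm.subsingleton

end Groth.Agent.EtAcyc24
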