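import Groth.Agent.Lib.EtAcyc24.LqfCriterion
import Groth.Agent.Lib.EtAcyc24.GeomFibre

/-!
# Acyclicity and constant coefficients on quasi-finite schemes over the target
-/

set_option autoImplicit false
set_option linter.style.haveILetI false
set_option linter.unusedSectionVars false
set_option backward.isDefEq.respectTransparency.types false
set_option maxHeartbeats 400000

universe u

open CategoryTheory CategoryTheory.Limits AlgebraicGeometry Opposite CategoryTheory.Abelian

namespace Groth.Agent.EtAcyc24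

variable {X Y : Scheme.{u}} (g : X ⟶ Y) [QuasiCompact g] [QuasiSeparated g] (L : Set ℕ) (n : ℕ)

omit [QuasiCompact g] [QuasiSeparated g] in
/-- Acyclic morphisms are comparison morphisms over each test scheme. -/
theorem compN_snd (hg : EtAcyc.IsAcyclicN g L n) (Y' : Scheme.{u}) (i : Y' ⟶ Y) [LocallyQuasiFinite i]
    [LocallyOfFiniteType i] : EtAcyc.CompN (pullback.snd g i) L n := by
  haveI hI : IsIso (EtCoh.top Y').hom := inferInstanceAs (IsIso (𝟙 Y'))
  have h := isAcyclicN_baseChange g i L n hg (EtCoh.top Y')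
  haveI : IsIso (pullback.snd (EtCoh.top Y').hom (pullback.snd g i)) :=
    @pullback_snd_iso_of_left_iso _ _ _ _ _ (EtCoh.top Y').hom (pullback.snd g i) hI
  have e : EtAcyc.prj (pullback.snd g i) (EtCoh.top Y') =
      pullback.snd (EtCoh.top Y').hom (pullback.snd g i) ≫ pullback.snd g i :=
    (Category.comp_id _).symm.trans (pullback.condition (f := (EtCoh.top Y').hom) (g := pullback.snd g i))
  refine (compN_comp_iff (pullback.snd (EtCoh.top Y').hom (pullback.snd g i)) (pullback.snd g i)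
    (compN_of_isIso (pullback.snd (EtCoh.top Y').hom (pullback.snd g i)) L n)).2 ?_
  exact (congrArg (fun r => EtAcyc.CompN r L n) e).mp h

omit [QuasiCompact g] [QuasiSeparated g] in
lemma mem_range_of_fibre (y : Y) (Ω : Type u) [Field Ω] [Algebra (Y.residueField y) Ω]
    (x : (pullback g (EtAcyc.geomPt Y y Ω) : Scheme.{u})) : ∃ x' : X, g x' = y := by
  refine ⟨pullback.fst g (EtAcyc.geomPt Y y Ω) x, ?_⟩
  rw [← Scheme.Hom.comp_apply, pullback.condition, Scheme.Hom.comp_apply, Scheme.Hom.comp_apply]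
  exact Scheme.fromSpecResidueField_apply _ _

/-- Acyclic morphisms are surjective. -/
theorem surjective_of_isAcyclicN (hL : ∃ ℓ ∈ L, ℓ.Prime) (hg : EtAcyc.IsAcyclicN g L n) :
    Function.Surjective g.base := fun y => by
  have h : EtAcyc.GeomFibresAcyclicN L n g := geomFibresAcyclicN g L hL n hg
  have h' := (h y (SeparableClosure (Y.residueField y))).1
  exact mem_range_of_fibre g y (SeparableClosure (Y.residueField y)) (Classical.choice h')

lemma surjective_Hpull_congr {A B : Scheme.{u}} {f f' : A ⟶ B} (e : f = f') (F : EtCoh.Ab B) (q : ℕ)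
    (h : Function.Surjective (EtCore.Hpull f F q)) : Function.Surjective (EtCore.Hpull f' F q) := by
  subst e
  exact h

/-- Morphisms satisfying the criterion are acyclic. -/
theorem isAcyclicN_of_test (hsurj : Function.Surjective g.base)
    (hs : ∀ (Y' : Scheme.{u}) (i : Y' ⟶ Y), LocallyQuasiFinite i → LocallyOfFiniteType i → ∀ ℓ : ℕ, ℓ.Prime → ℓ ∈ L →
      ∀ ν : ℕ, 1 ≤ ν → ∀ q : ℕ, q ≤ n →
        Function.Surjective (EtCore.Hpull (pullback.snd g i) (EtCoh.const Y' (ZMod (ℓ ^ ν))) q)) :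
    EtAcyc.IsAcyclicN g L n := by
  refine isAcyclicN_of_basis g (Embed24.isEtBasis_affine Y) L n fun W hW => ?_
  haveI : IsAffine W.left := hW
  haveI : Etale W.hom := W.prop
  haveI : LocallyQuasiFinite W.hom := Groth.Agent.FiniteSplit.locallyQuasiFinite_of_etale W.hom
  haveI : QuasiCompact (EtAcyc.prj g W) := MorphismProperty.pullback_fst _ _ inferInstance
  haveI : QuasiSeparated (EtAcyc.prj g W) := MorphismProperty.pullback_fst _ _ inferInstance
  haveI : AlgebraicGeometry.Surjective g := ⟨hsurj⟩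
  haveI : AlgebraicGeometry.Surjective (EtAcyc.prj g W) := MorphismProperty.pullback_fst _ _ inferInstance
  refine compN_of_test (EtAcyc.prj g W) L n ?_ (EtAcyc.prj g W).surjective
  intro Z f _ _ ℓ hℓ hℓL ν hν q hq
  have hp := (IsPullback.of_hasPullback (EtAcyc.prj g W) f).paste_horiz (IsPullback.of_hasPullback W.hom g).flip
  haveI : IsIso hp.isoPullback.hom := inferInstance
  have h := hs Z (f ≫ W.hom) inferInstance inferInstance ℓ hℓ hℓL ν hν q hq
  refine surjective_Hpull_congr hp.isoPullback_hom_snd _ _ ?_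
  rw [Hpull_comp_eq]
  exact (bijective_comp_iso _ q).2.comp ((LocAcyc24.bijective_Hpull_of_isIso _ _ q).2.comp h)

/-- The criterion. -/
theorem isAcyclicN_iff_test (hL : ∃ ℓ ∈ L, ℓ.Prime) :
    EtAcyc.IsAcyclicN g L n ↔
      Function.Surjective g.base ∧
        ∀ (Y' : Scheme.{u}) (i : Y' ⟶ Y), LocallyQuasiFinite i → LocallyOfFiniteType i → ∀ ℓ : ℕ, ℓ.Prime → ℓ ∈ L →
          ∀ ν : ℕ, 1 ≤ ν → ∀ q : ℕ, q ≤ n →
            Function.Surjective (EtCore.Hpull (pullback.snd g i) (EtCoh.const Y' (ZMod (ℓ ^ ν))) q) :=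
  ⟨fun hg => ⟨surjective_of_isAcyclicN g L n hL hg, fun Y' i _ _ ℓ hℓ hℓL ν _ q hq =>
    (((compN_snd g L n hg Y' i) _ (isLTorsion_of_nsmul L ⟨pow_pos hℓ.pos _, fun p hp hd =>
      ((Nat.prime_dvd_prime_iff_eq hp hℓ).1 (hp.dvd_of_dvd_pow hd)).symm ▸ hℓL⟩
        (nsmul_id_const Y' (ℓ ^ ν)))).1 q hq).2⟩,
  fun ⟨h1, h2⟩ => isAcyclicN_of_test g L n h1 h2⟩

omit [QuasiCompact g] [QuasiSeparated g] in
lemma injective_Hpull_congr {A B : Scheme.{u}} {f f' : A ⟶ B} (e : f = f') (F : EtCoh.Ab B) (q : ℕ)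
    (h : Function.Injective (EtCore.Hpull f F q)) : Function.Injective (EtCore.Hpull f' F q) := by
  subst e
  exact h

omit g [QuasiCompact g] [QuasiSeparated g] in
/-- Comparison tested on finite schemes over the target, one prime. -/
theorem compN_of_finite_test {X Y : Scheme.{u}} (h : Y ⟶ X) [CompactSpace X] [QuasiSeparatedSpace X]
    [CompactSpace Y] [QuasiSeparatedSpace Y] (ℓ : ℕ) (n : ℕ)
    (hb : ∀ (X' : Scheme.{u}) (p : X' ⟶ X), IsFinite p → ∀ ν : ℕ,
      Function.Injective (EtCore.Hpull (pullback.fst p h) (EtCoh.const X' (ZMod (ℓ ^ ν))) 0) ∧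
      ∀ i ≤ n, Function.Surjective (EtCore.Hpull (pullback.fst p h) (EtCoh.const X' (ZMod (ℓ ^ ν))) i)) :
    EtAcyc.CompN h {ℓ} n := by
  haveI : QuasiSeparated h := inferInstance
  refine compN_of_test_zero h {ℓ} n ?_ (injective_Hpull_zero_of_test h {ℓ} ?_)
  · intro Z f _ _ l _ hl ν _ q hq
    obtain rfl : l = ℓ := hl
    refine surjective_Hpull_congr (pullbackSymmetry_hom_comp_fst h f) _ _ ?_
    rw [Hpull_comp_eq]
    exact (bijective_comp_iso _ q).2.comp
      ((LocAcyc24.bijective_Hpull_of_isIso _ _ q).2.comp ((hb Z f inferInstance ν).2 q hq))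
  · intro Z f _ _ l _ hl ν _
    obtain rfl : l = ℓ := hl
    refine injective_Hpull_congr (pullbackSymmetry_hom_comp_fst h f) _ _ ?_
    rw [Hpull_comp_eq]
    exact (bijective_comp_iso _ 0).1.comp
      ((LocAcyc24.bijective_Hpull_of_isIso _ _ 0).1.comp (hb Z f inferInstance ν).1)

end Groth.Agent.EtAcyc24
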