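import Groth.Agent.Lib.EtAcyc24.Basis
import Groth.Agent.Lib.EtAcyc24.IntegralBase
import Groth.Agent.S8524
import Groth.Agent.Lib.EtStalk.FiniteSplit
import Mathlib.AlgebraicGeometry.ZariskisMainTheorem

/-!
# Acyclicity is stable under locally quasi-finite base change
-/

set_option autoImplicit false
set_option linter.style.haveILetI false
set_option linter.unusedSectionVars false
set_option backward.isDefEq.respectTransparency.types false

universe u

open CategoryTheory CategoryTheory.Limits AlgebraicGeometry Opposite CategoryTheory.Abelian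

namespace Groth.Agent.EtAcyc24

open Groth.Agent.EtStalk Groth.Agent.EtLim24

/-- The direct image of a torsion sheaf along an integral morphism is torsion. -/
theorem isLTorsion_push_integral {Z W : Scheme.{u}} (π : Z ⟶ W) [IsIntegralHom π] (L : Set ℕ) {G : EtCoh.Ab Z}
    (hG : EtAcyc.IsLTorsion L G) : EtAcyc.IsLTorsion L ((EtCoh.push π).obj G) := by
  intro U s x
  obtain ⟨O, hO, hx, -⟩ := exists_isAffineOpen_mem_and_subset (X := U.left) (x := x) (U := ⊤) trivial
  let V := EtSite.sub U O
  let g := EtSite.subHom U O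
  haveI : IsAffine V.left := hO
  haveI hc : CompactSpace ↥((EtCoh.bc π).obj V).left := by
    haveI : QuasiCompact π := inferInstance
    haveI hq : QuasiCompact (pullback.fst V.hom π) := MorphismProperty.pullback_fst _ _ inferInstance
    exact @QuasiCompact.compactSpace_of_compactSpace _ _ (pullback.fst V.hom π) hq
      (inferInstanceAs (CompactSpace ↥V.left))
  obtain ⟨m, hm, h0⟩ := Groth.Agent.S8524.result L G hG ((EtCoh.bc π).obj V)
    (((EtCoh.push π).obj G).obj.map g.op s)
  exact ⟨V, g, m, ⟨⟨x, hx⟩, rfl⟩, hm, h0⟩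

variable {A B W Z : Scheme.{u}} {h : A ⟶ W} {h' : B ⟶ Z} {π : Z ⟶ W} {π' : B ⟶ A}

/-- The comparison is inherited along integral base change. -/
theorem compN_of_integral [IsIntegralHom π] (sq : IsPullback h' π' π h) (L : Set ℕ) (n : ℕ)
    (hc : EtAcyc.CompN h L n) : EtAcyc.CompN h' L n := by
  intro G hG _
  have hG' := isLTorsion_push_integral π L hG
  refine ⟨fun q hq => bijective_Hpull_of_integral sq L n hc G hG' q hq, ?_⟩
  haveI : IsIntegralHom π' := MorphismProperty.of_isPullback sq ‹IsIntegralHom π›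
  haveI := isIso_baseChange0_integral π h π' h' sq G
  have h3 : Function.Injective
      (EtLim.HpullThen h ((EtCoh.push π).obj G) (EtCoh.baseChange0 π h π' h' sq.w G) (n + 1)) :=
    (ConcreteCategory.bijective_of_isIso
      ((EtCoh.HF A (n + 1)).map (EtCoh.baseChange0 π h π' h' sq.w G))).1.comp (hc _ hG').2
  refine Function.Injective.of_comp_right ?_ (FieldH25.bijective_HofPush_integral π G (n + 1)).2
  rw [show EtCore.Hpull h' G (n + 1) ∘ EtLim.HofPush π G (n + 1) =
    EtLim.HofPush π' ((EtCoh.pull h').obj G) (n + 1) ∘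
      EtLim.HpullThen h ((EtCoh.push π).obj G) (EtCoh.baseChange0 π h π' h' sq.w G) (n + 1) from
    funext fun x => (HofPush_baseChange0 sq.w G (n + 1) x).symm]
  exact (FieldH25.bijective_HofPush_integral π' _ (n + 1)).1.comp h3

/-- Schemes integral over schemes etale over the target. -/
def IntOverEt {Y Y' : Scheme.{u}} (i : Y' ⟶ Y) (W : Y'.Etale) : Prop :=
  ∃ (U : Y.Etale) (p : W.left ⟶ U.left), IsIntegralHom p ∧ p ≫ U.hom = W.hom ≫ i

/-- Etale schemes over a quasi-finite scheme are locally integral over etale schemes. -/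
theorem isEtBasis_intOverEt {Y Y' : Scheme.{u}} (i : Y' ⟶ Y) [LocallyQuasiFinite i] [LocallyOfFiniteType i] :
    IsEtBasis (IntOverEt i) := by
  intro W w
  obtain ⟨O, hO, hw, -⟩ := exists_isAffineOpen_mem_and_subset (X := W.left) (x := w) (U := ⊤) trivial
  haveI : Etale W.hom := W.prop
  haveI : IsAffine O.toScheme := hO
  let f : O.toScheme ⟶ Y := O.ι ≫ W.hom ≫ i
  haveI : LocallyOfFiniteType f := inferInstance
  haveI : IsSeparated f := inferInstance
  haveI : LocallyQuasiFinite W.hom := Groth.Agent.FiniteSplit.locallyQuasiFinite_of_etale W.hom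
  haveI : LocallyQuasiFinite f := inferInstance
  obtain ⟨U, gU, hgU, -, V, -, v, -, hV, hv⟩ :=
    exists_etale_isCompl_of_quasiFiniteAt f (x := ⟨w, hw⟩) rfl (f.quasiFiniteAt _)
  haveI := hgU
  haveI := hV
  have hI : IsIntegralHom (V.ι ≫ pullback.snd f gU) := inferInstance
  haveI : Etale (V.ι ≫ pullback.fst f gU ≫ O.ι ≫ W.hom) := inferInstance
  let W' : Y'.Etale := Scheme.Etale.mk (V.ι ≫ pullback.fst f gU ≫ O.ι ≫ W.hom)
  refine ⟨W', MorphismProperty.Over.homMk (V.ι ≫ pullback.fst f gU ≫ O.ι) (by simp [W']; rfl), v,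
    ⟨Scheme.Etale.mk gU, V.ι ≫ pullback.snd f gU, hI, ?_⟩, ?_⟩
  · show (V.ι ≫ pullback.snd f gU) ≫ gU = (V.ι ≫ pullback.fst f gU ≫ O.ι ≫ W.hom) ≫ i
    rw [Category.assoc, ← pullback.condition]
    simp [f, Category.assoc]
  · show O.ι (pullback.fst f gU (V.ι v)) = w
    exact congrArg O.ι hv

/-- Acyclicity is inherited along locally quasi-finite base change. -/
theorem isAcyclicN_baseChange {X Y Y' : Scheme.{u}} (g : X ⟶ Y) (i : Y' ⟶ Y) [LocallyQuasiFinite i]
    [LocallyOfFiniteType i] (L : Set ℕ) (n : ℕ) (hg : EtAcyc.IsAcyclicN g L n) :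
    EtAcyc.IsAcyclicN (pullback.snd g i) L n := by
  refine isAcyclicN_of_basis (pullback.snd g i) (isEtBasis_intOverEt i) L n fun W ⟨U, p, hp, hpU⟩ => ?_
  haveI := hp
  let π' : pullback W.hom (pullback.snd g i) ⟶ pullback U.hom g :=
    pullback.lift (pullback.fst W.hom (pullback.snd g i) ≫ p)
      (pullback.snd W.hom (pullback.snd g i) ≫ pullback.fst g i) (by
        rw [Category.assoc, hpU, Category.assoc, ← Category.assoc (pullback.fst W.hom _), pullback.condition,
          Category.assoc, pullback.condition])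
  have sq : IsPullback (pullback.fst W.hom (pullback.snd g i)) π' p (EtAcyc.prj g U) :=
    IsPullback.of_bot (v₂₁ := pullback.snd U.hom g) (v₂₂ := U.hom) (h₃₁ := g) (by
      rw [pullback.lift_snd, hpU]
      exact (IsPullback.of_hasPullback W.hom (pullback.snd g i)).paste_vert
        (IsPullback.of_hasPullback g i).flip) (pullback.lift_fst _ _ _).symm
      (IsPullback.of_hasPullback U.hom g)
  exact compN_of_integral sq L n (hg U)

end Groth.Agent.EtAcyc24
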