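import Groth.Agent.Lib.EtAcyc24.BCTransfer
import Groth.Agent.Lib.EtColim.Torsion

/-!
# Cohomology and higher direct images of `L`-torsion sheaves
-/

set_option autoImplicit false
set_option linter.style.haveILetI false
set_option linter.unusedSectionVars false
set_option backward.isDefEq.respectTransparency false
set_option backward.isDefEq.respectTransparency.types false

universe u

open CategoryTheory CategoryTheory.Limits AlgebraicGeometry Opposite CategoryTheory.Abelian

namespace Groth.Agent.EtAcyc24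

variable {X Y : Scheme.{u}}

/-- Cohomology classes of `L`-torsion sheaves on qcqs schemes are killed by numbers with prime factors in `L`. -/
theorem exists_nsmul_H_eq_zero [CompactSpace X] [QuasiSeparatedSpace X] (L : Set ℕ) {F : EtCoh.Ab X}
    (hF : EtAcyc.IsLTorsion L F) (q : ℕ) (x : EtCoh.H X F q) : ∃ a, EtAcyc.PrimesIn L a ∧ a • x = 0 := by
  have hT : EtCoh.IsTorsion F := fun U s z =>
    let ⟨V, r, m, hv, hm, h0⟩ := hF U s z
    ⟨V, r, hv, isOfFinAddOrder_iff_nsmul_eq_zero.2 ⟨m, hm.1, h0⟩⟩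
  haveI : IsFiltered (ULift.{u + 1} ℕ) := isFiltered_of_directed_le_nonempty _
  let hcc : IsColimit (EtColim.torCocone F) :=
    @IsColimit.ofPointIso _ _ _ _ _ _ _ (colimit.isColimit (EtColim.torDiag F)) (EtColim.isIso_desc F hT)
  haveI := EtColim.preservesColimitsOfShape_HF X q (ULift.{u + 1} ℕ)
  obtain ⟨k, (xk : EtCoh.H X ((EtColim.torDiag F).obj k) q), hxk⟩ := Concrete.isColimit_exists_rep
    (EtColim.torDiag F ⋙ EtCoh.HF X q) (isColimitOfPreserves (EtCoh.HF X q) hcc) x
  obtain ⟨a, ha, ha0⟩ := exists_killed L hF k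
  refine ⟨a, ha, ?_⟩
  have h1 : a • xk = 0 := by
    calc a • xk = xk.comp (Ext.mk₀ (a • 𝟙 ((EtColim.torDiag F).obj k))) (add_zero q) := by
          rw [show Ext.mk₀ (a • 𝟙 ((EtColim.torDiag F).obj k)) = a • Ext.mk₀ (𝟙 ((EtColim.torDiag F).obj k)) from
            (Ext.addEquiv₀ (X := (EtColim.torDiag F).obj k) (Y := (EtColim.torDiag F).obj k)).symm.toAddMonoidHom.map_nsmul _ _]
          change _ = (Ext.bilinearComp _ _ _ q 0 q (add_zero q) xk) (a • Ext.mk₀ (𝟙 ((EtColim.torDiag F).obj k)))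
          rw [map_nsmul]
          exact congrArg (a • ·) (Ext.comp_mk₀_id xk).symm
      _ = 0 := by rw [ha0, Ext.mk₀_zero, Ext.comp_zero]
  rw [← hxk]
  exact (map_nsmul _ a xk).symm.trans ((congrArg _ h1).trans (map_zero _))

section Direct

variable (f : X ⟶ Y) [QuasiCompact f] [QuasiSeparated f]

theorem exists_nsmul_rpushPsh_eq_zero (L : Set ℕ) {F : EtCoh.Ab X} (hF : EtAcyc.IsLTorsion L F) (n : ℕ) (V : Y.Etale)
    [IsAffine V.left] (x : ((((EtColim.pushPsh f).rightDerived n).obj F).obj (op V) : AddCommGrpCat.{u + 1})) :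
    ∃ a, EtAcyc.PrimesIn L a ∧ a • x = 0 := by
  let W := (EtCoh.bc f).obj V
  haveI : AlgebraicGeometry.Etale W.hom := W.prop
  haveI : CompactSpace ((𝟭 Scheme).obj V.left) := inferInstanceAs (CompactSpace V.left)
  haveI : QuasiSeparatedSpace ((𝟭 Scheme).obj V.left) := inferInstanceAs (QuasiSeparatedSpace V.left)
  haveI : QuasiCompact (pullback.fst V.hom f) := inferInstance
  haveI : QuasiSeparated (pullback.fst V.hom f) := inferInstance
  haveI : CompactSpace W.left :=
    QuasiCompact.compactSpace_of_compactSpace (pullback.fst V.hom f : W.left ⟶ V.left)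
  haveI : QuasiSeparatedSpace W.left :=
    quasiSeparatedSpace_of_quasiSeparated (pullback.fst V.hom f : W.left ⟶ V.left)
  haveI : CompactSpace ((𝟭 Scheme).obj W.left) := inferInstanceAs (CompactSpace W.left)
  haveI : QuasiSeparatedSpace ((𝟭 Scheme).obj W.left) := inferInstanceAs (QuasiSeparatedSpace W.left)
  haveI : ((evaluation Y.Etaleᵒᵖ AddCommGrpCat.{u + 1}).obj (op V)).Additive := { }
  haveI : (EtColim.pushPsh f).Additive := { }
  let e := (RDComp.rightDerivedPostIso (EtColim.pushPsh f) ((evaluation Y.Etaleᵒᵖ AddCommGrpCat.{u + 1}).obj (op V)) n).symm ≪≫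
    (ExtDerived.rightDerivedMapIso n (EtColim.zExtSectIso W)).symm ≪≫
      ExtDerived.rightDerivedCoyonedaNatIso (EtStalk.zExt W.hom) n
  let e' := (e.app F).addCommGroupIsoToAddEquiv.trans (EtStalk.extCohEquiv W.hom F n)
  obtain ⟨a, ha, h⟩ := exists_nsmul_H_eq_zero L (isLTorsion_pull W.hom L hF) n (e' x)
  exact ⟨a, ha, e'.injective (((map_nsmul e' a x).trans h).trans (map_zero e').symm)⟩

/-- Higher direct images of `L`-torsion sheaves are `L`-torsion. -/
theorem isLTorsion_Rpush (L : Set ℕ) {F : EtCoh.Ab X} (hF : EtAcyc.IsLTorsion L F) (n : ℕ) :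
    EtAcyc.IsLTorsion L ((EtCoh.Rpush f n).obj F) := by
  let R := presheafToSheaf Y.smallEtaleTopology AddCommGrpCat.{u + 1}
  haveI : R.Additive := presheafToSheaf_additive
  haveI : (EtColim.pushPsh f).Additive := { }
  let e : EtColim.pushPsh f ⋙ R ≅ EtCoh.push f :=
    Functor.isoWhiskerLeft (EtCoh.push f)
      (asIso (sheafificationAdjunction Y.smallEtaleTopology AddCommGrpCat.{u + 1}).counit) ≪≫ (EtCoh.push f).rightUnitor
  let P := ((EtColim.pushPsh f).rightDerived n).obj F
  let ei := ((RDComp.rightDerivedPostIso (EtColim.pushPsh f) R n).symm ≪≫ ExtDerived.rightDerivedMapIso n e).app F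
  refine isLTorsion_of_epi L ei.hom fun U s x => ?_
  have hcov := Presheaf.imageSieve_mem Y.smallEtaleTopology (toSheafify Y.smallEtaleTopology P) (U := op U) s
  rw [EtSite.mem_et_iff] at hcov
  obtain ⟨V, g, v, ⟨p, hp⟩, hv⟩ := hcov x
  obtain ⟨A, hA, hvA, -⟩ := exists_isAffineOpen_mem_and_subset (X := V.left) (x := v) (U := ⊤) trivial
  haveI : IsAffine (EtSite.sub V A).left := hA
  obtain ⟨a, ha, h0⟩ := exists_nsmul_rpushPsh_eq_zero f L hF n (EtSite.sub V A) (P.map (EtSite.subHom V A).op p)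
  refine ⟨EtSite.sub V A, EtSite.subHom V A ≫ g, a, ⟨⟨v, hvA⟩, hv⟩, ha, ?_⟩
  rw [op_comp, Functor.map_comp_apply]
  have h1 : (R.obj P).obj.map (EtSite.subHom V A).op ((R.obj P).obj.map g.op s) =
      (toSheafify Y.smallEtaleTopology P).app (op (EtSite.sub V A)) (P.map (EtSite.subHom V A).op p) := by
    rw [NatTrans.naturality_apply]
    exact congrArg _ hp.symm
  erw [h1, ← map_nsmul, h0, map_zero]

end Direct

end Groth.Agent.EtAcyc24
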