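import Groth.Agent.Lib.EtAcyc24.DerivedBC

/-!
# The comparison descends along surjective morphisms
-/

set_option autoImplicit false
set_option linter.style.haveILetI false
set_option linter.unusedSectionVars false
set_option backward.isDefEq.respectTransparency.types false

universe u

open CategoryTheory CategoryTheory.Limits AlgebraicGeometry Opposite CategoryTheory.Abelian

namespace Groth.Agent.EtAcyc24

attribute [local instance] HasDerivedCategory.standard

open Groth.Agent.EtStalk Groth.Agent.EtLim24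

/-- The comparison condition is checked on sheaves killed by numbers with prime factors in `L`. -/
theorem compN_of_killed {A B : Scheme.{u}} [CompactSpace A] [QuasiSeparatedSpace A] [CompactSpace B]
    [QuasiSeparatedSpace B] (g : A ⟶ B) (L : Set ℕ) (n : ℕ)
    (hinjk : ∀ a, EtAcyc.PrimesIn L a → ∀ q : ℕ, q ≤ n + 1 → ∀ F : EtCoh.Ab B, a • 𝟙 F = 0 →
      Function.Injective (EtCore.Hpull g F q))
    (hsurjk : ∀ a, EtAcyc.PrimesIn L a → ∀ q : ℕ, q ≤ n → ∀ F : EtCoh.Ab B, a • 𝟙 F = 0 →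
      Function.Surjective (EtCore.Hpull g F q)) : EtAcyc.CompN g L n := by
  intro F hF _
  have hT : EtCoh.IsTorsion F := fun U s z =>
    let ⟨V, r, m, hv, hm, h0⟩ := hF U s z
    ⟨V, r, hv, isOfFinAddOrder_iff_nsmul_eq_zero.2 ⟨m, hm.1, h0⟩⟩
  haveI : IsFiltered (ULift.{u + 1} ℕ) := isFiltered_of_directed_le_nonempty _
  haveI := EtColim.isIso_desc F hT
  let hcc : IsColimit (EtColim.torCocone F) :=
    @IsColimit.ofPointIso _ _ _ _ _ _ _ (colimit.isColimit (EtColim.torDiag F)) (EtColim.isIso_desc F hT)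

  haveI : PreservesColimitsOfSize.{u + 1, u + 1} (EtCoh.pull g) :=
    (EtCoh.pullPushAdj g).leftAdjoint_preservesColimits
  have hkill : ∀ k, ∃ a, EtAcyc.PrimesIn L a ∧ a • 𝟙 ((EtColim.torDiag F).obj k) = 0 := exists_killed L hF
  have hinj : ∀ q, q ≤ n + 1 → Function.Injective (EtCore.Hpull g F q) := fun q hq => by
    rw [injective_iff_map_eq_zero]
    intro x hx
    haveI := EtColim.preservesColimitsOfShape_HF B q (ULift.{u + 1} ℕ)
    haveI := EtColim.preservesColimitsOfShape_HF A q (ULift.{u + 1} ℕ)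
    obtain ⟨k, (xk : EtCoh.H B ((EtColim.torDiag F).obj k) q), hxk⟩ := Concrete.isColimit_exists_rep
      (EtColim.torDiag F ⋙ EtCoh.HF B q) (isColimitOfPreserves (EtCoh.HF B q) hcc) x
    have hxk' : xk.comp (Ext.mk₀ ((EtColim.torCocone F).ι.app k)) (add_zero q) = x := hxk
    have hz : (EtCoh.HF A q).map ((EtCoh.pull g).map ((EtColim.torCocone F).ι.app k)) (EtCore.Hpull g _ q xk) =
        (EtCoh.HF A q).map ((EtCoh.pull g).map ((EtColim.torCocone F).ι.app k)) 0 := by
      rw [map_zero]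
      exact (LocAcyc24.Hpull_nat g _ q xk).trans ((congrArg _ hxk').trans hx)
    obtain ⟨k', c, d, hcd⟩ := Concrete.isColimit_exists_of_rep_eq
      ((EtColim.torDiag F ⋙ EtCoh.pull g) ⋙ EtCoh.HF A q)
      (isColimitOfPreserves (EtCoh.HF A q) (isColimitOfPreserves (EtCoh.pull g) hcc)) _ _ hz
    rw [map_zero] at hcd
    obtain ⟨a, ha, ha0⟩ := hkill k'
    have h1 : xk.comp (Ext.mk₀ ((EtColim.torDiag F).map c)) (add_zero q) = 0 := by
      refine hinjk a ha q hq _ ha0 ?_
      rw [map_zero, ← LocAcyc24.Hpull_nat]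
      exact hcd
    rw [← hxk', ← (EtColim.torCocone F).w c, ← Ext.mk₀_comp_mk₀, ← Ext.comp_assoc_of_second_deg_zero, h1, Ext.zero_comp]
    rfl
  refine ⟨fun q hq => ⟨hinj q (by lia), fun y => ?_⟩, hinj (n + 1) le_rfl⟩
  haveI := EtColim.preservesColimitsOfShape_HF A q (ULift.{u + 1} ℕ)
  obtain ⟨k, (yk : EtCoh.H A ((EtCoh.pull g).obj ((EtColim.torDiag F).obj k)) q), hyk⟩ := Concrete.isColimit_exists_rep
    ((EtColim.torDiag F ⋙ EtCoh.pull g) ⋙ EtCoh.HF A q)
    (isColimitOfPreserves (EtCoh.HF A q) (isColimitOfPreserves (EtCoh.pull g) hcc)) y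
  obtain ⟨a, ha, ha0⟩ := hkill k
  obtain ⟨e, he⟩ := hsurjk a ha q hq _ ha0 yk
  refine ⟨e.comp (Ext.mk₀ ((EtColim.torCocone F).ι.app k)) (add_zero q), ?_⟩
  exact (LocAcyc24.Hpull_nat g ((EtColim.torCocone F).ι.app k) q e).symm.trans ((congrArg (fun z : EtCoh.H A _ q =>
    z.comp (Ext.mk₀ ((EtCoh.pull g).map ((EtColim.torCocone F).ι.app k))) (add_zero q)) he).trans hyk)


variable {X Y Xb Yb : Scheme.{u}} [CompactSpace X] [QuasiSeparatedSpace X] [CompactSpace Y] [QuasiSeparatedSpace Y]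
  (h : Y ⟶ X) (p : Xb ⟶ X) (hb : Yb ⟶ Xb) (pY : Yb ⟶ Y) (w : hb ≫ p = pY ≫ h)
  (hp : Function.Surjective p.base) (L : Set ℕ) (n : ℕ) (hn : 1 ≤ n) (hhb : EtAcyc.CompN hb L n)
  (hbc : ∀ J : EtCoh.Ab Xb, EtAcyc.IsLTorsion L J → IsIso (EtCoh.baseChange0 p h pY hb w J))
  (hvan : ∀ J : EtCoh.Ab Xb, EtAcyc.IsLTorsion L J → EtFlasque24.Acyc J → ∀ i : ℕ, 1 ≤ i → i + 1 ≤ n →
    IsZero ((EtCoh.Rpush pY i).obj ((EtCoh.pull hb).obj J)))
include hp hn hhb hbc hvan

/-- Embedding into a sheaf for which the comparison holds. -/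
theorem exists_good_embed {F : EtCoh.Ab X} {a : ℕ} (ha : EtAcyc.PrimesIn L a) (h0 : a • 𝟙 F = 0) :
    ∃ (E : EtCoh.Ab X) (φ : F ⟶ E), Mono φ ∧ a • 𝟙 E = 0 ∧ (∀ q : ℕ, Subsingleton (EtCoh.H X E (q + 1))) ∧
      ∀ q : ℕ, q ≤ n → Function.Bijective (EtCore.Hpull h E q) := by
  haveI : (EtCoh.pull p).Additive := (EtCoh.pullPushAdj p).left_adjoint_additive
  haveI : (EtCoh.push p).Additive := (EtCoh.pullPushAdj p).right_adjoint_additive
  haveI : PreservesLimitsOfSize.{0, 0} (EtCoh.push p) := (EtCoh.pullPushAdj p).rightAdjoint_preservesLimits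
  haveI hmono : Mono ((EtCoh.pullPushAdj p).unit.app F) := mono_unit_of_surjective p hp F
  let Ω : Xb → Type u := fun x => SeparableClosure (Xb.residueField x)
  let π : (∐ fun x => Spec (CommRingCat.of (Ω x))) ⟶ Xb := Sigma.desc fun x => Embed24.pt Xb x (Ω x)
  let F' := (EtCoh.pull p).obj F
  let J := (EtCoh.push π).obj ((EtCoh.pull π).obj F')
  let u : F' ⟶ J := (EtCoh.pullPushAdj π).unit.app F'
  have hJ : EtFlasque24.Acyc J := EtFlasque24.acyc_push π (Embed24.acyc_pts Ω _)
  have hJ0 : a • 𝟙 J = 0 := by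
    haveI : (EtCoh.push π).Additive := (EtCoh.pullPushAdj π).right_adjoint_additive
    show a • 𝟙 ((EtCoh.push π).obj ((EtCoh.pull π).obj F')) = 0
    rw [← CategoryTheory.Functor.map_id, ← Functor.map_nsmul, nsmul_id_pull π (nsmul_id_pull p h0), Functor.map_zero]
  let φ : F ⟶ (EtCoh.push p).obj J := (EtCoh.pullPushAdj p).homEquiv F J u
  have hφ : Mono φ := by
    let ξ := π ≫ p
    have hξ : Function.Surjective ξ.base := fun x => by
      obtain ⟨y, rfl⟩ := hp x
      haveI : IsSepClosed (IsLocalRing.ResidueField (Ω y)) := EtDesc24.isSepClosed_residueField _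
      refine ⟨(closedPt (Ω y) ≫ Embed24.ptsι Ω y) default, ?_⟩
      show (π ≫ p) _ = p y
      rw [Scheme.Hom.comp_apply, ← Scheme.Hom.comp_apply (closedPt (Ω y) ≫ Embed24.ptsι Ω y) π, Category.assoc,
        Scheme.Hom.comp_apply]
      exact congrArg p ((congrArg (fun r : Spec (CommRingCat.of (Ω y)) ⟶ Xb => r (closedPt (Ω y) default))
        (Sigma.ι_desc _ y)).trans (Embed24.pt_apply Xb y (Ω y) _))
    haveI := mono_unit_of_surjective ξ hξ F
    let δ := (pullT π p ξ rfl).inv.app F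
    haveI hc : Mono (φ ≫ 
        (pc π p ξ rfl).hom.app ((EtCoh.pull π).obj F') ≫ (EtCoh.push ξ).map δ) := by
      have e0 : (EtCoh.pullPushAdj p).homEquiv F F' (𝟙 F') ≫ (EtCoh.push p).map u = φ := by
        rw [← Adjunction.homEquiv_naturality_right, Category.id_comp]
      have e1 : u = (EtCoh.pullPushAdj π).homEquiv F' _ (𝟙 ((EtCoh.pull π).obj F')) := by
        rw [Adjunction.homEquiv_unit, CategoryTheory.Functor.map_id]
        exact (Category.comp_id _).symm
      have e2 := transpose_comp π p ξ rfl (𝟙 F') (𝟙 ((EtCoh.pull π).obj F'))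
      rw [← e1, ← Category.assoc, e0] at e2
      rw [← Category.assoc, e2, ← Adjunction.homEquiv_naturality_right]
      rw [CategoryTheory.Functor.map_id]
      erw [Category.id_comp, Category.comp_id, Iso.hom_inv_id_app]
      rw [Adjunction.homEquiv_unit, CategoryTheory.Functor.map_id]
      erw [Category.comp_id]
      infer_instance
    exact mono_of_mono φ (
      (pc π p ξ rfl).hom.app ((EtCoh.pull π).obj F') ≫ (EtCoh.push ξ).map δ)
  have hJL := isLTorsion_of_nsmul L ha hJ0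
  haveI := hbc J hJL
  refine ⟨(EtCoh.push p).obj J, φ, hφ, ?_, fun q => ?_, fun q hq => ?_⟩
  · rw [← CategoryTheory.Functor.map_id, ← Functor.map_nsmul, hJ0, Functor.map_zero]
  · haveI : IsIso (EtCoh.top X).hom := inferInstanceAs (IsIso (𝟙 X))
    exact @Function.Injective.subsingleton _ _ _ (LocAcyc24.bijective_Hpull_of_isIso (EtCoh.top X).hom _ (q + 1)).1
      (EtFlasque24.acyc_push p hJ (EtCoh.top X) (q + 1) q.succ_pos)
  have hp' : Function.Bijective (EtLim.HofPush p J q) :=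
    (HofPush_bounded p q J fun i hi _ => isZero_Rpush_of_acyc p hJ i hi).1
  have hinj : Function.Injective (EtLim.HofPush pY ((EtCoh.pull hb).obj J) q) := by
    rcases Nat.lt_or_ge q n with hlt | hge
    · exact (HofPush_bounded pY q _ fun i hi hiq => hvan J hJL hJ i hi (by lia)).1.1
    · obtain ⟨m, rfl⟩ := Nat.exists_eq_add_one.2 hn
      obtain rfl : q = m + 1 := le_antisymm hq hge
      exact (HofPush_bounded pY m _ fun i hi him => hvan J hJL hJ i hi (by lia)).2
  have hcomp : Function.Bijective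
      (⇑(EtCore.Hpull hb J q) ∘ ⇑(EtLim.HofPush p J q)) := ((hhb J hJL).1 q hq).comp hp'
  rw [Hpull_comm h p hb pY w J q] at hcomp
  have hinj' : Function.Injective (⇑(EtLim.HofPush pY ((EtCoh.pull hb).obj J) q) ∘
      ⇑((EtCoh.HF Y q).map (EtCoh.baseChange0 p h pY hb w J))) :=
    hinj.comp (ConcreteCategory.bijective_of_isIso _).1
  refine ⟨Function.Injective.of_comp (f := ⇑(EtLim.HofPush pY ((EtCoh.pull hb).obj J) q) ∘
      ⇑((EtCoh.HF Y q).map (EtCoh.baseChange0 p h pY hb w J))) hcomp.1, fun y => ?_⟩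
  obtain ⟨x, hx⟩ := hcomp.2 (EtLim.HofPush pY _ q ((EtCoh.HF Y q).map (EtCoh.baseChange0 p h pY hb w J) y))
  exact ⟨x, hinj' hx⟩

theorem injective_killed_descent {a : ℕ} (ha : EtAcyc.PrimesIn L a) : ∀ q : ℕ, q ≤ n + 1 → ∀ F : EtCoh.Ab X,
    a • 𝟙 F = 0 → Function.Injective (EtCore.Hpull h F q) := by
  intro q
  induction q with
  | zero =>
    intro _ F h0
    obtain ⟨E, φ, hφ, -, -, hb'⟩ := exists_good_embed h p hb pY w hp L n hn hhb hbc hvan ha h0
    exact injective_zero_of_embed h φ (hb' 0 (Nat.zero_le n)).1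
  | succ m ih =>
    intro hm F h0
    rw [injective_iff_map_eq_zero]
    intro x hx
    obtain ⟨E, φ, hφ, hE0, hsub, hb'⟩ := exists_good_embed h p hb pY w hp L n hn hhb hbc hvan ha h0
    have hQ0 : a • 𝟙 (cokernel φ) = 0 := by
      rw [← cancel_epi (cokernel.π φ), comp_zero, Preadditive.comp_nsmul, Category.comp_id]
      calc a • cokernel.π φ = (a • 𝟙 E) ≫ cokernel.π φ := by rw [Preadditive.nsmul_comp, Category.id_comp]
        _ = 0 := by rw [hE0, zero_comp]
    haveI := hsub m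
    exact eq_zero_of_embed h φ m (hb' m (by lia)).2 (ih (by lia) _ hQ0) x (Subsingleton.elim _ _) hx

theorem surjective_killed_descent {a : ℕ} (ha : EtAcyc.PrimesIn L a) : ∀ q : ℕ, q ≤ n → ∀ F : EtCoh.Ab X,
    a • 𝟙 F = 0 → Function.Surjective (EtCore.Hpull h F q) := by
  intro q
  induction q using Nat.strong_induction_on with
  | _ q ih =>
    intro hq F h0
    obtain ⟨E, φ, hφ, hE0, -, hb'⟩ := exists_good_embed h p hb pY w hp L n hn hhb hbc hvan ha h0
    have hQ0 : a • 𝟙 (cokernel φ) = 0 := by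
      rw [← cancel_epi (cokernel.π φ), comp_zero, Preadditive.comp_nsmul, Category.comp_id]
      calc a • cokernel.π φ = (a • 𝟙 E) ≫ cokernel.π φ := by rw [Preadditive.nsmul_comp, Category.id_comp]
        _ = 0 := by rw [hE0, zero_comp]
    exact surjective_of_embed h φ q (hb' q hq).2
      (injective_killed_descent h p hb pY w hp L n hn hhb hbc hvan ha q (by lia) _ hQ0) fun m e => ih m (by lia) (by lia) _ hQ0

/-- The comparison descends. -/
theorem compN_of_descent : EtAcyc.CompN h L n :=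
  compN_of_killed h L n (fun _ ha => injective_killed_descent h p hb pY w hp L n hn hhb hbc hvan ha)
    (fun _ ha => surjective_killed_descent h p hb pY w hp L n hn hhb hbc hvan ha)

end Groth.Agent.EtAcyc24
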