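import Groth.Agent.Lib.EtAcyc24.BCTransfer
import Groth.Agent.Lib.SitePAdj16.PartialAdj
import Groth.Agent.Lib.ProperFormalH7.RqIso
import Groth.Agent.Lib.TwistBC9.Hd
import Groth.Prelude.Def_EtBCD

/-!
# The derived base change morphism on a sheaf in degree zero
-/

set_option autoImplicit false
set_option linter.style.haveILetI false
set_option linter.unusedSectionVars false
set_option backward.isDefEq.respectTransparency false
set_option backward.isDefEq.respectTransparency.types false

universe u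

open CategoryTheory CategoryTheory.Limits AlgebraicGeometry Opposite HomologicalComplex

namespace Groth.Agent.EtAcyc24

attribute [local instance] HasDerivedCategory.standard

open Groth.Agent.EtStalk

section Zero

variable {A : Type*} [Category A] [Abelian A] {D : Type*} [Category D] [Abelian D]

/-- A left exact functor preserves being a resolution in degree zero. -/
theorem quasiIsoAt_zero_map (F : A ⥤ D) [F.Additive] [PreservesFiniteLimits F] {X : A} {I : CochainComplex A ℤ}
    (hI : ∀ i < 0, IsZero (I.X i)) (φ : (single A (ComplexShape.up ℤ) 0).obj X ⟶ I) [_root_.QuasiIso φ] :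
    QuasiIsoAt ((F.mapHomologicalComplex (ComplexShape.up ℤ)).map φ) 0 := by
  have h := (quasiIsoAt_iff' φ (-1) 0 1 (by simp) (by simp)).1 inferInstance
  rw [ShortComplex.quasiIso_iff_of_zeros] at h
  rotate_left
  · exact (isZero_single_obj_X (ComplexShape.up ℤ) 0 X (-1) (by lia)).eq_of_src _ _
  · exact (isZero_single_obj_X (ComplexShape.up ℤ) 0 X 1 (by lia)).eq_of_tgt _ _
  · exact (hI (-1) (by lia)).eq_of_src _ _
  obtain ⟨hex, hmono⟩ := h
  rw [quasiIsoAt_iff' _ (-1) 0 1 (by simp) (by simp), ShortComplex.quasiIso_iff_of_zeros]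
  · haveI : Mono (φ.f 0) := hmono
    exact ⟨hex.map_of_mono_of_preservesKernel F hmono inferInstance, inferInstanceAs (Mono (F.map (φ.f 0)))⟩
  · exact (F.map_isZero (isZero_single_obj_X (ComplexShape.up ℤ) 0 X (-1) (by lia))).eq_of_src _ _
  · exact (F.map_isZero (isZero_single_obj_X (ComplexShape.up ℤ) 0 X 1 (by lia))).eq_of_tgt _ _
  · exact (F.map_isZero (hI (-1) (by lia))).eq_of_src _ _

/-- Composites of the induced functors on homotopy categories. -/
theorem compIso_refl_inv {A B C : Type*} [Category A] [Preadditive A] [Category B] [Preadditive B] [Category C]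
    [Preadditive C] (F : A ⥤ B) [F.Additive] (G : B ⥤ C) [G.Additive] (K : HomologicalComplex A (ComplexShape.up ℤ)) :
    (Functor.mapHomotopyCategoryCompIso (Iso.refl (F ⋙ G)) (ComplexShape.up ℤ)).inv.app
      ((HomotopyCategory.quotient A (ComplexShape.up ℤ)).obj K) = 𝟙 _ := by
  have e : (Functor.mapHomologicalComplexCompIso (Iso.refl (F ⋙ G)) (ComplexShape.up ℤ)).inv.app K = 𝟙 _ := by
    ext i
    simp [Functor.mapHomologicalComplexCompIso]
    rfl
  show (HomotopyCategory.quotient C (ComplexShape.up ℤ)).map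
    ((Functor.mapHomologicalComplexCompIso (Iso.refl (F ⋙ G)) (ComplexShape.up ℤ)).inv.app K) = _
  rw [e, CategoryTheory.Functor.map_id]
  rfl

end Zero

section Push

variable {A B : Scheme.{u}} (f : A ⟶ B) [DCoh.HasRpushEt A f]

/-- The unit of the derived direct image. -/
noncomputable abbrev dUnit : DCoh.pushEtKh A f ⟶ DerivedCategory.Qh ⋙ DCoh.RpushEt A f :=
  (DCoh.pushEtKh A f).totalRightDerivedUnit DerivedCategory.Qh (HomotopyCategory.quasiIso (EtCoh.Ab A) (ComplexShape.up ℤ))

/-- The identification of the two localizations. -/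
noncomputable abbrev qI {X : Scheme.{u}} (K : CochainComplex (EtCoh.Ab X) ℤ) :
    DerivedCategory.Qh.obj ((HomotopyCategory.quotient (EtCoh.Ab X) (ComplexShape.up ℤ)).obj K) ≅ DerivedCategory.Q.obj K :=
  (DerivedCategory.quotientCompQhIso (EtCoh.Ab X)).app K

/-- The direct image on complexes. -/
noncomputable abbrev pcx := (EtCoh.push f).mapHomologicalComplex (ComplexShape.up ℤ)

lemma dUnit_eq (C : CochainComplex (EtCoh.Ab A) ℤ) :
    (dUnit f).app ((HomotopyCategory.quotient (EtCoh.Ab A) (ComplexShape.up ℤ)).obj C) =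
      (qI ((pcx f).obj C)).hom ≫ (SitePAdj.αQ (dUnit f)).app C ≫ (DCoh.RpushEt A f).map (qI C).inv := by
  simp [SitePAdj.αQ, ← Functor.map_comp]
  erw [CategoryTheory.Functor.map_id, Category.id_comp]

theorem isIso_H0_αQ_single (F : EtCoh.Ab A) :
    IsIso ((DerivedCategory.homologyFunctor (EtCoh.Ab B) 0).map
      ((SitePAdj.αQ (dUnit f)).app ((single (EtCoh.Ab A) (ComplexShape.up ℤ) 0).obj F))) := by
  haveI : PreservesLimitsOfSize.{0, 0} (EtCoh.push f) := (EtCoh.pullPushAdj f).rightAdjoint_preservesLimits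
  let I := injectiveResolution F
  haveI := ProperFormalH7.isIso_αQ_res (dUnit f) KInjLib.enoughKInj_of_grothendieck I
  haveI : IsIso (DerivedCategory.Q.map I.ι') := (DerivedCategory.isIso_Q_map_iff_quasiIso _ I.ι').2 inferInstance
  let φ : (single (EtCoh.Ab A) (ComplexShape.up ℤ) 0).obj F ⟶ I.cochainComplex := I.ι'
  haveI : _root_.QuasiIso φ := inferInstanceAs (_root_.QuasiIso I.ι')
  haveI hq : QuasiIsoAt ((pcx f).map φ) 0 :=
    quasiIsoAt_zero_map (EtCoh.push f) (fun i hi => I.cochainComplex.isZero_of_isStrictlyGE 0 i hi) φ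
  haveI : IsIso ((DerivedCategory.homologyFunctor (EtCoh.Ab B) 0).map (DerivedCategory.Q.map ((pcx f).map φ))) := by
    rw [quasiIsoAt_iff_isIso_homologyMap] at hq
    exact (NatIso.isIso_map_iff (DerivedCategory.homologyFunctorFactors (EtCoh.Ab B) 0) ((pcx f).map φ)).2 hq
  have e := (SitePAdj.αQ (dUnit f)).naturality φ
  haveI : IsIso ((DCoh.RpushEt A f).map (DerivedCategory.Q.map φ)) := inferInstanceAs (IsIso ((DCoh.RpushEt A f).map (DerivedCategory.Q.map I.ι')))
  let H := DerivedCategory.homologyFunctor (EtCoh.Ab B) 0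
  have e' : H.map (DerivedCategory.Q.map ((pcx f).map φ)) ≫ H.map ((SitePAdj.αQ (dUnit f)).app I.cochainComplex) =
      H.map ((SitePAdj.αQ (dUnit f)).app ((single (EtCoh.Ab A) (ComplexShape.up ℤ) 0).obj F)) ≫
        H.map ((DCoh.RpushEt A f).map (DerivedCategory.Q.map φ)) := by
    rw [← Functor.map_comp, ← Functor.map_comp]
    exact congrArg H.map e
  haveI : IsIso (H.map ((SitePAdj.αQ (dUnit f)).app ((single (EtCoh.Ab A) (ComplexShape.up ℤ) 0).obj F)) ≫
      H.map ((DCoh.RpushEt A f).map (DerivedCategory.Q.map φ))) := e' ▸ inferInstance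
  exact IsIso.of_isIso_comp_right _ (H.map ((DCoh.RpushEt A f).map (DerivedCategory.Q.map φ)))

theorem adapted_push (X : EtCoh.Ab B) : SitePAdj.Adapted.{u + 1} (EtCoh.push f) X := fun J hJ k => by
  haveI := hJ
  haveI := injective_push f J
  exact subsingleton_of_forall_eq 0 fun x => Abelian.Ext.eq_zero_of_injective x

theorem isQuasiLiftable_push :
    _root_.PCoh.IsQuasiLiftable (SitePAdj.Adapted.{u + 1} (EtCoh.push f) : ObjectProperty (EtCoh.Ab B)) :=
  fun E _ u hu _ => ⟨E, 𝟙 E, adapted_push f E, by simpa using hu⟩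

variable [PreservesFiniteLimits (EtCoh.pull f)] (adj : EtBC.pullD f ⊣ DCoh.RpushEt A f)

/-- The comparison of the given adjunction with the inverse image of a sheaf. -/
noncomputable def θ (G : EtCoh.Ab B) :
    (EtBC.pullD f).obj ((DerivedCategory.singleFunctor (EtCoh.Ab B) 0).obj G) ⟶
      (DerivedCategory.singleFunctor (EtCoh.Ab A) 0).obj ((EtCoh.pull f).obj G) :=
  (adj.homEquiv _ _).symm (SitePAdj.unitClass (EtCoh.pullPushAdj f) (dUnit f) G 0)

theorem isIso_θ (G : EtCoh.Ab B) : IsIso (θ f adj G) := by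
  haveI : (EtCoh.pull f).Additive := (EtCoh.pullPushAdj f).left_adjoint_additive
  rw [isIso_iff_coyoneda_map_bijective]
  intro K
  have hb := SitePAdj.bijective_transpose (EtCoh.pullPushAdj f) (dUnit f) KInjLib.enoughKInj_of_grothendieck
    (isQuasiLiftable_push f) (adapted_push f G) 0 K
  convert (adj.homEquiv _ K).symm.bijective.comp hb using 1
  funext g
  show θ f adj G ≫ g = (adj.homEquiv _ K).symm (SitePAdj.unitClass (EtCoh.pullPushAdj f) (dUnit f) G 0 ≫ _)
  rw [Adjunction.homEquiv_naturality_right_symm]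
  rfl

end Push

variable {X Y Xb Yb : Scheme.{u}} (h : Y ⟶ X) (p : Xb ⟶ X) (hb : Yb ⟶ Xb) (pY : Yb ⟶ Y) (w : hb ≫ p = pY ≫ h)
  [PreservesFiniteLimits (EtCoh.pull h)] [PreservesFiniteLimits (EtCoh.pull hb)]
  [DCoh.HasRpushEt Xb p] [DCoh.HasRpushEt Yb pY] [DCoh.HasRpushEt Y h] (adj : EtBC.pullD h ⊣ DCoh.RpushEt Y h)

local notation "σ" => single (EtCoh.Ab _) (ComplexShape.up ℤ) 0

/-- The map of complexes underlying the base change morphism. -/
noncomputable def k0 (J : EtCoh.Ab Xb) :
    (single (EtCoh.Ab Y) (ComplexShape.up ℤ) 0).obj ((EtCoh.pull h).obj ((EtCoh.push p).obj J)) ⟶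
      (pcx pY).obj (((EtCoh.pull hb).mapHomologicalComplex (ComplexShape.up ℤ)).obj
        ((single (EtCoh.Ab Xb) (ComplexShape.up ℤ) 0).obj J)) :=
  (single (EtCoh.Ab Y) (ComplexShape.up ℤ) 0).map (EtCoh.baseChange0 p h pY hb w J) ≫
    (singleMapHomologicalComplex (EtCoh.push pY) (ComplexShape.up ℤ) 0).inv.app ((EtCoh.pull hb).obj J) ≫
    (pcx pY).map ((singleMapHomologicalComplex (EtCoh.pull hb) (ComplexShape.up ℤ) 0).inv.app J)

lemma pushToPushPull_single (J : EtCoh.Ab Xb) :
    (NatTrans.mapHomologicalComplex (EtBC.pushToPushPull p h pY hb w) (ComplexShape.up ℤ)).app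
        ((single (EtCoh.Ab Xb) (ComplexShape.up ℤ) 0).obj J) =
      (singleMapHomologicalComplex (EtCoh.push p) (ComplexShape.up ℤ) 0).hom.app J ≫
        (single (EtCoh.Ab X) (ComplexShape.up ℤ) 0).map ((EtCoh.pullPushAdj h).unit.app ((EtCoh.push p).obj J)) ≫
        (singleMapHomologicalComplex (EtCoh.push h) (ComplexShape.up ℤ) 0).inv.app _ ≫
        (pcx h).map (k0 h p hb pY w J) := by
  rw [← cancel_epi ((singleMapHomologicalComplex (EtCoh.push p) (ComplexShape.up ℤ) 0).inv.app J), Iso.inv_hom_id_app_assoc]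
  refine from_single_hom_ext ?_
  have hP : (EtBC.pushToPushPull p h pY hb w).app J = (EtCoh.pullPushAdj h).unit.app ((EtCoh.push p).obj J) ≫
      (EtCoh.push h).map (EtCoh.baseChange0 p h pY hb w J) := by
    refine Eq.trans ?_ ((EtCoh.pullPushAdj h).homEquiv_unit _ _ _)
    rw [EtCoh.baseChange0, Equiv.apply_symm_apply]
    simp [EtBC.pushToPushPull]
  simp [k0, single_map_f_self, singleMapHomologicalComplex_hom_app_self, singleMapHomologicalComplex_inv_app_self]
  rw [hP, Category.assoc]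
  simp only [← Functor.map_comp_assoc, Iso.inv_hom_id, Iso.inv_hom_id_assoc, CategoryTheory.Functor.map_id, Category.id_comp,
    ← Functor.map_comp]

/-- The tail of the base change morphism. -/
noncomputable def bcTail (J : EtCoh.Ab Xb) :
    DerivedCategory.Q.obj ((pcx pY).obj (((EtCoh.pull hb).mapHomologicalComplex (ComplexShape.up ℤ)).obj
        ((single (EtCoh.Ab Xb) (ComplexShape.up ℤ) 0).obj J))) ⟶
      (DCoh.RpushEt Yb pY).obj ((EtBC.pullD hb).obj (DerivedCategory.Qh.obj
        ((HomotopyCategory.quotient (EtCoh.Ab Xb) (ComplexShape.up ℤ)).obj ((single (EtCoh.Ab Xb) (ComplexShape.up ℤ) 0).obj J)))) :=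
  (qI _).inv ≫
    (dUnit pY).app (((EtCoh.pull hb).mapHomotopyCategory (ComplexShape.up ℤ)).obj
        ((HomotopyCategory.quotient (EtCoh.Ab Xb) (ComplexShape.up ℤ)).obj ((single (EtCoh.Ab Xb) (ComplexShape.up ℤ) 0).obj J))) ≫
    (DCoh.RpushEt Yb pY).map ((EtCoh.pull hb).mapDerivedCategoryFactorsh.inv.app _)

lemma bcUnit_single (J : EtCoh.Ab Xb) :
    (EtBC.bcUnit p h pY hb w).app
        ((HomotopyCategory.quotient (EtCoh.Ab Xb) (ComplexShape.up ℤ)).obj ((single (EtCoh.Ab Xb) (ComplexShape.up ℤ) 0).obj J)) =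
      ((qI ((pcx p).obj ((single (EtCoh.Ab Xb) (ComplexShape.up ℤ) 0).obj J))).hom ≫
        DerivedCategory.Q.map ((singleMapHomologicalComplex (EtCoh.push p) (ComplexShape.up ℤ) 0).hom.app J)) ≫
      SitePAdj.transpose (EtCoh.pullPushAdj h) (dUnit h) (DerivedCategory.Q.map (k0 h p hb pY w J) ≫ bcTail hb pY J) := by
  let C₁ := ((EtCoh.pull hb).mapHomologicalComplex (ComplexShape.up ℤ)).obj ((single (EtCoh.Ab Xb) (ComplexShape.up ℤ) 0).obj J)
  have e1 : (EtBC.bcUnit p h pY hb w).app
        ((HomotopyCategory.quotient (EtCoh.Ab Xb) (ComplexShape.up ℤ)).obj ((single (EtCoh.Ab Xb) (ComplexShape.up ℤ) 0).obj J)) =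
      DerivedCategory.Qh.map ((HomotopyCategory.quotient (EtCoh.Ab X) (ComplexShape.up ℤ)).map
        ((NatTrans.mapHomologicalComplex (EtBC.pushToPushPull p h pY hb w) (ComplexShape.up ℤ)).app
          ((single (EtCoh.Ab Xb) (ComplexShape.up ℤ) 0).obj J))) ≫
        (dUnit h).app ((HomotopyCategory.quotient (EtCoh.Ab Y) (ComplexShape.up ℤ)).obj ((pcx pY).obj C₁)) ≫
        (DCoh.RpushEt Y h).map ((dUnit pY).app ((HomotopyCategory.quotient (EtCoh.Ab Yb) (ComplexShape.up ℤ)).obj C₁) ≫
          (DCoh.RpushEt Yb pY).map ((EtCoh.pull hb).mapDerivedCategoryFactorsh.inv.app _)) := by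
    simp [EtBC.bcUnit, EtBC.pushToPushPullH]
    erw [compIso_refl_inv]
    simp only [CategoryTheory.Functor.map_id]
    erw [Category.id_comp, CategoryTheory.Functor.map_id, Category.id_comp]
    rfl
  rw [e1, dUnit_eq h]
  simp only [bcTail, SitePAdj.transpose_comp]
  erw [SitePAdj.transpose_Q_map]
  have e2 := DerivedCategory.quotientCompQhIso_hom_naturality
    ((NatTrans.mapHomologicalComplex (EtBC.pushToPushPull p h pY hb w) (ComplexShape.up ℤ)).app
      ((single (EtCoh.Ab Xb) (ComplexShape.up ℤ) 0).obj J))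
  simp only [Category.assoc]
  erw [reassoc_of% e2, pushToPushPull_single]
  simp only [Functor.map_comp, Category.assoc]
  rfl

variable (J : EtCoh.Ab Xb)

/-- If the derived base change morphism is an isomorphism on `H⁰` then so is the base change morphism. -/
theorem isIso_baseChange0_of_bcMap
    (hiso : IsIso ((DerivedCategory.homologyFunctor (EtCoh.Ab Y) 0).map (EtBC.bcMap p h pY hb w adj (EtBC.single Xb J)))) :
    IsIso (EtCoh.baseChange0 p h pY hb w J) := by
  let K := (HomotopyCategory.quotient (EtCoh.Ab Xb) (ComplexShape.up ℤ)).obj ((single (EtCoh.Ab Xb) (ComplexShape.up ℤ) 0).obj J)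
  let H := DerivedCategory.homologyFunctor (EtCoh.Ab Y) 0
  let e : DerivedCategory.Qh.obj K ≅ EtBC.single Xb J := qI _
  haveI hK : IsIso (H.map (EtBC.bcMap p h pY hb w adj (DerivedCategory.Qh.obj K))) := by
    have hn : (EtBC.pullD h).map ((DCoh.RpushEt Xb p).map e.hom) ≫ EtBC.bcMap p h pY hb w adj (EtBC.single Xb J) =
        EtBC.bcMap p h pY hb w adj (DerivedCategory.Qh.obj K) ≫ (DCoh.RpushEt Yb pY).map ((EtBC.pullD hb).map e.hom) := by
      simp only [EtBC.bcMap]
      rw [← Adjunction.homEquiv_naturality_left_symm, ← Adjunction.homEquiv_naturality_right_symm]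
      exact congrArg _ ((EtBC.bcAdj p h pY hb w).naturality e.hom)
    haveI : IsIso (H.map (EtBC.bcMap p h pY hb w adj (DerivedCategory.Qh.obj K)) ≫
        H.map ((DCoh.RpushEt Yb pY).map ((EtBC.pullD hb).map e.hom))) := by
      rw [← Functor.map_comp, ← hn, Functor.map_comp]
      exact IsIso.comp_isIso
    exact IsIso.of_isIso_comp_right _ (H.map ((DCoh.RpushEt Yb pY).map ((EtBC.pullD hb).map e.hom)))
  let v : DerivedCategory.Qh.obj (((EtCoh.push p).mapHomotopyCategory (ComplexShape.up ℤ)).obj K) ⟶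
      (DCoh.RpushEt Xb p).obj (DerivedCategory.Qh.obj K) := (dUnit p).app K
  have hfac : v ≫ (EtBC.bcAdj p h pY hb w).app (DerivedCategory.Qh.obj K) = (EtBC.bcUnit p h pY hb w).app K :=
    Functor.rightDerived_fac_app _ _ _ _ _ _
  let pre : DerivedCategory.Qh.obj (((EtCoh.push p).mapHomotopyCategory (ComplexShape.up ℤ)).obj K) ⟶
      (DerivedCategory.singleFunctor (EtCoh.Ab X) 0).obj ((EtCoh.push p).obj J) :=
    (qI ((pcx p).obj ((single (EtCoh.Ab Xb) (ComplexShape.up ℤ) 0).obj J))).hom ≫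
      DerivedCategory.Q.map ((singleMapHomologicalComplex (EtCoh.push p) (ComplexShape.up ℤ) 0).hom.app J)
  haveI : IsIso pre := by dsimp [pre]; infer_instance
  let kk : (DerivedCategory.singleFunctor (EtCoh.Ab Y) 0).obj ((EtCoh.pull h).obj ((EtCoh.push p).obj J)) ⟶ _ :=
    DerivedCategory.Q.map (k0 h p hb pY w J)
  have key : (EtBC.pullD h).map v ≫ EtBC.bcMap p h pY hb w adj (DerivedCategory.Qh.obj K) =
      (EtBC.pullD h).map pre ≫ θ h adj _ ≫ kk ≫ bcTail hb pY J := by
    simp only [EtBC.bcMap, θ]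
    rw [← Adjunction.homEquiv_naturality_left_symm, hfac, ← Adjunction.homEquiv_naturality_right_symm,
      ← Adjunction.homEquiv_naturality_left_symm]
    exact congrArg _ (bcUnit_single h p hb pY w J)
  haveI := isIso_θ h adj ((EtCoh.push p).obj J)
  haveI hv : IsIso (H.map ((EtBC.pullD h).map v)) := by
    haveI := isIso_H0_αQ_single p J
    haveI : IsIso ((DerivedCategory.homologyFunctor (EtCoh.Ab X) 0).map v) := by
      simp only [v, K, dUnit_eq p, Functor.map_comp]
      infer_instance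
    exact (NatIso.isIso_map_iff (TwistBC9.hdMapIso (EtCoh.pull h) 0) v).2
      (inferInstanceAs (IsIso ((EtCoh.pull h).map ((DerivedCategory.homologyFunctor (EtCoh.Ab X) 0).map v))))
  haveI htail : IsIso (H.map (bcTail hb pY J)) := by
    let C₁ := ((EtCoh.pull hb).mapHomologicalComplex (ComplexShape.up ℤ)).obj ((single (EtCoh.Ab Xb) (ComplexShape.up ℤ) 0).obj J)
    haveI : IsIso (H.map ((SitePAdj.αQ (dUnit pY)).app C₁)) := by
      let c : C₁ ≅ (single (EtCoh.Ab Yb) (ComplexShape.up ℤ) 0).obj ((EtCoh.pull hb).obj J) :=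
        (singleMapHomologicalComplex (EtCoh.pull hb) (ComplexShape.up ℤ) 0).app J
      haveI := isIso_H0_αQ_single pY ((EtCoh.pull hb).obj J)
      haveI : IsIso (H.map (((pcx pY) ⋙ DerivedCategory.Q).map c.hom) ≫
          H.map ((SitePAdj.αQ (dUnit pY)).app ((single (EtCoh.Ab Yb) (ComplexShape.up ℤ) 0).obj ((EtCoh.pull hb).obj J)))) :=
        inferInstance
      haveI : IsIso (H.map ((SitePAdj.αQ (dUnit pY)).app C₁) ≫ H.map ((DerivedCategory.Q ⋙ DCoh.RpushEt Yb pY).map c.hom)) := by
        rw [← Functor.map_comp, ← NatTrans.naturality, Functor.map_comp]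
        infer_instance
      exact IsIso.of_isIso_comp_right _ (H.map ((DerivedCategory.Q ⋙ DCoh.RpushEt Yb pY).map c.hom))
    haveI : IsIso (H.map ((dUnit pY).app ((HomotopyCategory.quotient (EtCoh.Ab Yb) (ComplexShape.up ℤ)).obj C₁))) := by
      simp only [dUnit_eq pY, Functor.map_comp]
      infer_instance
    simp only [bcTail, Functor.map_comp]
    exact @IsIso.comp_isIso _ _ _ _ _ _ _ inferInstance (@IsIso.comp_isIso _ _ _ _ _ _ _ this inferInstance)
  haveI : IsIso ((H.map ((EtBC.pullD h).map pre) ≫ H.map (θ h adj _)) ≫ H.map kk ≫ H.map (bcTail hb pY J)) := by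
    simp only [Category.assoc, ← Functor.map_comp, ← key]
    rw [Functor.map_comp]
    infer_instance
  haveI : IsIso (H.map kk ≫ H.map (bcTail hb pY J)) :=
    IsIso.of_isIso_comp_left (H.map ((EtBC.pullD h).map pre) ≫ H.map (θ h adj _)) _
  haveI hkk : IsIso (H.map kk) := IsIso.of_isIso_comp_right _ (H.map (bcTail hb pY J))
  let s := (single (EtCoh.Ab Y) (ComplexShape.up ℤ) 0).map (EtCoh.baseChange0 p h pY hb w J)
  haveI : IsIso (H.map (DerivedCategory.Q.map s)) := by
    have h' : IsIso (H.map (DerivedCategory.Q.map s) ≫ H.map (DerivedCategory.Q.map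
        ((singleMapHomologicalComplex (EtCoh.push pY) (ComplexShape.up ℤ) 0).inv.app ((EtCoh.pull hb).obj J) ≫
          (pcx pY).map ((singleMapHomologicalComplex (EtCoh.pull hb) (ComplexShape.up ℤ) 0).inv.app J)))) := by
      rw [← Functor.map_comp, ← Functor.map_comp]
      exact hkk
    exact IsIso.of_isIso_comp_right _ (H.map (DerivedCategory.Q.map
        ((singleMapHomologicalComplex (EtCoh.push pY) (ComplexShape.up ℤ) 0).inv.app ((EtCoh.pull hb).obj J) ≫
          (pcx pY).map ((singleMapHomologicalComplex (EtCoh.pull hb) (ComplexShape.up ℤ) 0).inv.app J))))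
  haveI : IsIso (homologyMap s 0) :=
    (NatIso.isIso_map_iff (DerivedCategory.homologyFunctorFactors (EtCoh.Ab Y) 0) s).1
      (inferInstanceAs (IsIso (H.map (DerivedCategory.Q.map s))))
  exact (NatIso.isIso_map_iff (homologyFunctorSingleIso (EtCoh.Ab Y) (ComplexShape.up ℤ) 0)
    (EtCoh.baseChange0 p h pY hb w J)).1 (inferInstanceAs (IsIso (homologyMap s 0)))

/-- Vanishing of the higher direct images after base change. -/
theorem isZero_Rpush_of_bcMap (i : ℕ) (hz : IsZero ((EtCoh.Rpush p i).obj J))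
    (hiso : IsIso ((DerivedCategory.homologyFunctor (EtCoh.Ab Y) (i : ℤ)).map
      (EtBC.bcMap p h pY hb w adj (EtBC.single Xb J)))) :
    IsZero ((EtCoh.Rpush pY i).obj ((EtCoh.pull hb).obj J)) := by
  haveI : (EtCoh.pull h).Additive := (EtCoh.pullPushAdj h).left_adjoint_additive
  have h1 : IsZero ((DerivedCategory.homologyFunctor (EtCoh.Ab Y) (i : ℤ)).obj
      ((EtBC.pullD h).obj ((DCoh.RpushEt Xb p).obj (EtBC.single Xb J)))) :=
    IsZero.of_iso ((EtCoh.pull h).map_isZero (IsZero.of_iso hz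
      ((ProperFormalH7.homologySingleIso (dUnit p) KInjLib.enoughKInj_of_grothendieck i).app J)))
      ((TwistBC9.hdMapIso (EtCoh.pull h) (i : ℤ)).app _)
  have h2 := IsZero.of_iso h1 (@asIso _ _ _ _ _ hiso).symm
  exact IsZero.of_iso h2
    (((DerivedCategory.homologyFunctor (EtCoh.Ab Y) (i : ℤ)).mapIso ((DCoh.RpushEt Yb pY).mapIso
        (((EtCoh.pull hb).mapDerivedCategorySingleFunctor 0).app J))) ≪≫
      (ProperFormalH7.homologySingleIso (dUnit pY) KInjLib.enoughKInj_of_grothendieck i).app ((EtCoh.pull hb).obj J)).symm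

end Groth.Agent.EtAcyc24
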