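import Groth.Prelude.Def_EtAcyc
import Mathlib.AlgebraicGeometry.Morphisms.Integral
import Mathlib.AlgebraicGeometry.Morphisms.Etale
import Mathlib.CategoryTheory.Presentable.Directed
import Mathlib.CategoryTheory.Limits.Types.Filtered
import Mathlib.Algebra.Category.Ring.FilteredColimits
import Mathlib.RingTheory.Localization.Integral

/-!
# An algebraic geometric point as a limit of schemes integral over étale neighbourhoods
-/

set_option autoImplicit false
set_option linter.style.haveILetI false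
set_option linter.unusedSectionVars false
set_option backward.isDefEq.respectTransparency.types false

universe u

open CategoryTheory CategoryTheory.Limits AlgebraicGeometry Opposite

namespace Groth.Agent.EtAcyc24

/-- A morphism as a limit of affine schemes, each integral over a scheme étale over the target. -/
structure GeomPtSys {P Y : Scheme.{u}} (σ : P ⟶ Y) where
  ι : Type u
  [pre : Preorder ι]
  [dir : IsDirected ι (· ≤ ·)]
  [ne : Nonempty ι]
  T : ιᵒᵖ ⥤ Scheme.{u}
  isAffine : ∀ i, IsAffine (T.obj i)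
  π : (Functor.const ιᵒᵖ).obj P ⟶ T
  isLimit : IsLimit (Cone.mk P π)
  b : ∀ i : ιᵒᵖ, T.obj i ⟶ Y
  hb : ∀ ⦃i j : ιᵒᵖ⦄ (f : i ⟶ j), T.map f ≫ b j = b i
  hπ : ∀ i : ιᵒᵖ, π.app i ≫ b i = σ
  factor : ∀ i : ιᵒᵖ, ∃ (W : Y.Etale) (p : T.obj i ⟶ W.left), IsIntegralHom p ∧ p ≫ W.hom = b i

attribute [instance] GeomPtSys.pre GeomPtSys.dir GeomPtSys.ne GeomPtSys.isAffine

section Affine

variable (A Ω : Type u) [CommRing A] [Field Ω] [Algebra A Ω]

/-- The denominators. -/
def Den : Type u := {f : A // algebraMap A Ω f ≠ 0}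

instance : Preorder (Den A Ω) where
  le a b := a.1 ∣ b.1
  le_refl a := dvd_refl a.1
  le_trans a b c h h' := dvd_trans h h'

instance : IsDirected (Den A Ω) (· ≤ ·) :=
  ⟨fun a b => ⟨⟨a.1 * b.1, by rw [map_mul]; exact mul_ne_zero a.2 b.2⟩, dvd_mul_right a.1 b.1, dvd_mul_left b.1 a.1⟩⟩

instance : Nonempty (Den A Ω) := ⟨⟨1, by rw [map_one]; exact one_ne_zero⟩⟩

variable {A Ω}

/-- The elements integral away from a denominator. -/
def intAway (f : Den A Ω) : Subalgebra A Ω where
  carrier := {x | ∃ n : ℕ, IsIntegral A (x * algebraMap A Ω f.1 ^ n)}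
  mul_mem' := by
    rintro x y ⟨n, hn⟩ ⟨m, hm⟩
    exact ⟨n + m, by rw [pow_add, mul_mul_mul_comm]; exact hn.mul hm⟩
  add_mem' := by
    rintro x y ⟨n, hn⟩ ⟨m, hm⟩
    refine ⟨n + m, ?_⟩
    have e : (x + y) * algebraMap A Ω f.1 ^ (n + m) =
        x * algebraMap A Ω f.1 ^ n * algebraMap A Ω f.1 ^ m +
          y * algebraMap A Ω f.1 ^ m * algebraMap A Ω f.1 ^ n := by ring
    rw [e]
    exact (hn.mul (isIntegral_algebraMap.pow m)).add (hm.mul (isIntegral_algebraMap.pow n))
  algebraMap_mem' r := ⟨0, by rw [pow_zero, mul_one]; exact isIntegral_algebraMap⟩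

lemma intAway_mono {a b : Den A Ω} (h : a ≤ b) : intAway a ≤ intAway b := by
  obtain ⟨c, hc⟩ := (h : a.1 ∣ b.1)
  rintro x ⟨n, hn⟩
  refine ⟨n, ?_⟩
  rw [hc, map_mul, mul_pow, ← mul_assoc]
  exact hn.mul (isIntegral_algebraMap.pow n)

/-- The coordinate rings. -/
noncomputable def ringSys : Den A Ω ⥤ CommRingCat.{u} where
  obj f := CommRingCat.of (intAway f)
  map {a b} h := CommRingCat.ofHom (Subalgebra.inclusion (intAway_mono (leOfHom h))).toRingHom

lemma exists_integral_away (f : Den A Ω) :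
    ∃ g : Localization.Away f.1 →+* intAway f,
      g.IsIntegral ∧ g.comp (algebraMap A (Localization.Away f.1)) = algebraMap A (intAway f) := by
  have hu : IsUnit (algebraMap A (intAway f) f.1) := by
    refine IsUnit.of_mul_eq_one ⟨(algebraMap A Ω f.1)⁻¹, 1, ?_⟩ (Subtype.ext (mul_inv_cancel₀ f.2))
    rw [pow_one, inv_mul_cancel₀ f.2]
    exact isIntegral_one
  let g : Localization.Away f.1 →+* intAway f := IsLocalization.Away.lift f.1 hu
  refine ⟨g, fun y => ?_, IsLocalization.Away.lift_comp f.1 hu⟩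
  letI := g.toAlgebra
  haveI : IsScalarTower A (Localization.Away f.1) (intAway f) :=
    IsScalarTower.of_algebraMap_eq' (IsLocalization.Away.lift_comp f.1 hu).symm
  show IsIntegral (Localization.Away f.1) y
  obtain ⟨n, hn⟩ := y.2
  have h1 : IsIntegral A (y * algebraMap A (intAway f) f.1 ^ n) :=
    (isIntegral_algHom_iff (intAway f).val Subtype.val_injective).1 (by simpa using hn)
  have h2 : IsIntegral (Localization.Away f.1) (y * algebraMap A (intAway f) f.1 ^ n) := h1.tower_top
  have h3 : IsIntegral (Localization.Away f.1)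
      (algebraMap (Localization.Away f.1) (intAway f) (IsLocalization.Away.invSelf f.1 ^ n)) :=
    isIntegral_algebraMap
  have h4 := h2.mul h3
  rwa [IsScalarTower.algebraMap_apply A (Localization.Away f.1) (intAway f), ← map_pow, mul_assoc, ← map_mul,
    ← mul_pow, IsLocalization.Away.mul_invSelf, one_pow, map_one, mul_one] at h4

variable {Y : Scheme.{u}} (j : Spec (CommRingCat.of A) ⟶ Y) [IsOpenImmersion j]

theorem nonempty_geomPtSys_affine (hx : ∀ x : Ω, ∃ f : Den A Ω, x ∈ intAway f) :
    Nonempty (GeomPtSys (Spec.map (CommRingCat.ofHom (algebraMap A Ω)) ≫ j)) := by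
  let cc : Cocone (ringSys (A := A) (Ω := Ω)) :=
    { pt := CommRingCat.of Ω
      ι :=
        { app := fun f => CommRingCat.ofHom (intAway f).val.toRingHom
          naturality := fun a b h => rfl } }
  haveI : PreservesColimit (ringSys (A := A) (Ω := Ω)) (forget CommRingCat.{u}) := inferInstance
  haveI : ReflectsColimit (ringSys (A := A) (Ω := Ω)) (forget CommRingCat.{u}) :=
    reflectsColimit_of_reflectsIsomorphisms _ _
  have hcc : IsColimit cc := isColimitOfReflects (forget CommRingCat)
    (Types.FilteredColimit.isColimitOf' _ _ (fun x => by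
      obtain ⟨f, hf⟩ := hx x
      exact ⟨f, ⟨x, hf⟩, rfl⟩) fun i x y h => ⟨i, 𝟙 i, congrArg _ (Subtype.ext h)⟩)
  refine ⟨{ ι := Den A Ω, T := (ringSys (A := A) (Ω := Ω)).op ⋙ Scheme.Spec, isAffine := fun i => ?_,
            π := (Scheme.Spec.mapCone cc.op).π, isLimit := isLimitOfPreserves Scheme.Spec hcc.op,
            b := fun f => Spec.map (CommRingCat.ofHom (algebraMap A (intAway f.unop))) ≫ j,
            hb := fun a b h => ?_, hπ := fun f => ?_, factor := fun f => ?_ }⟩
  · show IsAffine (Spec _)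
    infer_instance
  · show Spec.map (CommRingCat.ofHom (Subalgebra.inclusion (intAway_mono (leOfHom h.unop))).toRingHom) ≫
      Spec.map (CommRingCat.ofHom (algebraMap A (intAway b.unop))) ≫ j = _
    rw [← Spec.map_comp_assoc]
    rfl
  · show Spec.map (CommRingCat.ofHom (intAway f.unop).val.toRingHom) ≫
      Spec.map (CommRingCat.ofHom (algebraMap A (intAway f.unop))) ≫ j = _
    rw [← Spec.map_comp_assoc]
    rfl
  · obtain ⟨g, hg, hgc⟩ := exists_integral_away f.unop
    haveI : IsOpenImmersion (Spec.map (CommRingCat.ofHom (algebraMap A (Localization.Away f.unop.1)))) :=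
      IsOpenImmersion.of_isLocalization f.unop.1
    refine ⟨Scheme.Etale.mk (Spec.map (CommRingCat.ofHom (algebraMap A (Localization.Away f.unop.1))) ≫ j),
      Spec.map (CommRingCat.ofHom g), IsIntegralHom.SpecMap_iff.2 hg, ?_⟩
    show Spec.map (CommRingCat.ofHom g) ≫
      Spec.map (CommRingCat.ofHom (algebraMap A (Localization.Away f.unop.1))) ≫ j = _
    rw [← Spec.map_comp_assoc, ← CommRingCat.ofHom_comp, hgc]
    rfl

end Affine

/-- An algebraic geometric point is a limit of schemes integral over étale neighbourhoods. -/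
theorem nonempty_geomPtSys (Y : Scheme.{u}) (y : Y) (Ω : Type u) [Field Ω] [Algebra (Y.residueField y) Ω]
    [Algebra.IsAlgebraic (Y.residueField y) Ω] : Nonempty (GeomPtSys (EtAcyc.geomPt Y y Ω)) := by
  obtain ⟨U, hU, hy, -⟩ := exists_isAffineOpen_mem_and_subset (X := Y) (x := y) (U := ⊤) trivial
  letI : Algebra Γ(Y, U) (Y.presheaf.stalk y) := (Y.presheaf.germ U y hy).hom.toAlgebra
  let r : Y.presheaf.stalk y →+* Ω := (algebraMap (Y.residueField y) Ω).comp (Y.residue y).hom
  letI : Algebra (Y.presheaf.stalk y) Ω := r.toAlgebra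
  letI : Algebra Γ(Y, U) Ω := (r.comp (algebraMap Γ(Y, U) (Y.presheaf.stalk y))).toAlgebra
  haveI : IsScalarTower Γ(Y, U) (Y.presheaf.stalk y) Ω := IsScalarTower.of_algebraMap_eq' rfl
  haveI hloc : IsLocalization.AtPrime (Y.presheaf.stalk y) (hU.primeIdealOf ⟨y, hy⟩).asIdeal :=
    hU.isLocalization_stalk ⟨y, hy⟩
  have hres : Function.Surjective (Y.residue y).hom := IsLocalRing.residue_surjective
  have hx : ∀ x : Ω, ∃ f : Den Γ(Y, U) Ω, x ∈ intAway f := by
    intro x
    have hint : IsIntegral (Y.presheaf.stalk y) x := by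
      have hk : IsIntegral (Y.residueField y) x := Algebra.IsIntegral.isIntegral x
      letI : Algebra (Y.presheaf.stalk y) (Y.residueField y) := (Y.residue y).hom.toAlgebra
      haveI : IsScalarTower (Y.presheaf.stalk y) (Y.residueField y) Ω := IsScalarTower.of_algebraMap_eq' rfl
      haveI : Algebra.IsIntegral (Y.presheaf.stalk y) (Y.residueField y) := ⟨fun z => by
        obtain ⟨a, rfl⟩ := hres z
        exact isIntegral_algebraMap⟩
      exact isIntegral_trans x hk
    obtain ⟨m, hm⟩ := IsIntegral.exists_multiple_integral_of_isLocalization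
      (hU.primeIdealOf ⟨y, hy⟩).asIdeal.primeCompl x hint
    have hne : algebraMap Γ(Y, U) Ω m.1 ≠ 0 := by
      rw [IsScalarTower.algebraMap_apply Γ(Y, U) (Y.presheaf.stalk y) Ω]
      exact ((IsLocalization.map_units (Y.presheaf.stalk y) m).map _).ne_zero
    refine ⟨⟨m.1, hne⟩, 1, ?_⟩
    rw [pow_one, mul_comm, ← Algebra.smul_def]
    exact hm
  haveI : IsOpenImmersion hU.fromSpec := hU.isOpenImmersion_fromSpec
  obtain ⟨T⟩ := nonempty_geomPtSys_affine hU.fromSpec hx
  have e : Spec.map (CommRingCat.ofHom (algebraMap Γ(Y, U) Ω)) ≫ hU.fromSpec = EtAcyc.geomPt Y y Ω := by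
    show Spec.map (Y.presheaf.germ U y hy ≫ (Y.residue y ≫ CommRingCat.ofHom (algebraMap (Y.residueField y) Ω))) ≫
      hU.fromSpec = _
    rw [Spec.map_comp, Category.assoc]
    refine (congrArg (fun q => Spec.map (Y.residue y ≫ CommRingCat.ofHom (algebraMap (Y.residueField y) Ω)) ≫ q)
      (hU.fromSpecStalk_eq_fromSpecStalk hy)).trans ?_
    rw [Spec.map_comp, Category.assoc]
    rfl
  exact ⟨{ T with hπ := fun i => (T.hπ i).trans e }⟩

end Groth.Agent.EtAcyc24
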