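import Groth.Agent.Lib.EtAcyc24.IntegralBase
import Groth.Agent.Lib.EtAcyc24.GeomPtSys

/-!
# Acyclicity along the system defining a geometric point
-/

set_option autoImplicit false
set_option linter.style.haveILetI false
set_option linter.unusedSectionVars false
set_option backward.isDefEq.respectTransparency.types false

universe u

open CategoryTheory CategoryTheory.Limits AlgebraicGeometry Opposite CategoryTheory.Abelian

namespace Groth.Agent.EtAcyc24

open Groth.Agent.EtStalk Groth.Agent.EtLim24

variable {X Y P : Scheme.{u}} (g : X ⟶ Y) {σ : P ⟶ Y} (S : GeomPtSys σ)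

/-- The system of base changes. -/
noncomputable def fibSys : S.ιᵒᵖ ⥤ Scheme.{u} where
  obj i := pullback g (S.b i)
  map {i j} f := pullback.lift (pullback.fst g (S.b i)) (pullback.snd g (S.b i) ≫ S.T.map f)
    (by rw [Category.assoc, S.hb f]; exact pullback.condition)
  map_id i := by
    apply pullback.hom_ext
    · simp
    · rw [pullback.lift_snd, CategoryTheory.Functor.map_id]
      simp
  map_comp f f' := by
    apply pullback.hom_ext
    · refine (pullback.lift_fst _ _ _).trans (((Category.assoc _ _ _).trans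
        ((congrArg (fun q => _ ≫ q) (pullback.lift_fst _ _ _)).trans (pullback.lift_fst _ _ _))).symm)
    · refine (pullback.lift_snd _ _ _).trans ?_
      rw [S.T.map_comp]
      exact ((Category.assoc _ _ _).trans ((congrArg (fun q => _ ≫ q) (pullback.lift_snd _ _ _)).trans
        (((Category.assoc _ _ _).symm.trans (congrArg (fun q => q ≫ S.T.map f') (pullback.lift_snd _ _ _))).trans
          (Category.assoc _ _ _)))).symm

/-- The projection from the base change to a stage. -/
noncomputable def fibProj (i : S.ιᵒᵖ) : pullback g σ ⟶ pullback g (S.b i) :=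
  pullback.lift (pullback.fst g σ) (pullback.snd g σ ≫ S.π.app i)
    (by rw [Category.assoc, S.hπ i]; exact pullback.condition)

lemma fibProj_map {i j : S.ιᵒᵖ} (f : i ⟶ j) : fibProj g S i ≫ (fibSys g S).map f = fibProj g S j := by
  apply pullback.hom_ext
  · exact ((Category.assoc _ _ _).trans ((congrArg (fun q => _ ≫ q) (pullback.lift_fst _ _ _)).trans
      (pullback.lift_fst _ _ _))).trans (pullback.lift_fst _ _ _).symm
  · exact ((Category.assoc _ _ _).trans ((congrArg (fun q => _ ≫ q) (pullback.lift_snd _ _ _)).trans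
      (((Category.assoc _ _ _).symm.trans (congrArg (fun q => q ≫ S.T.map f) (pullback.lift_snd _ _ _))).trans
        ((Category.assoc _ _ _).trans (congrArg (fun q => pullback.snd g σ ≫ q) (Cone.w (Cone.mk P S.π) f)))))).trans
      (pullback.lift_snd _ _ _).symm

/-- The cone of base changes. -/
noncomputable def fibCone : Cone (fibSys g S) :=
  Cone.mk (pullback g σ)
    { app := fibProj g S
      naturality := fun _ _ f => (Category.id_comp _).trans (fibProj_map g S f).symm }

/-- The base change is the limit. -/
noncomputable def isLimitFibCone : IsLimit (fibCone g S) := by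
  let i₀ : S.ιᵒᵖ := op (Classical.arbitrary S.ι)
  let sT (s : Cone (fibSys g S)) : Cone S.T := Cone.mk s.pt
    { app := fun i => s.π.app i ≫ pullback.snd g (S.b i)
      naturality := fun i j f => by
        refine (Category.id_comp _).trans ?_
        refine (congrArg (fun q => q ≫ pullback.snd g (S.b j)) (s.w f).symm).trans ?_
        exact ((Category.assoc _ _ _).trans (congrArg (fun q => s.π.app i ≫ q) (pullback.lift_snd _ _ _))).trans
          (Category.assoc _ _ _).symm }
  have hX : ∀ (s : Cone (fibSys g S)) (i : S.ιᵒᵖ),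
      s.π.app i ≫ pullback.fst g (S.b i) = s.π.app i₀ ≫ pullback.fst g (S.b i₀) := by
    intro s i
    have hw : ∀ {k l : S.ιᵒᵖ} (f : k ⟶ l),
        s.π.app k ≫ pullback.fst g (S.b k) = s.π.app l ≫ pullback.fst g (S.b l) := by
      intro k l f
      rw [← s.w f, Category.assoc]
      exact congrArg (fun q => s.π.app k ≫ q) (pullback.lift_fst _ _ _).symm
    obtain ⟨k, h₁, h₂⟩ := directed_of (α := S.ι) (· ≤ ·) i.unop i₀.unop
    exact (hw (homOfLE h₁).op).symm.trans (hw (homOfLE h₂).op)
  exact
    { lift := fun s => pullback.lift (s.π.app i₀ ≫ pullback.fst g (S.b i₀)) (S.isLimit.lift (sT s)) (by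
        have h2 : S.isLimit.lift (sT s) ≫ S.π.app i₀ = s.π.app i₀ ≫ pullback.snd g (S.b i₀) :=
          S.isLimit.fac (sT s) i₀
        have h3 : S.isLimit.lift (sT s) ≫ σ = S.isLimit.lift (sT s) ≫ (S.π.app i₀ ≫ S.b i₀) :=
          congrArg (fun q => S.isLimit.lift (sT s) ≫ q) (S.hπ i₀).symm
        refine Eq.trans ?_ h3.symm
        exact (((Category.assoc _ _ _).trans (congrArg (fun q => s.π.app i₀ ≫ q) pullback.condition)).trans
          (Category.assoc _ _ _).symm).trans ((congrArg (fun q => q ≫ S.b i₀) h2.symm).trans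
            (Category.assoc _ _ _)))
      fac := fun s i => by
        apply pullback.hom_ext
        · refine (Category.assoc _ _ _).trans ?_
          exact ((congrArg (fun q => _ ≫ q) (pullback.lift_fst _ _ _)).trans (pullback.lift_fst _ _ _)).trans
            (hX s i).symm
        · refine (Category.assoc _ _ _).trans ?_
          exact ((congrArg (fun q => _ ≫ q) (pullback.lift_snd _ _ _)).trans
            ((Category.assoc _ _ _).symm.trans (congrArg (fun q => q ≫ S.π.app i) (pullback.lift_snd _ _ _)))).trans
            (S.isLimit.fac (sT s) i)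
      uniq := fun s m hm => by
        apply pullback.hom_ext
        · rw [pullback.lift_fst, ← hm i₀, Category.assoc]
          exact congrArg (fun q => m ≫ q) (pullback.lift_fst _ _ _).symm
        · rw [pullback.lift_snd]
          refine S.isLimit.uniq (sT s) _ fun i => ?_
          show (m ≫ pullback.snd g σ) ≫ S.π.app i = s.π.app i ≫ pullback.snd g (S.b i)
          rw [← hm i, Category.assoc, Category.assoc]
          exact congrArg (fun q => m ≫ q) (pullback.lift_snd _ _ _).symm }

lemma isAffineHom_map {i j : S.ιᵒᵖ} (f : i ⟶ j) : IsAffineHom (S.T.map f) := inferInstance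

lemma isAffineHom_fibSys {i j : S.ιᵒᵖ} (f : i ⟶ j) : IsAffineHom ((fibSys g S).map f) := by
  let v := S.T.map f
  haveI : IsAffineHom v := isAffineHom_map S f
  have sq : IsPullback ((fibSys g S).map f) (pullback.snd g (S.b i)) (pullback.snd g (S.b j)) v :=
    IsPullback.of_right (by
      show IsPullback (pullback.lift (pullback.fst g (S.b i)) (pullback.snd g (S.b i) ≫ S.T.map f) _ ≫
        pullback.fst g (S.b j)) (pullback.snd g (S.b i)) g (v ≫ S.b j)
      rw [pullback.lift_fst, S.hb f]
      exact IsPullback.of_hasPullback g (S.b i)) (pullback.lift_snd _ _ _)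
      (IsPullback.of_hasPullback g (S.b j))
  exact MorphismProperty.of_isPullback sq.flip ‹IsAffineHom v›

lemma compactSpace_T (i : S.ιᵒᵖ) : CompactSpace ↥(S.T.obj i) := inferInstance

lemma compactSpace_fibSys [QuasiCompact g] (i : S.ιᵒᵖ) : CompactSpace ↥((fibSys g S).obj i) :=
  haveI hq : QuasiCompact (pullback.snd g (S.b i)) := MorphismProperty.pullback_snd _ _ ‹_›
  @QuasiCompact.compactSpace_of_compactSpace _ _ (pullback.snd g (S.b i)) hq (compactSpace_T S i)

lemma quasiSeparatedSpace_fibSys [QuasiSeparated g] (i : S.ιᵒᵖ) : QuasiSeparatedSpace ↥((fibSys g S).obj i) :=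
  haveI hq : QuasiSeparated (pullback.snd g (S.b i)) := MorphismProperty.pullback_snd _ _ ‹_›
  @quasiSeparatedSpace_of_quasiSeparated _ _ (pullback.snd g (S.b i)) inferInstance hq

/-- The pullback to a stage is bijective. -/
theorem bijective_HpullVia_stage (L : Set ℕ) (n : ℕ) (hg : EtAcyc.IsAcyclicN g L n) {ℓ : ℕ} (hℓ : ℓ.Prime)
    (hL : ℓ ∈ L) (i : S.ιᵒᵖ) [PreservesFiniteLimits (EtCoh.pull (pullback.snd g (S.b i)))] (q : ℕ) (hq : q ≤ n) :
    Function.Bijective (EtCore.HpullVia (pullback.snd g (S.b i)) (S.b i) (pullback.snd g (S.b i) ≫ S.b i) rfl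
      (EtCoh.const Y (ZMod ℓ)) q) := by
  obtain ⟨W, p, hp, hpW⟩ := S.factor i
  let π' : pullback g (S.b i) ⟶ pullback W.hom g :=
    pullback.lift (pullback.snd g (S.b i) ≫ p) (pullback.fst g (S.b i)) (by
      rw [Category.assoc, hpW]; exact pullback.condition.symm)
  have sq : IsPullback (pullback.snd g (S.b i)) π' p (EtAcyc.prj g W) :=
    IsPullback.of_bot (v₂₁ := pullback.snd W.hom g) (v₂₂ := W.hom) (h₃₁ := g) (by
      rw [pullback.lift_snd, hpW]
      exact (IsPullback.of_hasPullback g (S.b i)).flip) (pullback.lift_fst _ _ _).symm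
      (IsPullback.of_hasPullback W.hom g)
  haveI := hp
  have hb := bijective_Hpull_of_integral sq L n (hg W) ((EtCoh.pull (S.b i)).obj (EtCoh.const Y (ZMod ℓ)))
    (isLTorsion_push_of_smul p L hℓ hL _ (nsmul_id_pull _ (nsmul_id_const Y ℓ))) q hq
  exact (ConcreteCategory.bijective_of_isIso ((EtCoh.HF _ q).map
    (((EtCore.pullComp (pullback.snd g (S.b i)) (S.b i)).symm ≪≫ EtCore.pullCongr rfl).app
      (EtCoh.const Y (ZMod ℓ))).hom)).comp hb

end Groth.Agent.EtAcyc24
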