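import Groth.Agent.Lib.EtDesc24.SetsPush

/-!
# The étale sheaf of open subsets
-/

universe u

open CategoryTheory CategoryTheory.Limits AlgebraicGeometry Opposite
open Groth.Agent Groth.Agent.EtStalk

namespace Groth.Agent.EtAcyc24

variable (X : Scheme.{u})

/-- The presheaf of open subsets. -/
noncomputable def opensPre : X.Etaleᵒᵖ ⥤ Type (u + 1) where
  obj U := ULift.{u + 1} U.unop.left.Opens
  map {U V} g := ↾(fun O => ULift.up (g.unop.left ⁻¹ᵁ O.down))

lemma isSheaf_opensPre : Presheaf.IsSheaf X.smallEtaleTopology (opensPre X) := by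
  rw [isSheaf_iff_isSheaf_of_type]
  intro U S hS
  rw [EtSite.mem_et_iff] at hS
  intro x hx
  let T : U.left.Opens := ⟨⋃ (V : X.Etale) (g : V ⟶ U) (hg : S g), g.left '' ((x g hg).down : Set V.left),
    isOpen_iUnion fun V => isOpen_iUnion fun g => isOpen_iUnion fun _ => by
      have := etale_left g
      exact g.left.isOpenMap _ (x g _).down.isOpen⟩
  have key : ∀ (V : X.Etale) (g : V ⟶ U) (hg : S g), g.left ⁻¹ᵁ T = (x g hg).down := by
    intro V g hg
    ext v
    refine ⟨fun hv => ?_, fun hv => Set.mem_iUnion.2 ⟨V, Set.mem_iUnion.2 ⟨g, Set.mem_iUnion.2 ⟨hg, v, hv, rfl⟩⟩⟩⟩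
    obtain ⟨W, hW⟩ := Set.mem_iUnion.1 hv
    obtain ⟨g', hW⟩ := Set.mem_iUnion.1 hW
    obtain ⟨hg', w, hw, he⟩ := Set.mem_iUnion.1 hW
    have : AlgebraicGeometry.Etale g.left := etale_left g
    have : AlgebraicGeometry.Etale g'.left := etale_left g'
    let Z : X.Etale := MorphismProperty.Over.mk ⊤ (pullback.fst g'.left g.left ≫ W.hom) (by
      have : AlgebraicGeometry.Etale W.hom := W.prop
      exact (inferInstance : AlgebraicGeometry.Etale (pullback.fst g'.left g.left ≫ W.hom)))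
    let p₁ : Z ⟶ W := MorphismProperty.Over.homMk (pullback.fst g'.left g.left) rfl
    let p₂ : Z ⟶ V := MorphismProperty.Over.homMk (pullback.snd g'.left g.left) (by
      show pullback.snd g'.left g.left ≫ V.hom = pullback.fst g'.left g.left ≫ W.hom
      exact (congrArg (pullback.snd g'.left g.left ≫ ·) (MorphismProperty.Over.w g)).symm.trans
        ((Category.assoc _ _ _).symm.trans ((congrArg (· ≫ U.hom) pullback.condition.symm).trans
          ((Category.assoc _ _ _).trans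
            (congrArg (pullback.fst g'.left g.left ≫ ·) (MorphismProperty.Over.w g'))))))
    have hp : p₁ ≫ g' = p₂ ≫ g := MorphismProperty.Over.Hom.ext pullback.condition
    obtain ⟨z, hz₁, hz₂⟩ := Scheme.Pullback.exists_preimage_pullback w v he
    have h := congrArg (fun O : ULift.{u + 1} Z.left.Opens => z ∈ O.down) (hx p₁ p₂ hg' hg hp)
    change ((p₁.left z ∈ (x g' hg').down) = (p₂.left z ∈ (x g hg).down)) at h
    change p₁.left z = w at hz₁
    change p₂.left z = v at hz₂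
    rw [hz₁, hz₂] at h
    exact h ▸ hw
  refine ⟨ULift.up T, fun V g hg => ULift.ext _ _ (key V g hg), fun T' hT' => ULift.ext _ _ ?_⟩
  ext p
  obtain ⟨V, g, v, hg, rfl⟩ := hS p
  have h1 : g.left ⁻¹ᵁ T'.down = (x g hg).down := congrArg ULift.down (hT' g hg)
  show v ∈ g.left ⁻¹ᵁ T'.down ↔ v ∈ g.left ⁻¹ᵁ T
  rw [h1, key V g hg]

/-- The sheaf of open subsets. -/
noncomputable def opensSh : EtDesc.Sh X := ⟨opensPre X, isSheaf_opensPre X⟩

/-- Sections of the sheaf of opens agree near the points of an open containing both differences. -/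
lemma mem_agree_opens {U : X.Etale} {s t : U.left.Opens} {O : U.left.Opens} (h : s ⊓ O = t ⊓ O)
    {x : U.left} (hx : x ∈ O) :
    x ∈ EtDesc24.agree (opensSh X) (U := U) (ULift.up s) (ULift.up t) := by
  refine ⟨EtSite.sub U O, EtSite.subHom U O, ⟨⟨x, hx⟩, rfl⟩, ULift.ext _ _ ?_⟩
  show O.ι ⁻¹ᵁ s = O.ι ⁻¹ᵁ t
  ext p
  exact ⟨fun hp => (h ▸ (show O.ι p ∈ s ⊓ O from ⟨hp, p.2⟩) : O.ι p ∈ t ⊓ O).1,
    fun hp => (h.symm ▸ (show O.ι p ∈ t ⊓ O from ⟨hp, p.2⟩) : O.ι p ∈ s ⊓ O).1⟩

end Groth.Agent.EtAcyc24
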