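import Groth.Prelude.Def_EtAcyc
import Groth.Agent.Lib.EtAcyc24.Opens
import Groth.Agent.Lib.EtDesc24.SecPull
import Groth.Agent.Lib.Dom8.Maximal
import Mathlib.AlgebraicGeometry.IdealSheaf.Subscheme
import Mathlib.AlgebraicGeometry.PullbackCarrier

/-!
# `(-1)`-acyclic morphisms are the surjective ones
-/

universe u

open CategoryTheory CategoryTheory.Limits AlgebraicGeometry Opposite
open Groth.Agent Groth.Agent.EtStalk

namespace Groth.Agent.EtAcyc24

variable {X Y : Scheme.{u}} (g : X ⟶ Y)

theorem isMinusOneAcyclic_of_surjective [Surjective g] : EtAcyc.IsMinusOneAcyclic g := fun V F =>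
  have : Surjective (EtAcyc.prj g V) := MorphismProperty.pullback_fst _ _ ‹_›
  EtDesc24.mono_unit_of_surjective _ F

/-- The closure of the image meets the closure of a point `y` outside of the image in a proper subset. -/
theorem notMem_closure [QuasiCompact g] {y : Y} (hy : y ∉ Set.range g) :
    y ∉ closure (Set.range g ∩ closure {y}) := by
  intro hc
  let I := Scheme.IdealSheafData.vanishingIdeal ⟨closure {y}, isClosed_closure⟩
  have hI : Set.range I.subschemeι = closure {y} := by
    rw [Scheme.IdealSheafData.range_subschemeι, Scheme.IdealSheafData.coe_support_vanishingIdeal]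
    rfl
  obtain ⟨η, hη⟩ : y ∈ Set.range I.subschemeι := hI.symm ▸ subset_closure rfl
  have he := I.subschemeι.isClosedEmbedding
  have hr : Set.range (pullback.snd g I.subschemeι) = I.subschemeι ⁻¹' Set.range g := Scheme.Pullback.range_snd _ _
  have hcl : η ∈ closure (Set.range (pullback.snd g I.subschemeι)) := by
    rw [he.isEmbedding.closure_eq_preimage_closure_image, hr, Set.image_preimage_eq_inter_range, hI,
      Set.mem_preimage, hη]
    exact hc
  have hmax : ∀ z : I.subscheme, z ⤳ η → z = η := fun z hz => by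
    refine he.injective ((hz.map I.subschemeι.continuous).antisymm ?_).eq
    rw [hη, specializes_iff_mem_closure]
    exact hI ▸ ⟨z, rfl⟩
  have h := Dom8.mem_range_of_mem_closure (pullback.snd g I.subschemeι) hcl hmax
  rw [hr, Set.mem_preimage, hη] at h
  exact hy h

theorem surjective_of_isMinusOneAcyclic [QuasiCompact g] (h : EtAcyc.IsMinusOneAcyclic g) :
    Function.Surjective g := by
  intro y
  by_contra hy
  have hy' : y ∉ Set.range g := hy
  let C := closure (Set.range g ∩ closure {y})
  let U : Y.Opens := ⟨Cᶜ, isClosed_closure.isOpen_compl⟩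
  let V : Y.Etale := MorphismProperty.Over.mk ⊤ U.ι (inferInstance : AlgebraicGeometry.Etale U.ι)
  let O : V.left.Opens := ⟨(U.ι ⁻¹' closure {y})ᶜ, (isClosed_closure.preimage U.ι.continuous).isOpen_compl⟩
  let T : V.left.Etale := EtCoh.top V.left
  let s : (opensSh V.left).obj.obj (op T) := ULift.up ⊤
  let t : (opensSh V.left).obj.obj (op T) := ULift.up O
  let yV : V.left := ⟨y, notMem_closure g hy'⟩
  have hst : s ≠ t := fun e => by
    have h0 : (⊤ : V.left.Opens) = O := congrArg ULift.down e
    have : yV ∈ O := h0 ▸ (trivial : yV ∈ (⊤ : V.left.Opens))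
    exact this (subset_closure rfl)
  refine hst ((Sets.mono_iff_app_injective _).1 (h V (opensSh V.left)) (op T) ?_)
  show EtDesc24.unitAt _ _ T s = EtDesc24.unitAt _ _ T t
  refine Sets.ext_germ _ _ fun Ω _ _ ξ φ => ?_
  let x := dropFib (EtAcyc.prj g V) ξ φ
  have hx : liftFib (EtAcyc.prj g V) ξ x = φ := ((fiberIso (EtAcyc.prj g V) ξ).app T).toEquiv.apply_symm_apply φ
  rw [← hx]
  refine (Sets.germ_stalkPull _ ξ _ x s).symm.trans (Eq.trans ?_ (Sets.germ_stalkPull _ ξ _ x t))
  refine congrArg _ ((EtDesc24.mem_agree_iff_germ _ x s t).1 ?_)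
  refine mem_agree_opens V.left (U := T) (O := O) ((top_inf_eq O).trans (inf_idem O).symm) ?_
  show fibPt x ∉ U.ι ⁻¹' closure {y}
  intro hc
  have hw : x.left ≫ T.hom = ξ ≫ EtAcyc.prj g V := Over.w x
  have hp : fibPt x = EtAcyc.prj g V (ξ default) := congrArg
    (fun m : Spec (CommRingCat.of Ω) ⟶ V.left => m default) ((Category.comp_id _).symm.trans hw)
  have hg : U.ι (fibPt x) = g (pullback.snd V.hom g (ξ default)) := by
    rw [hp]
    exact congrArg (fun m : pullback V.hom g ⟶ Y => m (ξ default)) pullback.condition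
  exact ((fibPt x : U) : U).2 (subset_closure ⟨⟨_, hg.symm⟩, hc⟩)

end Groth.Agent.EtAcyc24
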